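import Cfsg.Agent.TitsK.Data

/-!
Every injective endomorphism of `T` is conjugation by an element of `H` (`TData.exists_conj`), for the abstract data
`TData`.
-/

set_option autoImplicit false

namespace Cfsg.Agent.TitsK

open Cfsg.Agent.TitsK.Abs

namespace TData

variable {G : Type*} [Group G] (D : TData G)

/-- the Sylow 2-subgroup of `T` -/
def S : Subgroup G := D.U ⊓ D.T

theorem mem_S {g : G} : g ∈ D.S ↔ g ∈ D.U ∧ g ∈ D.T := Iff.rfl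

theorem S_le_T : D.S ≤ D.T := inf_le_right
theorem S_le_U : D.S ≤ D.U := inf_le_left

theorem V_le_S : D.V ≤ D.S := le_inf D.V_le_U D.V_le_T

theorem isPGroup_S : IsPGroup 2 ↥D.S := D.isPGroup_U.to_le D.S_le_U

theorem U_conj_S {u s : G} (hu : u ∈ D.U) (hs : s ∈ D.S) : u * s * u⁻¹ ∈ D.S :=
  ⟨D.U.mul_mem (D.U.mul_mem hu hs.1) (D.U.inv_mem hu), D.T_conj u (D.U_le hu) s hs.2⟩

theorem z_mem_S : D.z ∈ D.S := D.V_le_S D.z_mem_V

theorem w0_inv : D.w0⁻¹ = D.w0 := by rw [inv_eq_iff_mul_eq_one, D.w0_sq]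

/-- conjugation by `w0` -/
theorem w0_w0 (g : G) : D.w0 * (D.w0 * g * D.w0) * D.w0 = g := by
  have e : D.w0 * (D.w0 * g * D.w0) * D.w0 = (D.w0 * D.w0) * g * (D.w0 * D.w0) := by group
  rw [e, D.w0_sq, one_mul, mul_one]

theorem w0_mul (a b : G) : D.w0 * (a * b) * D.w0 = (D.w0 * a * D.w0) * (D.w0 * b * D.w0) := by
  have e : (D.w0 * a * D.w0) * (D.w0 * b * D.w0) = D.w0 * a * (D.w0 * D.w0) * b * D.w0 := by group
  rw [e, D.w0_sq, mul_one, mul_assoc D.w0 a b]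

theorem w0_mem_T {g : G} (hg : g ∈ D.T) : D.w0 * g * D.w0 ∈ D.T :=
  D.T.mul_mem (D.T.mul_mem D.w0_mem hg) D.w0_mem

theorem w0_mem_H : D.w0 ∈ D.H := D.T_le D.w0_mem

/-- an injective homomorphism `T → G` with values in `T` -/
structure Inj (f : ↥D.T →* G) : Prop where
  inj : Function.Injective f
  mem : ∀ t, f t ∈ D.T

variable {D}

/-- conjugate of a homomorphism -/
def conjHom {G : Type*} [Group G] {T : Subgroup G} (h : G) (f : ↥T →* G) : ↥T →* G where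
  toFun t := h * f t * h⁻¹
  map_one' := by simp
  map_mul' a b := by
    rw [map_mul]
    group

theorem conjHom_apply {G : Type*} [Group G] {T : Subgroup G} (h : G) (f : ↥T →* G) (t : ↥T) :
    conjHom h f t = h * f t * h⁻¹ := rfl

theorem Inj.conj {f : ↥D.T →* G} (hf : D.Inj f) {h : G} (hh : h ∈ D.H) : D.Inj (conjHom h f) where
  inj := by
    intro a b hab
    apply hf.inj
    rw [conjHom_apply, conjHom_apply] at hab
    exact mul_left_cancel (mul_right_cancel hab)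
  mem t := D.T_conj h hh _ (hf.mem t)

/-- the image of a subgroup is a 2-group -/
theorem isPGroup_map {f : ↥D.T →* G} {A : Subgroup G} (hA : IsPGroup 2 ↥A) :
    IsPGroup 2 ↥((A.subgroupOf D.T).map f) := by
  have h1 : IsPGroup 2 ↥(A.subgroupOf D.T) := hA.comap_subtype
  exact h1.map f

theorem card_map {f : ↥D.T →* G} (hf : D.Inj f) {A : Subgroup G} (hA : A ≤ D.T) :
    Nat.card ↥((A.subgroupOf D.T).map f) = Nat.card ↥A := by
  rw [Nat.card_congr ((A.subgroupOf D.T).equivMapOfInjective f hf.inj).symm.toEquiv]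
  exact Nat.card_congr (Subgroup.subgroupOfEquivOfLe hA).toEquiv

theorem map_le {f : ↥D.T →* G} (hf : D.Inj f) (A : Subgroup G) : (A.subgroupOf D.T).map f ≤ D.T := by
  rintro _ ⟨a, -, rfl⟩
  exact hf.mem a

/-- the image of a conjugate of `S` is a conjugate of `S` -/
theorem exists_conj_map [Finite G] {f : ↥D.T →* G} (hf : D.Inj f) {A : Subgroup G} (hA : A ≤ D.T)
    (hc : Nat.card ↥A = Nat.card ↥D.S) (hp : IsPGroup 2 ↥A) :
    ∃ g ∈ D.T, (∀ (a : G) (ha : a ∈ A), g * f ⟨a, hA ha⟩ * g⁻¹ ∈ D.S) ∧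
      ∀ s ∈ D.S, ∃ (a : G) (ha : a ∈ A), s = g * f ⟨a, hA ha⟩ * g⁻¹ := by
  obtain ⟨g, hg, h⟩ := exists_conj_sub D.S_le_T D.isPGroup_S D.odd_S (map_le hf A) (isPGroup_map (f := f) hp)
  have h1 : ∀ (a : G) (ha : a ∈ A), g * f ⟨a, hA ha⟩ * g⁻¹ ∈ D.S := fun a ha =>
    h _ ⟨⟨a, hA ha⟩, ha, rfl⟩
  refine ⟨g, hg, h1, ?_⟩
  have h2 : cj g ((A.subgroupOf D.T).map f) = D.S := by
    apply Subgroup.eq_of_le_of_card_ge
    · intro x hx
      rw [mem_cj] at hx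
      have h3 := h _ hx
      have e : g * (g⁻¹ * x * g) * g⁻¹ = x := by group
      rw [e] at h3
      exact h3
    · rw [card_cj, card_map hf hA, hc]
  intro s hs
  rw [← h2, mem_cj] at hs
  obtain ⟨a, ha, he⟩ := hs
  refine ⟨a, ha, ?_⟩
  have e : (⟨(a : G), hA ha⟩ : ↥D.T) = a := rfl
  rw [e, he]
  group

/-- `f` preserves `S` and the opposite of `S` -/
structure Std (f : ↥D.T →* G) : Prop where
  inj : D.Inj f
  pos : ∀ (a : G) (ha : a ∈ D.S), f ⟨a, D.S_le_T ha⟩ ∈ D.S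
  neg : ∀ (a : G) (ha : a ∈ D.S), D.w0 * f ⟨D.w0 * a * D.w0, D.w0_mem_T ha.2⟩ * D.w0 ∈ D.S

theorem Std.pos_surj [Finite G] {f : ↥D.T →* G} (hf : Std f) {s : G} (hs : s ∈ D.S) :
    ∃ (a : G) (ha : a ∈ D.S), s = f ⟨a, D.S_le_T ha⟩ := by
  have hinj : Function.Injective (fun a : ↥D.S => (⟨f ⟨a, D.S_le_T a.2⟩, hf.pos a a.2⟩ : ↥D.S)) := by
    intro a b hab
    have h1 := hf.inj.inj (congrArg Subtype.val hab)
    have h2 := congrArg (fun t : ↥D.T => (t : G)) h1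
    exact Subtype.ext h2
  obtain ⟨a, ha⟩ := Finite.surjective_of_injective hinj ⟨s, hs⟩
  exact ⟨a, a.2, (congrArg Subtype.val ha).symm⟩

/-- **Step 1, 2**: up to conjugation, `f` preserves `S` and its opposite -/
theorem exists_std [Finite G] {f : ↥D.T →* G} (hf : D.Inj f) : ∃ h ∈ D.H, Std (conjHom h f) := by
  obtain ⟨g, hg, h1, h2⟩ := exists_conj_map hf D.S_le_T rfl D.isPGroup_S
  set f1 := conjHom g f with hf1
  have i1 : D.Inj f1 := hf.conj (D.T_le hg)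
  -- the opposite
  set A := cj D.w0 D.S with hA
  have hAT : A ≤ D.T := by
    intro x hx
    rw [hA, mem_cj, D.w0_inv] at hx
    have h3 := D.w0_mem_T hx.2
    rw [D.w0_w0] at h3
    exact h3
  obtain ⟨k, hk, h3, h4⟩ := exists_conj_map i1 hAT (card_cj _ _) (by
    have : Fact (Nat.Prime 2) := ⟨Nat.prime_two⟩
    obtain ⟨n, hn⟩ := IsPGroup.iff_card.1 D.isPGroup_S
    exact IsPGroup.of_card (by rw [hA, card_cj, hn]))
  -- `k⁻¹ S k ⊓ S = 1`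
  have h5 : ∀ s ∈ D.U ⊓ D.T, k⁻¹ * s * (k⁻¹)⁻¹ ∈ D.U ⊓ D.T → s = 1 := by
    intro s hs hs'
    obtain ⟨a, ha, e1⟩ := h4 s hs
    obtain ⟨b, hb, e2⟩ : ∃ (b : G) (hb : b ∈ D.S), k⁻¹ * s * (k⁻¹)⁻¹ = f1 ⟨b, D.S_le_T hb⟩ := h2 _ hs'
    have e3 : f1 ⟨a, hAT ha⟩ = f1 ⟨b, D.S_le_T hb⟩ := by
      rw [← e2, e1]
      group
    have e4 : a = b := congrArg (fun t : ↥D.T => (t : G)) (i1.inj e3)
    subst e4
    have e5 : a = 1 := by
      refine D.opp a hb.1 ?_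
      rw [hA, mem_cj, D.w0_inv] at ha
      exact ha.1
    subst e5
    rw [e1]
    have e6 : (⟨1, hAT ha⟩ : ↥D.T) = 1 := rfl
    rw [e6, map_one]
    group
  obtain ⟨u, hu, v, hv, hkuv⟩ := D.big k⁻¹ (D.H.inv_mem (D.T_le hk)) h5
  -- conjugation by `u⁻¹`
  have huH := D.U_le hu
  refine ⟨u⁻¹ * g, D.H.mul_mem (D.H.inv_mem huH) (D.T_le hg), ?_⟩
  have ef : ∀ t, conjHom (u⁻¹ * g) f t = u⁻¹ * f1 t * u := by
    intro t
    rw [hf1, conjHom_apply, conjHom_apply]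
    group
  refine ⟨hf.conj (D.H.mul_mem (D.H.inv_mem huH) (D.T_le hg)), ?_, ?_⟩
  · intro a ha
    rw [ef]
    have h6 := D.U_conj_S (D.U.inv_mem hu) (h1 a ha)
    rw [inv_inv] at h6
    exact h6
  · intro a ha
    rw [ef]
    have ha' : D.w0 * a * D.w0 ∈ A := by
      rw [hA, mem_cj, D.w0_inv, D.w0_w0]
      exact ha
    have h6 := h3 _ ha'
    -- `f1 (w0 a w0) = k⁻¹ s k = u w0 (v s v⁻¹) w0 u⁻¹`
    have h7 := D.U_conj_S hv h6
    have e : D.w0 * (u⁻¹ * f1 ⟨D.w0 * a * D.w0, D.w0_mem_T ha.2⟩ * u) * D.w0 =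
        v * (k * f1 ⟨D.w0 * a * D.w0, hAT ha'⟩ * k⁻¹) * v⁻¹ := by
      have e1 : k = v⁻¹ * D.w0 * u⁻¹ := by
        have e2 : k = (k⁻¹)⁻¹ := (inv_inv k).symm
        rw [e2, hkuv, mul_inv_rev, mul_inv_rev, D.w0_inv, mul_assoc]
      have e3 : (⟨D.w0 * a * D.w0, D.w0_mem_T ha.2⟩ : ↥D.T) = ⟨D.w0 * a * D.w0, hAT ha'⟩ := rfl
      rw [e1, e3]
      have e4 : v * (v⁻¹ * D.w0 * u⁻¹ * f1 ⟨D.w0 * a * D.w0, hAT ha'⟩ * (v⁻¹ * D.w0 * u⁻¹)⁻¹) * v⁻¹ =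
          D.w0 * (u⁻¹ * f1 ⟨D.w0 * a * D.w0, hAT ha'⟩ * u) * D.w0⁻¹ := by group
      rw [e4, D.w0_inv]
    rw [e]
    exact h7

/-- conjugation by `w0` of a standard homomorphism -/
def opHom (D : TData G) (f : ↥D.T →* G) : ↥D.T →* G where
  toFun t := D.w0 * f ⟨D.w0 * t * D.w0, D.w0_mem_T t.2⟩ * D.w0
  map_one' := by
    have e : (⟨D.w0 * ((1 : ↥D.T) : G) * D.w0, D.w0_mem_T (1 : ↥D.T).2⟩ : ↥D.T) = 1 := by
      apply Subtype.ext
      show D.w0 * 1 * D.w0 = 1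
      rw [mul_one, D.w0_sq]
    rw [e, map_one, mul_one, D.w0_sq]
  map_mul' a b := by
    have e : (⟨D.w0 * ((a * b : ↥D.T) : G) * D.w0, D.w0_mem_T (a * b).2⟩ : ↥D.T) =
        ⟨D.w0 * a * D.w0, D.w0_mem_T a.2⟩ * ⟨D.w0 * b * D.w0, D.w0_mem_T b.2⟩ := by
      apply Subtype.ext
      exact D.w0_mul a b
    rw [e, map_mul, D.w0_mul]

theorem opHom_apply (f : ↥D.T →* G) (t : ↥D.T) :
    opHom D f t = D.w0 * f ⟨D.w0 * t * D.w0, D.w0_mem_T t.2⟩ * D.w0 := rfl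

theorem Std.op {f : ↥D.T →* G} (hf : Std f) : Std (opHom D f) where
  inj := {
    inj := by
      intro a b hab
      rw [opHom_apply, opHom_apply] at hab
      have h1 := hf.inj.inj (mul_left_cancel (mul_right_cancel hab))
      have h2 : D.w0 * (a : G) * D.w0 = D.w0 * b * D.w0 := congrArg (fun t : ↥D.T => (t : G)) h1
      exact Subtype.ext (mul_left_cancel (mul_right_cancel h2))
    mem := fun t => D.w0_mem_T (hf.inj.mem _) }
  pos a ha := hf.neg a ha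
  neg a ha := by
    rw [opHom_apply]
    dsimp only
    rw [D.w0_w0]
    have e : (⟨D.w0 * (D.w0 * a * D.w0) * D.w0, D.w0_mem_T (D.w0_mem_T ha.2)⟩ : ↥D.T) = ⟨a, ha.2⟩ :=
      Subtype.ext (D.w0_w0 a)
    rw [e]
    exact hf.pos a ha

theorem Std.z [Finite G] {f : ↥D.T →* G} (hf : Std f) : f ⟨D.z, D.V_le_T D.z_mem_V⟩ = D.z := by
  have h1 := hf.pos D.z D.z_mem_S
  rcases D.cent_S _ h1.1 (fun c hc => by
    obtain ⟨a, ha, rfl⟩ := hf.pos_surj hc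
    rw [← map_mul, ← map_mul]
    congr 1
    apply Subtype.ext
    have h2 := D.z_central a ha.1
    show D.z * a = a * D.z
    rw [mul_inv_eq_iff_eq_mul] at h2
    exact h2.symm) with h | h
  · exfalso
    apply D.z_ne
    have h3 : f ⟨D.z, D.V_le_T D.z_mem_V⟩ = f 1 := by rw [map_one]; exact h
    exact congrArg (fun t : ↥D.T => (t : G)) (hf.inj.inj h3)
  · exact h

theorem Std.V [Finite G] {f : ↥D.T →* G} (hf : Std f) {v : G} (hv : v ∈ D.V) : f ⟨v, D.V_le_T hv⟩ ∈ D.V := by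
  apply D.zee_two _ (hf.pos v (D.V_le_S hv))
  intro c hc
  obtain ⟨a, ha, rfl⟩ := hf.pos_surj hc
  rw [← map_mul, ← map_inv, ← map_inv, ← map_mul, ← map_mul]
  have e : (⟨v, D.V_le_T hv⟩ * ⟨a, D.S_le_T ha⟩ * (⟨v, D.V_le_T hv⟩⁻¹ * ⟨a, D.S_le_T ha⟩⁻¹) : ↥D.T) =
      ⟨v * a * (v⁻¹ * a⁻¹), D.T.mul_mem (D.T.mul_mem (D.V_le_T hv) ha.2)
        (D.T.mul_mem (D.T.inv_mem (D.V_le_T hv)) (D.T.inv_mem ha.2))⟩ := rfl
  rw [e]
  rcases D.V_comm v hv a ha.1 with h | h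
  · left
    have e2 : (⟨v * a * (v⁻¹ * a⁻¹), D.T.mul_mem (D.T.mul_mem (D.V_le_T hv) ha.2)
        (D.T.mul_mem (D.T.inv_mem (D.V_le_T hv)) (D.T.inv_mem ha.2))⟩ : ↥D.T) = 1 := Subtype.ext h
    rw [e2, map_one]
  · right
    have e2 : (⟨v * a * (v⁻¹ * a⁻¹), D.T.mul_mem (D.T.mul_mem (D.V_le_T hv) ha.2)
        (D.T.mul_mem (D.T.inv_mem (D.V_le_T hv)) (D.T.inv_mem ha.2))⟩ : ↥D.T) = ⟨D.z, D.V_le_T D.z_mem_V⟩ :=
      Subtype.ext h
    rw [e2]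
    exact hf.z

theorem Std.V_surj [Finite G] {f : ↥D.T →* G} (hf : Std f) {v : G} (hv : v ∈ D.V) :
    ∃ (a : G) (ha : a ∈ D.V), v = f ⟨a, D.V_le_T ha⟩ := by
  have hinj : Function.Injective (fun a : ↥D.V => (⟨f ⟨a, D.V_le_T a.2⟩, hf.V a.2⟩ : ↥D.V)) := by
    intro a b hab
    have h1 := hf.inj.inj (congrArg Subtype.val hab)
    have h2 := congrArg (fun t : ↥D.T => (t : G)) h1
    exact Subtype.ext h2
  obtain ⟨a, ha⟩ := Finite.surjective_of_injective hinj ⟨v, hv⟩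
  exact ⟨a, a.2, (congrArg Subtype.val ha).symm⟩

/-- elements of `T` opposite to `U` -/
theorem Std.neg_mem {f : ↥D.T →* G} (hf : Std f) {g : G} (hg : g ∈ D.T) (h : D.w0 * g * D.w0 ∈ D.U) :
    D.w0 * f ⟨g, hg⟩ * D.w0 ∈ D.U := by
  have h1 := (hf.neg _ (⟨h, D.w0_mem_T hg⟩ : D.w0 * g * D.w0 ∈ D.S)).1
  have e : (⟨D.w0 * (D.w0 * g * D.w0) * D.w0, D.w0_mem_T (D.w0_mem_T hg)⟩ : ↥D.T) = ⟨g, hg⟩ :=
    Subtype.ext (D.w0_w0 g)
  rw [e] at h1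
  exact h1

theorem Std.zbm [Finite G] {f : ↥D.T →* G} (hf : Std f) : f ⟨D.zbm, D.zbm_mem⟩ = D.zbm := by
  rcases D.cent_z_opp _ (hf.inj.mem _) (hf.neg_mem D.zbm_mem D.zbm_opp) (by
    have h1 := hf.z
    rw [← h1, ← map_inv, ← map_mul, ← map_mul]
    congr 1
    exact Subtype.ext D.zbm_z) with h | h
  · exfalso
    apply D.zbm_ne
    have h3 : f ⟨D.zbm, D.zbm_mem⟩ = f 1 := by rw [map_one]; exact h
    exact congrArg (fun t : ↥D.T => (t : G)) (hf.inj.inj h3)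
  · exact h

theorem Std.yam [Finite G] {f : ↥D.T →* G} (hf : Std f) : f ⟨D.yam, D.yam_mem⟩ = D.yam := by
  rcases D.norm_V_opp _ (hf.inj.mem _) (hf.neg_mem D.yam_mem D.yam_opp) (fun v hv => by
    obtain ⟨a, ha, rfl⟩ := hf.V_surj hv
    rw [← map_inv, ← map_mul, ← map_mul]
    exact hf.V (D.yam_V a ha)) with h | h
  · exfalso
    apply D.yam_ne
    have h3 : f ⟨D.yam, D.yam_mem⟩ = f 1 := by rw [map_one]; exact h
    exact congrArg (fun t : ↥D.T => (t : G)) (hf.inj.inj h3)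
  · exact h

theorem zb_mem (D : TData G) : D.zb ∈ D.T := by
  rw [← D.w0_zbm]
  exact D.w0_mem_T D.zbm_mem

theorem ya_mem (D : TData G) : D.ya ∈ D.T := by
  rw [← D.w0_yam]
  exact D.w0_mem_T D.yam_mem

theorem Std.zb [Finite G] {f : ↥D.T →* G} (hf : Std f) : f ⟨D.zb, D.zb_mem⟩ = D.zb := by
  have h := hf.op.zbm
  rw [opHom_apply] at h
  have e : (⟨D.w0 * D.zbm * D.w0, D.w0_mem_T D.zbm_mem⟩ : ↥D.T) = ⟨D.zb, D.zb_mem⟩ := Subtype.ext D.w0_zbm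
  dsimp only at h
  rw [e] at h
  have h2 := D.w0_w0 (f ⟨D.zb, D.zb_mem⟩)
  rw [h, D.w0_zbm] at h2
  exact h2.symm

theorem Std.ya [Finite G] {f : ↥D.T →* G} (hf : Std f) : f ⟨D.ya, D.ya_mem⟩ = D.ya := by
  have h := hf.op.yam
  rw [opHom_apply] at h
  have e : (⟨D.w0 * D.yam * D.w0, D.w0_mem_T D.yam_mem⟩ : ↥D.T) = ⟨D.ya, D.ya_mem⟩ := Subtype.ext D.w0_yam
  dsimp only at h
  rw [e] at h
  have h2 := D.w0_w0 (f ⟨D.ya, D.ya_mem⟩)
  rw [h, D.w0_yam] at h2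
  exact h2.symm

/-- the subgroup of the elements of `T` fixed by `f` -/
def fixSub (f : ↥D.T →* G) : Subgroup G where
  carrier := {g | ∃ h : g ∈ D.T, f ⟨g, h⟩ = g}
  one_mem' := ⟨D.T.one_mem, map_one f⟩
  mul_mem' := by
    rintro a b ⟨ha, ha'⟩ ⟨hb, hb'⟩
    refine ⟨D.T.mul_mem ha hb, ?_⟩
    have e : (⟨a * b, D.T.mul_mem ha hb⟩ : ↥D.T) = ⟨a, ha⟩ * ⟨b, hb⟩ := rfl
    rw [e, map_mul, ha', hb']
  inv_mem' := by
    rintro a ⟨ha, ha'⟩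
    refine ⟨D.T.inv_mem ha, ?_⟩
    have e : (⟨a⁻¹, D.T.inv_mem ha⟩ : ↥D.T) = (⟨a, ha⟩)⁻¹ := rfl
    rw [e, map_inv, ha']

/-- **Step 3**: a standard homomorphism is the inclusion -/
theorem Std.eq [Finite G] {f : ↥D.T →* G} (hf : Std f) (t : ↥D.T) : f t = t := by
  have h := D.gen (fixSub f) ⟨D.ya_mem, hf.ya⟩ ⟨D.yam_mem, hf.yam⟩ ⟨D.zb_mem, hf.zb⟩ ⟨D.zbm_mem, hf.zbm⟩ t.2
  obtain ⟨h1, h2⟩ := h
  exact h2

/-- **every injective homomorphism `T → T` is conjugation by an element of `H`** -/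
theorem exists_conj [Finite G] {f : ↥D.T →* G} (hf : D.Inj f) : ∃ h ∈ D.H, ∀ t, f t = h * t * h⁻¹ := by
  obtain ⟨h, hh, hs⟩ := exists_std hf
  refine ⟨h⁻¹, D.H.inv_mem hh, fun t => ?_⟩
  have h1 := hs.eq t
  rw [conjHom_apply] at h1
  rw [← h1]
  group

end TData

end Cfsg.Agent.TitsK
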