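import Cfsg.Agent.TitsK.Abs

/-!
The facts about `²F₄(2)` and the Tits group used for the automorphism group and the fact sheet, in an abstract group
(so that the heavy ambient group `F₄(2)` does not appear in the arguments): `structure TData`.
-/

set_option autoImplicit false

namespace Cfsg.Agent.TitsK

/-- `H = ²F₄(2)`, `T` the Tits group, `U` a Sylow 2-subgroup of `H`, `V = ⟨z, z1⟩`. -/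
structure TData (G : Type*) [Group G] where
  H : Subgroup G
  T : Subgroup G
  U : Subgroup G
  V : Subgroup G
  E : Subgroup G
  w0 : G
  z : G
  z1 : G
  d : G
  ya : G
  yam : G
  zb : G
  zbm : G
  T_le : T ≤ H
  relIndex_T : T.relIndex H = 2
  T_conj : ∀ h ∈ H, ∀ t ∈ T, h * t * h⁻¹ ∈ T
  U_le : U ≤ H
  isPGroup_U : IsPGroup 2 ↥U
  odd_U : ¬ 2 ∣ U.relIndex H
  odd_S : ¬ 2 ∣ (U ⊓ T).relIndex T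
  -- `V`
  z_mem_V : z ∈ V
  z1_mem_V : z1 ∈ V
  V_cases : ∀ v ∈ V, v ≠ 1 → ∃ t ∈ T, t * v * t⁻¹ = z
  V_le_U : V ≤ U
  V_le_T : V ≤ T
  z_sq : z * z = 1
  z_ne : z ≠ 1
  V_comm : ∀ v ∈ V, ∀ c ∈ U, v * c * (v⁻¹ * c⁻¹) = 1 ∨ v * c * (v⁻¹ * c⁻¹) = z
  z_central : ∀ u ∈ U, u * z * u⁻¹ = z
  cent_V : ∀ g ∈ H, g * z * g⁻¹ = z → g * z1 * g⁻¹ = z1 → g ∈ U
  -- `d`
  d_mem_U : d ∈ U
  d_mem_T : d ∈ T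
  d_comm : ∀ v ∈ V, v * d = d * v
  cent_d : ∀ g ∈ H, g * d * g⁻¹ = d → ∀ v ∈ V, g * v * g⁻¹ ∈ V
  -- `E`
  E_le_U : E ≤ U
  E_le_T : E ≤ T
  z_mem_E : z ∈ E
  z1_mem_E : z1 ∈ E
  cent_z : ∀ g ∈ H, g * z * g⁻¹ = z → ∀ e ∈ E, g * e * g⁻¹ ∈ E
  -- centres
  cent_S : ∀ u ∈ U, (∀ c ∈ U ⊓ T, u * c = c * u) → u = 1 ∨ u = z
  zee_two : ∀ u ∈ U ⊓ T, (∀ c ∈ U ⊓ T, u * c * (u⁻¹ * c⁻¹) = 1 ∨ u * c * (u⁻¹ * c⁻¹) = z) → u ∈ V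
  z_not_central : ∃ t ∈ T, t * z * t⁻¹ ≠ z
  -- involutions
  no_outer : ∀ u ∈ U, u * u = 1 → u ∈ T
  invol : ∀ u ∈ U ⊓ T, u * u = 1 → u ≠ 1 → (∃ t ∈ T, t * u * t⁻¹ = z) ∨ (∃ t ∈ T, t * u * t⁻¹ = d)
  kill : ∀ u ∈ U ⊓ T, u * z1 = z1 * u → u * d = d * u → u ≠ 1 → u ≠ d → ∀ N : Subgroup G, d ∈ N → u ∈ N →
    (∀ c ∈ T, c * d = d * c → ∀ n ∈ N, c * n * c⁻¹ ∈ N) → ∃ x ∈ N, ∃ t ∈ T, t * x * t⁻¹ = z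
  -- the opposite subgroup
  w0_mem : w0 ∈ T
  w0_sq : w0 * w0 = 1
  opp : ∀ g ∈ U, w0 * g * w0 ∈ U → g = 1
  big : ∀ g ∈ H, (∀ s ∈ U ⊓ T, g * s * g⁻¹ ∈ U ⊓ T → s = 1) → ∃ u ∈ U, ∃ v ∈ U, g = u * w0 * v
  cent_z_opp : ∀ g ∈ T, w0 * g * w0 ∈ U → g * z * g⁻¹ = z → g = 1 ∨ g = zbm
  norm_V_opp : ∀ g ∈ T, w0 * g * w0 ∈ U → (∀ v ∈ V, g * v * g⁻¹ ∈ V) → g = 1 ∨ g = yam
  zbm_mem : zbm ∈ T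
  zbm_opp : w0 * zbm * w0 ∈ U
  zbm_z : zbm * z * zbm⁻¹ = z
  zbm_ne : zbm ≠ 1
  yam_mem : yam ∈ T
  yam_opp : w0 * yam * w0 ∈ U
  yam_V : ∀ v ∈ V, yam * v * yam⁻¹ ∈ V
  yam_ne : yam ≠ 1
  w0_zbm : w0 * zbm * w0 = zb
  w0_yam : w0 * yam * w0 = ya
  gen : ∀ K : Subgroup G, ya ∈ K → yam ∈ K → zb ∈ K → zbm ∈ K → T ≤ K

end Cfsg.Agent.TitsK
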