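import Cfsg.Agent.FourTwo.UCode

/-!
The codes stay below `2 ^ 24`: `mulU_lt`, `invU_lt`, `conjU_lt`, `colW_lt`.
-/

set_option autoImplicit false

namespace Cfsg.Agent.TitsK

open Cfsg.Agent.FourTwo.UCode

theorem insAll_lt {f : ℕ → ℕ → ℕ} (hf : ∀ e k, e < 2 ^ 24 → k < 24 → f e k < 2 ^ 24) (e : ℕ) :
    ∀ (l : List Ent) (acc : ℕ), (∀ a ∈ l, a.2.1 < 24 ∧ ∀ c ∈ a.2.2, c < 24) → acc < 2 ^ 24 →
      insAll f e l acc < 2 ^ 24
  | [], acc, _, h => h
  | a :: l, acc, h, hacc => by
    have ih := insAll_lt hf e l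
    have hl := fun b hb => h b (List.mem_cons_of_mem a hb)
    have ha := h a List.mem_cons_self
    have hfold : ∀ (cs : List ℕ) (acc : ℕ), (∀ c ∈ cs, c < 24) → acc < 2 ^ 24 →
        (List.rec (motive := fun _ => ℕ → ℕ) (fun acc => acc)
          (fun c _ ih' acc => force (f acc c) ih') cs acc : ℕ) < 2 ^ 24 := by
      intro cs
      induction cs with
      | nil => intro acc _ h; exact h
      | cons c cs ihc =>
        intro acc hc hacc
        show force (f acc c) (fun acc => (List.rec (motive := fun _ => ℕ → ℕ) (fun acc => acc)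
          (fun c _ ih' acc => force (f acc c) ih') cs acc : ℕ)) < 2 ^ 24
        rw [force_eq]
        exact ihc _ (fun d hd => hc d (List.mem_cons_of_mem _ hd)) (hf _ _ hacc (hc c List.mem_cons_self))
    show cond (Nat.beq (Nat.land e a.1) 0) (insAll f e l acc)
      (force (f (List.rec (motive := fun _ => ℕ → ℕ) (fun acc => acc)
        (fun c _ ih' acc => force (f acc c) ih') a.2.2 acc) a.2.1) (insAll f e l)) < 2 ^ 24
    cases Nat.beq (Nat.land e a.1) 0
    · rw [cond_false, force_eq]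
      exact ih _ hl (hf _ _ (hfold _ _ ha.2 hacc) ha.1)
    · rw [cond_true]
      exact ih _ hl hacc

theorem mg_lt : ∀ (n e j : ℕ), e < 2 ^ 24 → j < 24 → mg n e j < 2 ^ 24
  | 0, e, j, he, _ => he
  | n + 1, e, j, he, hj => by
    have hrow := chkRow_of hj
    unfold chkRow at hrow
    rw [Bool.and_eq_true, Bool.and_eq_true, Bool.and_eq_true] at hrow
    obtain ⟨⟨⟨h1, h2⟩, h3⟩, -⟩ := hrow
    have h1 := of_decide_eq_true h1
    have h2 := of_decide_eq_true h2
    have h3 := of_decide_eq_true h3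
    have hp : 2 ^ j < 2 ^ 24 := Nat.pow_lt_pow_right (by norm_num) hj
    rw [mg_succ, h1, h2, h3]
    cases Nat.beq (Nat.land e (row j).2.1) 0
    · rw [cond_false]
      refine insAll_lt (fun e k he hk => mg_lt n e k he hk) e _ _ ?_ ?_
      · intro a ha
        unfold want at ha
        rw [List.mem_map] at ha
        obtain ⟨k, hk, rfl⟩ := ha
        rw [List.mem_range'_1] at hk
        exact ⟨by show k < 24; omega, fun c hc => ((cs_facts (by omega) (by omega)).1 c hc).2⟩
      · have h4 : Nat.mod e (2 ^ (j + 1)) ≤ e := Nat.mod_le _ _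
        exact Nat.xor_lt_two_pow (lt_of_le_of_lt h4 he) hp
    · rw [cond_true]
      exact Nat.xor_lt_two_pow he hp

theorem colF_lt : ∀ (w : List ℕ) (e : ℕ), (∀ c ∈ w, c < 24) → e < 2 ^ 24 → colF w e < 2 ^ 24
  | [], _, _, h => h
  | c :: w, e, h, he => by
    show force (mg 24 e c) (colF w) < 2 ^ 24
    rw [force_eq]
    exact colF_lt w _ (fun d hd => h d (List.mem_cons_of_mem _ hd)) (mg_lt 24 e c he (h c List.mem_cons_self))

theorem colW_lt {w : List ℕ} (h : ∀ c ∈ w, c < 24) : colW w < 2 ^ 24 := colF_lt w 0 h (by norm_num)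

theorem mulU_lt {a : ℕ} (ha : a < 2 ^ 24) (b : ℕ) : mulU a b < 2 ^ 24 :=
  colF_lt _ _ (fun _ hc => (mem_lets.1 hc).1) ha

theorem invU_lt (a : ℕ) : invU a < 2 ^ 24 :=
  colF_lt _ _ (fun _ hc => (mem_lets.1 (List.mem_reverse.1 hc)).1) (by norm_num)

theorem conjU_lt {c : ℕ} (hc : c < 2 ^ 24) (a : ℕ) : conjU c a < 2 ^ 24 := by
  unfold conjU
  rw [force_eq]
  exact colF_lt _ _ (fun _ hd => (mem_lets.1 (List.mem_reverse.1 hd)).1) (mulU_lt hc a)

end Cfsg.Agent.TitsK
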