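import Cfsg.Agent.TitsK.Table
import Cfsg.Agent.TitsK.Bound

/-!
Kernel enumerations in `UT`: `cent_UT`, `zee_two`, `kill_spec`.
-/

set_option autoImplicit false
set_option Elab.async false

namespace Cfsg.Agent.TitsK

open Cfsg.Lie Cfsg.Agent.ChevalleyStructure.TwF4.Tables
open Cfsg.Agent.FourTwo.Base hiding bar bar_lt
open Cfsg.Agent.FourTwo.BN Cfsg.Agent.FourTwo.Comm Cfsg.Agent.FourTwo.Classes
open Cfsg.Agent.FourTwo.UCode (mulU invU conjU lets colW colF force force_eq mem_lets wel_lets wel_mem)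

/-- generators of `ST` -/
def Sg : List ℕ := [513, 80, 8448, 266240, 263662, 1179754, 4196554]

theorem Sg_TT : ∀ c ∈ Sg, ec c ∈ TT := by
  intro c hc
  simp only [Sg, List.mem_cons, List.not_mem_nil, or_false] at hc
  rcases hc with rfl | rfl | rfl | rfl | rfl | rfl | rfl
  · exact t513
  · exact t80
  · exact t8448
  · exact t266240
  · exact t263662
  · exact t1179754
  · exact t4196554

theorem u263662 : ec 263662 ∈ UT := by
  have h : mulU 74 263172 = 263662 := by decide +kernel
  rw [← h, ec_mulU]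
  exact UT.mul_mem ec74 ec263172

theorem u1179754 : ec 1179754 ∈ UT := by
  have h : mulU 74 1179680 = 1179754 := by decide +kernel
  rw [← h, ec_mulU]
  exact UT.mul_mem ec74 ec1179680

theorem u4196554 : ec 4196554 ∈ UT := by
  have h : mulU 74 4196480 = 4196554 := by decide +kernel
  rw [← h, ec_mulU]
  exact UT.mul_mem ec74 ec4196480

theorem Sg_UT : ∀ c ∈ Sg, ec c ∈ UT := by
  intro c hc
  simp only [Sg, List.mem_cons, List.not_mem_nil, or_false] at hc
  rcases hc with rfl | rfl | rfl | rfl | rfl | rfl | rfl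
  · exact ec513
  · exact ec80
  · exact ec8448
  · exact ec266240
  · exact u263662
  · exact u1179754
  · exact u4196554

theorem Sg_lt : ∀ c ∈ Sg, c < 2 ^ 24 := by decide

theorem chk_cent : allU (fun e => Nat.beq e 0 || Nat.beq e 9437184 ||
    !(Sg.all fun c => Nat.beq (mulU e c) (mulU c e))) = true := by decide +kernel

/-- the centraliser of `ST` in `UT` -/
theorem cent_UT {u : LL} (hu : u ∈ UT) (h : ∀ c ∈ Sg, u * ec c = ec c * u) : u = 1 ∨ u = z := by
  obtain ⟨e, he, rfl, -, h2⟩ := UT_all chk_cent hu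
  rw [Bool.or_eq_true, Bool.or_eq_true] at h2
  rcases h2 with (h2 | h2) | h2
  · left
    rw [Nat.eq_of_beq_eq_true h2, ec_zero]
  · right
    rw [Nat.eq_of_beq_eq_true h2]
    rfl
  · exfalso
    rw [Bool.not_eq_true', ← Bool.not_eq_true] at h2
    apply h2
    rw [List.all_eq_true]
    intro c hc
    have h3 := h c hc
    rw [← ec_mulU, ← ec_mulU] at h3
    rw [ec_inj (mulU_lt he c) (mulU_lt (Sg_lt c hc) e) h3]
    exact Nat.beq_refl _

theorem chk_zee : allS (fun e => memB e [0, 9437184, 4259840, 13697024] ||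
    !(Sg.all fun c => force (commU e c) fun f => Nat.beq f 0 || Nat.beq f 9437184)) = true := by decide +kernel

/-- the second centre of `ST` -/
theorem zee_two {u : LL} (hu : u ∈ UT) (hT : u ∈ TT)
    (h : ∀ c ∈ Sg, u * ec c * (u⁻¹ * (ec c)⁻¹) = 1 ∨ u * ec c * (u⁻¹ * (ec c)⁻¹) = z) :
    u = 1 ∨ u = z ∨ u = z1 ∨ u = z * z1 := by
  obtain ⟨e, he, rfl, -, h2⟩ := ST_all chk_zee hu hT
  rw [Bool.or_eq_true] at h2
  rcases h2 with h2 | h2
  · have h3 := memB_spec h2
    simp only [List.mem_cons, List.not_mem_nil, or_false] at h3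
    rcases h3 with rfl | rfl | rfl | rfl
    · exact Or.inl ec_zero
    · exact Or.inr (Or.inl rfl)
    · exact Or.inr (Or.inr (Or.inl rfl))
    · exact Or.inr (Or.inr (Or.inr z_mul_z1.symm))
  · exfalso
    rw [Bool.not_eq_true', ← Bool.not_eq_true] at h2
    apply h2
    rw [List.all_eq_true]
    intro c hc
    have h3 := h c hc
    have hlt : commU e c < 2 ^ 24 := mulU_lt (mulU_lt he c) _
    rw [← ec_commU] at h3
    rw [force_eq, Bool.or_eq_true]
    rcases h3 with h3 | h3
    · left
      rw [← ec_zero] at h3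
      rw [ec_inj hlt (by norm_num) h3]
      rfl
    · right
      rw [ec_inj hlt (by norm_num) h3]
      rfl

/-- the elements killed by `tab` -/
def killE (e : ℕ) : Bool := memB e LA || memB (mulU e 2129920) LA ||
  force (mulU e e) fun s => memB s LA || memB (mulU s 2129920) LA

/-- the elements killed by `tab` -/
def kill (e : ℕ) : Bool := killE e || [540672, 266240, 80, 8448].any fun c => force (commU e c) killE

theorem chk_kill : allS (fun e => cond (Nat.beq (mulU e 4259840) (mulU 4259840 e))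
    (cond (Nat.beq (mulU e 2129920) (mulU 2129920 e)) (Nat.beq e 0 || Nat.beq e 2129920 || kill e) true) true) = true := by
  decide +kernel

theorem killE_spec {e : ℕ} (h : killE e = true) {N : Subgroup LL} (hd : d ∈ N) (he : ec e ∈ N) :
    ∃ x ∈ N, ∃ t ∈ TT, t * x * t⁻¹ = z := by
  unfold killE at h
  rw [force_eq, Bool.or_eq_true, Bool.or_eq_true, Bool.or_eq_true] at h
  rcases h with (h | h) | (h | h)
  · exact ⟨_, he, LA_spec _ (memB_spec h)⟩
  · refine ⟨_, ?_, LA_spec _ (memB_spec h)⟩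
    rw [ec_mulU]
    exact N.mul_mem he hd
  · refine ⟨_, ?_, LA_spec _ (memB_spec h)⟩
    rw [ec_mulU]
    exact N.mul_mem he he
  · refine ⟨_, ?_, LA_spec _ (memB_spec h)⟩
    rw [ec_mulU, ec_mulU]
    exact N.mul_mem (N.mul_mem he he) hd

theorem kill_comm : ∀ c ∈ [540672, 266240, 80, 8448], ec c * d = d * ec c := by
  have h : ([540672, 266240, 80, 8448].all fun c => Nat.beq (mulU c 2129920) (mulU 2129920 c)) = true := by
    decide +kernel
  rw [List.all_eq_true] at h
  intro c hc
  have h1 := Nat.eq_of_beq_eq_true (h c hc)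
  unfold d
  rw [← ec_mulU, ← ec_mulU, h1]

theorem kill_TT : ∀ c ∈ [540672, 266240, 80, 8448], ec c ∈ TT := by
  intro c hc
  simp only [List.mem_cons, List.not_mem_nil, or_false] at hc
  rcases hc with rfl | rfl | rfl | rfl
  · exact t540672
  · exact t266240
  · exact t80
  · exact t8448

/-- a subgroup `N` containing `d`, normalised by `C_TT(d)`, with an element `u ≠ 1, d` of `ST` commuting with `z1` and
`d`, contains a conjugate of `z` -/
theorem kill_spec {u : LL} (hu : u ∈ UT) (hT : u ∈ TT) (h1 : u * z1 = z1 * u) (h2 : u * d = d * u) (hu1 : u ≠ 1)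
    (hud : u ≠ d) {N : Subgroup LL} (hd : d ∈ N) (huN : u ∈ N)
    (hN : ∀ c ∈ TT, c * d = d * c → ∀ n ∈ N, c * n * c⁻¹ ∈ N) : ∃ x ∈ N, ∃ t ∈ TT, t * x * t⁻¹ = z := by
  obtain ⟨e, he, rfl, -, h3⟩ := ST_all chk_kill hu hT
  have e1 : Nat.beq (mulU e 4259840) (mulU 4259840 e) = true := by
    unfold z1 at h1
    rw [← ec_mulU, ← ec_mulU] at h1
    rw [ec_inj (mulU_lt he _) (mulU_lt (by norm_num) e) h1]
    exact Nat.beq_refl _
  have e2 : Nat.beq (mulU e 2129920) (mulU 2129920 e) = true := by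
    unfold d at h2
    rw [← ec_mulU, ← ec_mulU] at h2
    rw [ec_inj (mulU_lt he _) (mulU_lt (by norm_num) e) h2]
    exact Nat.beq_refl _
  rw [e1, cond_true, e2, cond_true, Bool.or_eq_true, Bool.or_eq_true] at h3
  rcases h3 with (h3 | h3) | h3
  · exfalso
    rw [Nat.eq_of_beq_eq_true h3, ec_zero] at hu1
    exact hu1 rfl
  · exfalso
    rw [Nat.eq_of_beq_eq_true h3] at hud
    exact hud rfl
  · unfold kill at h3
    rw [Bool.or_eq_true, List.any_eq_true] at h3
    rcases h3 with h3 | ⟨c, hc, h3⟩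
    · exact killE_spec h3 hd huN
    · rw [force_eq] at h3
      refine killE_spec h3 hd ?_
      rw [ec_commU, mul_assoc]
      refine N.mul_mem huN ?_
      rw [← mul_assoc]
      exact hN _ (kill_TT c hc) (kill_comm c hc) _ (N.inv_mem huN)

end Cfsg.Agent.TitsK
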