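import Cfsg.Agent.TitsK.Rank

/-!
Generators of the Tits group: `TT_eq : TT = closure {ya, yam, zb, zbm}`.
-/

set_option autoImplicit false

namespace Cfsg.Agent.TitsK

open Cfsg.Lie Cfsg.Agent.ChevalleyStructure.TwF4.Tables
open Cfsg.Agent.FourTwo.Base hiding bar bar_lt
open Cfsg.Agent.FourTwo.BN Cfsg.Agent.FourTwo.Comm Cfsg.Agent.FourTwo.Classes
open Cfsg.Agent.FourTwo.UCode (mulU invU conjU lets colW colF force force_eq mem_lets wel_lets wel_mem)
open Cfsg.Agent.TitsK.Abs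

/-- the subgroup generated by `ya`, `yam`, `zb`, `zbm` -/
def DD : Subgroup LL := Subgroup.closure {ya, yam, zb, zbm}

theorem ya_mem_DD : ya ∈ DD := Subgroup.subset_closure (by simp)
theorem yam_mem_DD : yam ∈ DD := Subgroup.subset_closure (by simp)
theorem zb_mem_DD : zb ∈ DD := Subgroup.subset_closure (by simp)
theorem zbm_mem_DD : zbm ∈ DD := Subgroup.subset_closure (by simp)

theorem DD_le {H : Subgroup LL} (h1 : ya ∈ H) (h2 : yam ∈ H) (h3 : zb ∈ H) (h4 : zbm ∈ H) : DD ≤ H := by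
  unfold DD
  rw [Subgroup.closure_le]
  intro g hg
  simp only [Set.mem_insert_iff, Set.mem_singleton_iff] at hg
  rcases hg with rfl | rfl | rfl | rfl
  · exact h1
  · exact h2
  · exact h3
  · exact h4

theorem DD_le_TT : DD ≤ TT := DD_le ya_mem_TT yam_mem_TT zb_mem_TT zbm_mem_TT

theorem na_mem_DD : na ∈ DD := by
  rw [na_eq]
  exact DD.mul_mem (DD.mul_mem ya_mem_DD yam_mem_DD) ya_mem_DD

theorem nb_mem_DD : nb ∈ DD := by
  rw [nb_eq]
  exact DD.mul_mem (DD.mul_mem (DD.mul_mem (DD.mul_mem zb_mem_DD zbm_mem_DD) zb_mem_DD) zbm_mem_DD) zb_mem_DD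

theorem DD_na {r e : ℕ} (h : ec r ∈ DD) (hp : posW [0, 3] r = true) (he : reflW [0, 3] r = e) : ec e ∈ DD := by
  rw [← he, ← nw_conj_ec (by decide) hp]
  exact DD.mul_mem (DD.mul_mem na_mem_DD h) (DD.inv_mem na_mem_DD)

theorem DD_nb {r e : ℕ} (h : ec r ∈ DD) (hp : posW [1, 2, 1, 2] r = true) (he : reflW [1, 2, 1, 2] r = e) :
    ec e ∈ DD := by
  rw [← he, ← nw_conj_ec (by decide) hp]
  exact DD.mul_mem (DD.mul_mem nb_mem_DD h) (DD.inv_mem nb_mem_DD)

theorem dd513 : ec 513 ∈ DD := by rw [← ya_eq]; exact ya_mem_DD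
theorem dd80 : ec 80 ∈ DD := by rw [← zb_eq]; exact zb_mem_DD
theorem dd8448 : ec 8448 ∈ DD := DD_nb dd513 (by decide +kernel) (by decide +kernel)
theorem dd540672 : ec 540672 ∈ DD := DD_na dd8448 (by decide +kernel) (by decide +kernel)
theorem dd2129920 : ec 2129920 ∈ DD := DD_nb dd540672 (by decide +kernel) (by decide +kernel)

theorem dd_c1 : ec 10418592 ∈ DD := by
  have h : commU 513 80 = 10418592 := by decide +kernel
  rw [← h, ec_commU]
  exact DD.mul_mem (DD.mul_mem dd513 dd80) (DD.mul_mem (DD.inv_mem dd513) (DD.inv_mem dd80))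

theorem dd_c2 : ec 14927397 ∈ DD := DD_nb dd_c1 (by decide +kernel) (by decide +kernel)

theorem dd_c2b : ec 14930980 ∈ DD := by
  have h : mulU 513 14927397 = 14930980 := by decide +kernel
  rw [← h, ec_mulU]
  exact DD.mul_mem dd513 dd_c2

theorem yb_conj_ya : yb * ya * yb⁻¹ ∈ DD := by
  have h : mulU (mulU (mulU 513 14930980) 2129920) 10418592 = conjU 74 513 := by decide +kernel
  rw [yb_eq, ya_eq, ← ec_conjU, ← h, ec_mulU, ec_mulU, ec_mulU]
  exact DD.mul_mem (DD.mul_mem (DD.mul_mem dd513 dd_c2b) dd2129920) dd_c1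

theorem na_conj_yb : na * yb * na⁻¹ = ec 263172 := by
  have e : reflW [0, 3] 74 = 263172 := by decide +kernel
  rw [yb_eq, ← e]
  exact nw_conj_ec (w := [0, 3]) (by decide) (by decide +kernel)

theorem yb_conj_yam : yb * yam * yb⁻¹ = yam := by
  have h : conjU 263172 513 = 513 := by decide +kernel
  have h1 : ec 263172 * ya * (ec 263172)⁻¹ = ya := by rw [ya_eq, ← ec_conjU, h]
  rw [← na_conj_yb] at h1
  have h2 : na * (na * yb * na⁻¹ * ya * (na * yb * na⁻¹)⁻¹) * na⁻¹ = yam := by rw [h1, na_conj_ya]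
  have h3 : na * (na * yb * na⁻¹ * ya * (na * yb * na⁻¹)⁻¹) * na⁻¹ =
      (na * na) * yb * (na⁻¹ * ya * na) * yb⁻¹ * (na * na)⁻¹ := by group
  rw [h3, na_mul_self] at h2
  have h4 : na⁻¹ * ya * na = yam := by
    have h5 := na_conj_ya
    rw [na_inv] at h5 ⊢
    exact h5
  rw [h4, one_mul, inv_one, mul_one] at h2
  exact h2

theorem yb_norm : yb ∈ Subgroup.normalizer (DD : Set LL) := by
  apply mem_normalizer_of
  intro x hx
  have key : DD ≤ cj yb⁻¹ DD := by
    apply DD_le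
    · rw [mem_cj, inv_inv]
      exact yb_conj_ya
    · rw [mem_cj, inv_inv, yb_conj_yam]
      exact yam_mem_DD
    · rw [mem_cj, inv_inv, ← yb_sq]
      have e : yb * (yb * yb) * yb⁻¹ = yb * yb := by group
      rw [e, yb_sq]
      exact zb_mem_DD
    · rw [mem_cj, inv_inv, yb_conj_zbm, ← nb_eq]
      exact nb_mem_DD
  have h := key hx
  rw [mem_cj, inv_inv] at h
  exact h

theorem mem_norm_of_mem {G : Type*} [Group G] {H : Subgroup G} {g : G} (h : g ∈ H) :
    g ∈ Subgroup.normalizer (H : Set G) := Subgroup.le_normalizer h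

theorem ybm_norm : ybm ∈ Subgroup.normalizer (DD : Set LL) := by
  rw [← nb_conj_yb]
  exact Subgroup.mul_mem _ (Subgroup.mul_mem _ (mem_norm_of_mem nb_mem_DD) yb_norm)
    (Subgroup.inv_mem _ (mem_norm_of_mem nb_mem_DD))

theorem HT_le_norm : HT ≤ Subgroup.normalizer (DD : Set LL) :=
  HT_le (mem_norm_of_mem ya_mem_DD) (mem_norm_of_mem yam_mem_DD) yb_norm ybm_norm

theorem HT_le_mulSub : HT ≤ mulSub DD yb yb_norm := by
  have hD : DD ≤ mulSub DD yb yb_norm := fun g hg => ⟨0, g, hg, by group⟩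
  have hy : yb ∈ mulSub DD yb yb_norm := ⟨1, 1, DD.one_mem, by group⟩
  refine HT_le (hD ya_mem_DD) (hD yam_mem_DD) hy ?_
  rw [← nb_conj_yb]
  exact Subgroup.mul_mem _ (Subgroup.mul_mem _ (hD nb_mem_DD) hy) (Subgroup.inv_mem _ (hD nb_mem_DD))

/-- **generators of the Tits group** -/
theorem TT_eq : TT = DD := by
  apply le_antisymm _ DD_le_TT
  have h1 : DD.relIndex HT ∣ 2 := relIndex_dvd_of_mulSub yb_norm yb_mem_HT
    (fun b hb q hq => (Subgroup.mem_normalizer_iff.1 (HT_le_norm hb) q).1 hq)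
    (by rw [pow_two, yb_sq]; exact zb_mem_DD) HT_le_mulSub
  rw [← Subgroup.relIndex_mul_relIndex DD TT HT DD_le_TT TT_le, relIndex_TT] at h1
  have h2 : DD.relIndex TT * 2 ∣ 1 * 2 := by
    rw [one_mul]
    exact h1
  have h3 := Nat.dvd_one.1 (Nat.dvd_of_mul_dvd_mul_right (by norm_num) h2)
  exact Subgroup.relIndex_eq_one.1 h3

theorem TT_le_of {H : Subgroup LL} (h1 : ya ∈ H) (h2 : yam ∈ H) (h3 : zb ∈ H) (h4 : zbm ∈ H) : TT ≤ H := by
  rw [TT_eq]
  exact DD_le h1 h2 h3 h4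

end Cfsg.Agent.TitsK
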