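import Cfsg.Agent.TitsK.EnumA
import Cfsg.Agent.TitsK.EnumB
import Cfsg.Agent.TitsK.Gen
import Cfsg.Agent.TitsK.Data

/-!
The data `TData` for `²F₄(2)` and the Tits group inside `F₄(2)`: `tdata`.
-/

set_option autoImplicit false

namespace Cfsg.Agent.TitsK

open Cfsg.Lie Cfsg.Agent.ChevalleyStructure.TwF4.Tables
open Cfsg.Agent.FourTwo.Base hiding bar bar_lt
open Cfsg.Agent.FourTwo.BN Cfsg.Agent.FourTwo.Comm Cfsg.Agent.FourTwo.Classes
open Cfsg.Agent.FourTwo.UCode (mulU invU conjU lets colW colF force force_eq mem_lets wel_lets wel_mem)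
open Cfsg.Agent.TitsK.Abs

theorem odd_UT : ¬ 2 ∣ UT.relIndex HT := by
  rw [relIndex_UT]
  norm_num

theorem card_aux {G : Type*} [Group G] [Finite G] {U T H : Subgroup G} (hU : U ≤ H) (hT : T.relIndex H = 2)
    (hc : Nat.card ↥U = 2 ^ 12) (hT2 : Nat.card ↥T = 2 ^ 11 * 3 ^ 3 * 5 ^ 2 * 13) : ¬ 2 ∣ (U ⊓ T).relIndex T := by
  have h1 : T.relIndex U ∣ 2 := by
    rw [← hT]
    have : (T.subgroupOf H).Normal := Subgroup.normal_of_index_eq_two hT
    have h2 := Subgroup.relIndex_dvd_index_of_normal (T.subgroupOf H) (U.subgroupOf H)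
    have h3 : (T.subgroupOf H).relIndex (U.subgroupOf H) = T.relIndex U :=
      Subgroup.relIndex_subgroupOf hU
    rw [h3] at h2
    exact h2
  have h4 : (U ⊓ T).relIndex U = T.relIndex U := Subgroup.inf_relIndex_left U T
  have h5 : Nat.card ↥(U ⊓ T : Subgroup G) * (U ⊓ T).relIndex U = 2 ^ 12 := by
    rw [← hc, Subgroup.relIndex, ← ((U ⊓ T).subgroupOf U).card_mul_index,
      Nat.card_congr (Subgroup.subgroupOfEquivOfLe (inf_le_left : U ⊓ T ≤ U)).toEquiv]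
  have h6 : Nat.card ↥(U ⊓ T : Subgroup G) * (U ⊓ T).relIndex T = 2 ^ 11 * 3 ^ 3 * 5 ^ 2 * 13 := by
    rw [← hT2, Subgroup.relIndex, ← ((U ⊓ T).subgroupOf T).card_mul_index,
      Nat.card_congr (Subgroup.subgroupOfEquivOfLe (inf_le_right : U ⊓ T ≤ T)).toEquiv]
  intro h
  obtain ⟨k, hk⟩ := h
  rw [h4] at h5
  rw [hk] at h6
  rcases (Nat.dvd_prime Nat.prime_two).1 h1 with h7 | h7
  · rw [h7] at h5
    have h8 : Nat.card ↥(U ⊓ T : Subgroup G) = 4096 := by omega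
    rw [h8] at h6
    omega
  · rw [h7] at h5
    have h8 : Nat.card ↥(U ⊓ T : Subgroup G) = 2048 := by omega
    rw [h8] at h6
    omega

theorem odd_ST : ¬ 2 ∣ (UT ⊓ TT).relIndex TT := card_aux UT_le_HT relIndex_TT card_UT card_TT

theorem V4_cases {v : LL} (hv : v ∈ V4) (h1 : v ≠ 1) : ∃ t ∈ TT, t * v * t⁻¹ = z := by
  rcases mem_V4_iff.1 hv with rfl | rfl | rfl | rfl
  · exact absurd rfl h1
  · exact LA_spec 9437184 (memB_spec (by decide +kernel))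
  · exact LA_spec 4259840 (memB_spec (by decide +kernel))
  · rw [z_mul_z1]
    exact LA_spec 13697024 (memB_spec (by decide +kernel))

theorem z_inv : z⁻¹ = z := by rw [inv_eq_iff_mul_eq_one, z_sq]
theorem z1_inv : z1⁻¹ = z1 := by rw [inv_eq_iff_mul_eq_one, z1_sq]

theorem V4_comm {v : LL} (hv : v ∈ V4) {c : LL} (hc : c ∈ UT) :
    v * c * (v⁻¹ * c⁻¹) = 1 ∨ v * c * (v⁻¹ * c⁻¹) = z := by
  have hzc := z_central hc
  have hzz : z * z1 = z1 * z := by rw [z_mul_z1, z1_mul_z]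
  have e : v * c * (v⁻¹ * c⁻¹) = v * (c * v * c⁻¹)⁻¹ := by group
  rw [e]
  rcases mem_V4_iff.1 hv with rfl | rfl | rfl | rfl
  · left
    group
  · left
    rw [hzc, mul_inv_cancel]
  · rcases conj_z1 hc with h | h
    · left
      rw [h, mul_inv_cancel]
    · right
      rw [h, mul_inv_rev, z_inv, mul_inv_cancel_left]
  · have e2 : c * (z * z1) * c⁻¹ = (c * z * c⁻¹) * (c * z1 * c⁻¹) := by group
    rw [e2, hzc]
    rcases conj_z1 hc with h | h
    · left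
      rw [h, mul_inv_cancel]
    · right
      rw [h, ← mul_assoc z z z1, z_sq, one_mul, z1_inv, mul_assoc, z1_sq, mul_one]

theorem d_comm_V4 {v : LL} (hv : v ∈ V4) : v * d = d * v := by
  obtain ⟨e, he, rfl⟩ := mem_V4.1 hv
  have h : (L4.all fun e => Nat.beq (mulU e 2129920) (mulU 2129920 e)) = true := by decide +kernel
  rw [List.all_eq_true] at h
  unfold d
  rw [← ec_mulU, ← ec_mulU, Nat.eq_of_beq_eq_true (h e he)]

theorem cent_d_V4 {g : LL} (hg : g ∈ HT) (h : g * d * g⁻¹ = d) {v : LL} (hv : v ∈ V4) : g * v * g⁻¹ ∈ V4 := by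
  obtain ⟨u, hu, u', hu', rfl | rfl⟩ := cent_d_cases hg h
  · exact UT_conj_V4 (UT.mul_mem hu hu') hv
  · have h1 := UT_conj_V4 hu (na_conj_V4 (UT_conj_V4 hu' hv))
    have e : u * na * u' * v * (u * na * u')⁻¹ = u * (na * (u' * v * u'⁻¹) * na⁻¹) * u⁻¹ := by group
    rw [e]
    exact h1

theorem z_mem_Q8 : z ∈ Q8 := ⟨z_mem, ec_mem_RG (by decide +kernel)⟩
theorem z1_mem_Q8 : z1 ∈ Q8 := ⟨z1_mem, ec_mem_RG (by decide +kernel)⟩

/-- codes of the generators of types `a`, `z` -/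
def AZ : List ℕ := [513, 80, 8448, 266240, 540672, 2129920, 4259840, 9437184]

theorem AZ_mem : ∀ e ∈ AZ, ec e ∈ UT ⊓ TT := by
  intro e he
  simp only [AZ, List.mem_cons, List.not_mem_nil, or_false] at he
  rcases he with rfl | rfl | rfl | rfl | rfl | rfl | rfl | rfl
  · exact ⟨ec513, t513⟩
  · exact ⟨ec80, t80⟩
  · exact ⟨ec8448, t8448⟩
  · exact ⟨ec266240, t266240⟩
  · exact ⟨ec540672, t540672⟩
  · exact ⟨ec2129920, t2129920⟩
  · exact ⟨ec4259840, t4259840⟩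
  · exact ⟨ec9437184, t9437184⟩

theorem W_big : (W16.all fun w => w == alt true 8 || AZ.any fun c => posW w c && AZ.contains (reflW w c)) = true := by
  decide +kernel

theorem AZ_ne : ∀ e ∈ AZ, ec e ≠ 1 := by
  intro e he
  have h : ∀ e ∈ AZ, e < 2 ^ 24 ∧ e ≠ 0 := by decide
  exact ec_ne_one (h e he).1 (h e he).2

theorem big_cell {g : LL} (hg : g ∈ HT) (h : ∀ s ∈ UT ⊓ TT, g * s * g⁻¹ ∈ UT ⊓ TT → s = 1) :
    ∃ u ∈ UT, ∃ v ∈ UT, g = u * w0 * v := by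
  obtain ⟨u, hu, w, hw, v, hv, rfl⟩ := bruhat_HT hg
  refine ⟨u, hu, v, hv, ?_⟩
  have h1 := W_big
  rw [List.all_eq_true] at h1
  have h2 := h1 w hw
  rw [Bool.or_eq_true, beq_iff_eq] at h2
  rcases h2 with h2 | h2
  · rw [h2, w0_eq]
  · exfalso
    rw [List.any_eq_true] at h2
    obtain ⟨c, hc, h3⟩ := h2
    rw [Bool.and_eq_true, List.contains_iff_mem] at h3
    have hconj : ∀ x ∈ UT, ∀ s ∈ UT ⊓ TT, x * s * x⁻¹ ∈ UT ⊓ TT := fun x hx s hs =>
      ⟨UT.mul_mem (UT.mul_mem hx hs.1) (UT.inv_mem hx), TT_conj hx.2 hs.2⟩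
    have h4 := hconj v⁻¹ (UT.inv_mem hv) _ (AZ_mem c hc)
    rw [inv_inv] at h4
    have h5 : u * nw w * v * (v⁻¹ * ec c * v) * (u * nw w * v)⁻¹ = u * (nw w * ec c * (nw w)⁻¹) * u⁻¹ := by group
    have h6 := h _ h4 (by
      rw [h5, nw_conj_ec (lt_of_mem_W16 hw) h3.1]
      exact hconj u hu _ (AZ_mem _ h3.2))
    apply AZ_ne c hc
    have e : ec c = v * (v⁻¹ * ec c * v) * v⁻¹ := by group
    rw [e, h6]
    group

theorem w0_conj_zbm : w0 * zbm * w0 = zb := by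
  have h := nw_conj_wd (w := w0L) w0L_lt (l := [19, 17]) (by decide)
  have e : ([19, 17].map (act w0L)) = [28, 30] := by decide +kernel
  rw [e] at h
  have h2 : w0 * zbm * w0⁻¹ = zb := h
  rw [w0_inv] at h2
  exact h2

theorem zbm_z : zbm * z * zbm⁻¹ = z := by
  rw [← ybm_sq]
  have h := (mem_Pz.1 (Pz.mul_mem ybm_mem_Pz ybm_mem_Pz)).2
  exact h

theorem z_not_central : na * z * na⁻¹ ≠ z := by
  rw [na_conj_z]
  intro h
  exact absurd (ec_inj (by norm_num) (by norm_num) h) (by norm_num)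

/-- **the data of the Tits group** -/
def tdata : TData LL where
  H := HT
  T := TT
  U := UT
  V := V4
  E := Q8 ⊓ TT
  w0 := w0
  z := z
  z1 := z1
  d := d
  ya := ya
  yam := yam
  zb := zb
  zbm := zbm
  T_le := TT_le
  relIndex_T := relIndex_TT
  T_conj := fun _ hh _ ht => TT_conj hh ht
  U_le := UT_le_HT
  isPGroup_U := isPGroup_UT
  odd_U := odd_UT
  odd_S := odd_ST
  z_mem_V := z_mem_V4
  z1_mem_V := z1_mem_V4
  V_cases := fun _ hv h1 => V4_cases hv h1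
  V_le_U := V4_le_UT
  V_le_T := V4_le_TT
  z_sq := z_sq
  z_ne := z_ne
  V_comm := fun _ hv _ hc => V4_comm hv hc
  z_central := fun _ hu => z_central hu
  cent_V := fun _ hg h h1 => cent_V_le hg h h1
  d_mem_U := d_mem
  d_mem_T := d_mem_TT
  d_comm := fun _ hv => d_comm_V4 hv
  cent_d := fun _ hg h _ hv => cent_d_V4 hg h hv
  E_le_U := inf_le_left.trans Q8_le
  E_le_T := inf_le_right
  z_mem_E := ⟨z_mem_Q8, z_mem_TT⟩
  z1_mem_E := ⟨z1_mem_Q8, z1_mem_TT⟩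
  cent_z := fun _ hg h _ he => ⟨Pz_conj_Q8 (mem_Pz.2 ⟨hg, h⟩) he.1, TT_conj hg he.2⟩
  cent_S := fun _ hu h => cent_UT hu fun c hc => h _ ⟨Sg_UT c hc, Sg_TT c hc⟩
  zee_two := fun _ hu h => mem_V4_iff.2 (zee_two hu.1 hu.2 fun c hc => h _ ⟨Sg_UT c hc, Sg_TT c hc⟩)
  z_not_central := ⟨na, na_mem_TT, z_not_central⟩
  no_outer := fun _ hu h => no_outer_invol hu h
  invol := fun _ hu h h1 => invol_ST hu.1 hu.2 h h1
  kill := fun _ hu h1 h2 hu1 hud _ hd huN hN => kill_spec hu.1 hu.2 h1 h2 hu1 hud hd huN hN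
  w0_mem := w0_mem_TT
  w0_sq := w0_mul_self
  opp := fun _ hg h => UT_inf_VT hg (mem_VT.2 h)
  big := fun _ hg h => big_cell hg h
  cent_z_opp := fun _ hg h hz => VT_TT_cent_z (mem_VT.2 h) hg hz
  norm_V_opp := fun _ _ h hv => VT_norm_V4 (mem_VT.2 h) hv
  zbm_mem := zbm_mem_TT
  zbm_opp := by rw [w0_conj_zbm, zb_eq]; exact ec80
  zbm_z := zbm_z
  zbm_ne := zbm_ne
  yam_mem := yam_mem_TT
  yam_opp := by rw [w0_conj_yam]; exact ya_mem
  yam_V := fun _ hv => Pv_conj_V4 yam_mem_Pv hv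
  yam_ne := yam_ne
  w0_zbm := w0_conj_zbm
  w0_yam := w0_conj_yam
  gen := fun _ h1 h2 h3 h4 => TT_le_of h1 h2 h3 h4

end Cfsg.Agent.TitsK
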