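import Cfsg.Agent.TitsK.ParB

/-!
Further facts on `C_HT(z)`:

* `syl5`, `cent_xf`, `cent_QQ`, `norm_AA`;
* the points `qf k`: `qf_conj_xf`, `qf_conj_sf`, `qf_prod`, `AA_gen`, `qf_conj_QQ`, `QQ_ker`;
* `rf`: `rf_q`, `KA`, `KS`, `KW`, `pr_mem`, `xr`, `irr_AA`, `irr_QQ`;
* `pts`, `sym`, `pt`, `pt'`, `line`.
-/

set_option autoImplicit false
set_option Elab.async false

namespace Cfsg.Agent.TitsK

open Cfsg.Lie Cfsg.Agent.ChevalleyStructure.TwF4.Tables
open Cfsg.Agent.FourTwo.Base hiding bar bar_lt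
open Cfsg.Agent.FourTwo.BN Cfsg.Agent.FourTwo.Comm Cfsg.Agent.FourTwo.Classes
open Cfsg.Agent.FourTwo.Par
open Cfsg.Agent.FourTwo.UCode (mulU invU conjU lets letsL letsL_cons lets_eq land_pow_eq_zero colW colF force force_eq
  mem_lets wel_lets wel_mem)
open Cfsg.Agent.TitsK.Abs

/-! ### Sylow 5-subgroups of `EE` -/

/-- elements of order 5 of `D ⟨x⟩`, `D` a 2-group -/
theorem syl5_aux {G : Type*} [Group G] [Finite G] {D : Subgroup G} {x : G} (hx : x ∈ Subgroup.normalizer (D : Set G))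
    (h5 : x ^ 5 = 1) (hx1 : x ≠ 1) (hD : IsPGroup 2 ↥D) {g : G} (hg : g ∈ mulSub D x hx) (hg5 : g ^ 5 = 1) :
    ∃ u ∈ D, ∃ k : ℕ, g = u * x ^ k * u⁻¹ := by
  have : Fact (Nat.Prime 5) := ⟨by norm_num⟩
  have : Fact (Nat.Prime 2) := ⟨Nat.prime_two⟩
  set H := mulSub D x hx with hH
  have hxH : x ∈ H := ⟨1, 1, D.one_mem, by group⟩
  have hDH : D ≤ H := fun d hd => ⟨0, d, hd, by group⟩
  have ox : orderOf x = 5 := orderOf_eq_prime h5 hx1
  -- `zpowers x` is a Sylow 5-subgroup of `H`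
  have hDn : ∀ b ∈ H, ∀ q ∈ D, b * q * b⁻¹ ∈ D := by
    rintro _ ⟨i, r, hr, rfl⟩ q hq
    have h1 := (Subgroup.mem_normalizer_iff.1 (Subgroup.zpow_mem _ hx i) (r * q * r⁻¹)).1
      (D.mul_mem (D.mul_mem hr hq) (D.inv_mem hr))
    have e : x ^ i * r * q * (x ^ i * r)⁻¹ = x ^ i * (r * q * r⁻¹) * (x ^ i)⁻¹ := by group
    rw [e]
    exact h1
  have hidx : D.relIndex H ∣ 5 := relIndex_dvd_of_mulSub hx hxH hDn (by rw [h5]; exact D.one_mem) le_rfl
  obtain ⟨n, hn⟩ := IsPGroup.iff_card.1 hD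
  have hcard : Nat.card ↥H ∣ 2 ^ n * 5 := by
    have h1 : Nat.card ↥H = Nat.card ↥D * D.relIndex H := by
      rw [Subgroup.relIndex, ← (D.subgroupOf H).card_mul_index,
        Nat.card_congr (Subgroup.subgroupOfEquivOfLe hDH).toEquiv]
    rw [h1, hn]
    exact Nat.mul_dvd_mul_left _ hidx
  have hS : IsPGroup 5 ↥((Subgroup.zpowers x).subgroupOf H) := by
    apply IsPGroup.of_card (n := 1)
    rw [Nat.card_congr (Subgroup.subgroupOfEquivOfLe (Subgroup.zpowers_le.2 hxH)).toEquiv, Nat.card_zpowers, ox, pow_one]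
  have hSi : ¬ 5 ∣ ((Subgroup.zpowers x).subgroupOf H).index := by
    intro h
    have h1 := ((Subgroup.zpowers x).subgroupOf H).card_mul_index
    rw [Nat.card_congr (Subgroup.subgroupOfEquivOfLe (Subgroup.zpowers_le.2 hxH)).toEquiv, Nat.card_zpowers, ox] at h1
    have h2 : 5 * 5 ∣ 2 ^ n * 5 := by
      rw [← h1] at hcard
      exact (Nat.mul_dvd_mul_left 5 h).trans hcard
    have h3 : 5 ∣ 2 ^ n := Nat.dvd_of_mul_dvd_mul_right (by norm_num) h2
    have h4 := Nat.Prime.dvd_of_dvd_pow (by norm_num) h3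
    omega
  have hT : IsPGroup 5 ↥(Subgroup.zpowers (⟨g, hg⟩ : ↥H)) := by
    by_cases h1 : g = 1
    · have e : (⟨g, hg⟩ : ↥H) = 1 := Subtype.ext h1
      rw [e, Subgroup.zpowers_one_eq_bot]
      exact IsPGroup.of_bot
    · apply IsPGroup.of_card (n := 1)
      rw [Nat.card_zpowers, pow_one]
      exact orderOf_eq_prime (Subtype.ext hg5) fun h => h1 (congrArg Subtype.val h)
  obtain ⟨Q, hQ⟩ := hT.exists_le_sylow
  obtain ⟨c, hc⟩ := MulAction.exists_smul_eq H (hS.toSylow hSi) Q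
  have h1 : (⟨g, hg⟩ : ↥H) ∈ (Q : Subgroup ↥H) := hQ (Subgroup.mem_zpowers _)
  rw [← hc, Sylow.coe_subgroup_smul, Subgroup.mem_pointwise_smul_iff_inv_smul_mem] at h1
  have e : (MulAut.conj c)⁻¹ • (⟨g, hg⟩ : ↥H) = c⁻¹ * ⟨g, hg⟩ * c := by
    rw [← map_inv, MulAut.smul_def, MulAut.conj_apply, inv_inv]
  rw [e] at h1
  have h2 : (c : G)⁻¹ * g * c ∈ Subgroup.zpowers x := h1
  obtain ⟨m, hm⟩ := Subgroup.mem_zpowers_iff.1 h2
  obtain ⟨i, q, hq, hc'⟩ := c.2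
  have hu := (Subgroup.mem_normalizer_iff.1 (Subgroup.zpow_mem _ hx i) q).1 hq
  refine ⟨x ^ i * q * (x ^ i)⁻¹, hu, (m % 5).toNat, ?_⟩
  have h0 : (0 : ℤ) ≤ m % 5 := Int.emod_nonneg _ (by norm_num)
  have h3 : m = 5 * (m / 5) + m % 5 := (Int.mul_ediv_add_emod m 5).symm
  have h4 : x ^ (m % 5).toNat = x ^ m := by
    rw [← zpow_natCast, Int.toNat_of_nonneg h0]
    conv_rhs => rw [h3, zpow_add, zpow_mul]
    have h6 : x ^ (5 : ℤ) = 1 := by exact_mod_cast h5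
    rw [h6, one_zpow, one_mul]
  have h5' : g = c * x ^ m * (c : G)⁻¹ := by
    rw [hm]
    group
  rw [h4, h5', hc']
  group

theorem isPGroup_QQ : IsPGroup 2 ↥QQ := IsPGroup.of_card card_QQ

theorem syl5 {g : LL} (hg : g ∈ EE) (h5 : g ^ 5 = 1) : ∃ u ∈ QQ, ∃ k : ℕ, g = u * xf ^ k * u⁻¹ :=
  syl5_aux (G := LL) (D := QQ) (x := xf) (norm_QQ xf_mem_Pz) xf_pow5 xf_ne isPGroup_QQ hg h5

/-! ### the points -/

/-- codes of the points `q k` -/
def qc : ZMod 5 → ℕ := ![4259840, 14503936, 16093184, 266240, 7196672]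

/-- the points of `AA` -/
def qf (k : ZMod 5) : LL := ec (qc k)

theorem qf_mem (k : ZMod 5) : qf k ∈ AA := by
  have h : ∀ k : ZMod 5, qc k ∈ A32 := by decide
  exact ⟨_, h k, rfl⟩

theorem qf_zero : qf 0 = z1 := rfl

/-- code of `xf⁻¹ a xf` -/
def xiE (e : ℕ) : ℕ := xfE (xfE (xfE (xfE e)))

theorem pow5_aux {G : Type*} [Group G] {x : G} (h : x ^ 5 = 1) (a : G) :
    x⁻¹ * a * x = x * (x * (x * (x * a * x⁻¹) * x⁻¹) * x⁻¹) * x⁻¹ := by
  have e : x⁻¹ = x * x * x * x := by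
    rw [inv_eq_iff_mul_eq_one]
    simpa [pow_succ, mul_assoc] using h
  have e2 : x = x⁻¹ * x⁻¹ * x⁻¹ * x⁻¹ := by
    have h3 := congrArg (fun y => y⁻¹) e
    simpa [mul_assoc] using h3
  calc x⁻¹ * a * x = (x * x * x * x) * a * (x⁻¹ * x⁻¹ * x⁻¹ * x⁻¹) := by rw [← e, ← e2]
    _ = x * (x * (x * (x * a * x⁻¹) * x⁻¹) * x⁻¹) * x⁻¹ := by group

theorem xf_conj_Q8' {e : ℕ} (he : ec e ∈ Q8) : ec (xfE e) ∈ Q8 := by
  rw [← xf_conj he]
  exact xf_conj_Q8 he

theorem xi_conj {e : ℕ} (he : ec e ∈ Q8) : xf⁻¹ * ec e * xf = ec (xiE e) := by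
  have h1 := xf_conj_Q8' he
  have h2 := xf_conj_Q8' h1
  have h3 := xf_conj_Q8' h2
  have h := pow5_aux (G := LL) (x := xf) xf_pow5 (ec e)
  rw [xf_conj he, xf_conj h1, xf_conj h2, xf_conj h3] at h
  exact h

theorem qf_conj_xf (k : ZMod 5) : xf⁻¹ * qf k * xf = qf (k + 1) := by
  have h : ∀ k : ZMod 5, xiE (qc k) = qc (k + 1) := by decide +kernel
  have h1 := xi_conj (AA_le_Q8 (qf_mem k))
  rw [h k] at h1
  exact h1

theorem sf_inv_conj (e : ℕ) : sf⁻¹ * ec e * sf = ec (conjU (invU 1179754) e) := by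
  rw [ec_conjU, ec_invU, ← sf_eq, inv_inv]

theorem qf_conj_sf (k : ZMod 5) : sf⁻¹ * qf k * sf = qf (2 * k) := by
  have h : ∀ k : ZMod 5, conjU (invU 1179754) (qc k) = qc (2 * k) := by decide +kernel
  have h1 := sf_inv_conj (qc k)
  rw [h k] at h1
  exact h1

theorem qf_prod : qf 0 * qf 1 * qf 2 * qf 3 * qf 4 = 1 := by
  have h : mulU (mulU (mulU (mulU (qc 0) (qc 1)) (qc 2)) (qc 3)) (qc 4) = 0 := by decide +kernel
  unfold qf
  rw [← ec_mulU, ← ec_mulU, ← ec_mulU, ← ec_mulU, h, ec_zero]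

/-- the generators of `AA` as words in `z`, `qf k` -/
theorem gA_words : (gA.all fun g => ((lf [(9437184, false), (4259840, false), (14503936, false), (16093184, false),
    (266240, false)] 0 false).map Prod.fst).contains g.1) = true := by decide +kernel

theorem AA_gen : AA ≤ Subgroup.closure ({z} ∪ Set.range qf) := by
  refine AA_le_of fun g hg => ?_
  have h := gA_words
  rw [List.all_eq_true] at h
  have h1 := h g hg
  rw [List.contains_iff_mem, List.mem_map] at h1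
  obtain ⟨q, hq, h2⟩ := h1
  rw [← h2]
  refine lf_induct (P := fun g => g ∈ Subgroup.closure ({z} ∪ Set.range qf)) ?_ ?_ q hq
  · intro a g hg ha
    refine Subgroup.mul_mem _ ha (Subgroup.subset_closure ?_)
    simp only [List.mem_cons, List.not_mem_nil, or_false] at hg
    rcases hg with rfl | rfl | rfl | rfl | rfl
    · left; rfl
    · right; exact ⟨0, rfl⟩
    · right; exact ⟨1, rfl⟩
    · right; exact ⟨2, rfl⟩
    · right; exact ⟨3, rfl⟩
  · rw [ec_zero]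
    exact Subgroup.one_mem _

/-! ### the action of `QQ` on `AA` -/

theorem chk_qQ : allG gQ (fun e => [4259840, 14503936, 16093184, 266240, 7196672].all fun q =>
    force (conjU (invU e) q) fun f => Nat.beq f q || Nat.beq f (mulU q 9437184)) = true := by decide +kernel

theorem qf_conj_QQ {u : LL} (hu : u ∈ QQ) (k : ZMod 5) : u⁻¹ * qf k * u = qf k ∨ u⁻¹ * qf k * u = qf k * z := by
  obtain ⟨e, he, rfl, h⟩ := QQ_allG chk_qQ hu
  rw [List.all_eq_true] at h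
  have hm : ∀ k : ZMod 5, qc k ∈ [4259840, 14503936, 16093184, 266240, 7196672] := by decide
  have h1 := h _ (hm k)
  rw [force_eq, Bool.or_eq_true] at h1
  have e1 : (ec e)⁻¹ * qf k * ec e = ec (conjU (invU e) (qc k)) := by
    rw [ec_conjU, ec_invU, inv_inv]
    rfl
  rw [e1]
  rcases h1 with h1 | h1
  · left
    rw [Nat.eq_of_beq_eq_true h1]
    rfl
  · right
    rw [Nat.eq_of_beq_eq_true h1, ec_mulU]
    rfl

theorem QQ_ker {u : LL} (hu : u ∈ QQ) (h : ∀ k, u⁻¹ * qf k * u = qf k) : u ∈ AA := by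
  have hz : u * z = z * u := by
    have h1 := z_central (QQ_le_UT hu)
    rw [mul_inv_eq_iff_eq_mul] at h1
    exact h1
  have hc : AA ≤ Subgroup.centralizer {u} := by
    refine AA_gen.trans ?_
    rw [Subgroup.closure_le]
    intro g hg
    rw [SetLike.mem_coe, Subgroup.mem_centralizer_singleton_iff]
    rcases hg with hg | ⟨k, rfl⟩
    · rw [Set.mem_singleton_iff.1 hg]
      exact hz.symm
    · have h1 := h k
      rw [mul_assoc, inv_mul_eq_iff_eq_mul] at h1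
      exact h1
  rcases cent_AA (QQ_le_UT hu).2 (fun a ha => (Subgroup.mem_centralizer_singleton_iff.1 (hc ha)).symm) with h1 | h1
  · exact h1
  · exfalso
    apply jf_not_mem
    have h2 := TT.mul_mem (AA_le_TT h1) (TT.inv_mem (QQ_le_TT hu))
    rw [mul_inv_cancel_right] at h2
    exact h2

/-! ### centralisers -/

theorem chk_cent_QQ : allU (fun e => cond (gQ.all fun c => Nat.beq (mulU e c.1) (mulU c.1 e))
    (Nat.beq e 0 || Nat.beq e 9437184) true) = true := by decide +kernel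

theorem cent_QQ {g : LL} (hg : g ∈ HT) (h : ∀ a ∈ QQ, g * a = a * g) : g = 1 ∨ g = z := by
  have hc : ∀ a ∈ QQ, g * a * g⁻¹ = a := fun a ha => by rw [h a ha, mul_inv_cancel_right]
  have hU := cent_V_le hg (hc z z_mem_QQ) (hc z1 (AA_le_QQ z1_mem_AA))
  obtain ⟨e, he, rfl, -, h2⟩ := UT_all chk_cent_QQ hU
  have h3 : (gQ.all fun c => Nat.beq (mulU e c.1) (mulU c.1 e)) = true := by
    rw [List.all_eq_true]
    intro c hc
    have hlt : ∀ c ∈ gQ, c.1 < 2 ^ 24 := by decide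
    have h4 := h (ec c.1) (gQ_mem c hc)
    rw [← ec_mulU, ← ec_mulU] at h4
    rw [ec_inj (mulU_lt he c.1) (mulU_lt (hlt c hc) e) h4]
    exact Nat.beq_refl _
  rw [h3, cond_true, Bool.or_eq_true] at h2
  rcases h2 with h2 | h2
  · left
    rw [Nat.eq_of_beq_eq_true h2, ec_zero]
  · right
    rw [Nat.eq_of_beq_eq_true h2]
    rfl

theorem chk_xf_fix : allG gQ (fun e => cond (Nat.beq (xfE e) e) (Nat.beq e 0 || Nat.beq e 9437184) true) = true := by
  decide +kernel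

theorem QQ_xf_fix {u : LL} (hu : u ∈ QQ) (h : xf * u * xf⁻¹ = u) : u = 1 ∨ u = z := by
  obtain ⟨e, he, rfl, h2⟩ := QQ_allG chk_xf_fix hu
  have hlt : xfE e < 2 ^ 24 := conjU_lt (by norm_num) _
  have h3 : Nat.beq (xfE e) e = true := by
    rw [xf_conj (QQ_le_Q8 hu)] at h
    rw [ec_inj hlt he h]
    exact Nat.beq_refl _
  rw [h3, cond_true, Bool.or_eq_true] at h2
  rcases h2 with h2 | h2
  · left
    rw [Nat.eq_of_beq_eq_true h2, ec_zero]
  · right
    rw [Nat.eq_of_beq_eq_true h2]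
    rfl

/-- `C_P(x)` for `P = D ⟨x⟩ ⟨s⟩ ⟨j⟩` -/
theorem cent_x_aux {G : Type*} [Group G] {D : Subgroup G} {x s j z : G} (hx : x ∈ Subgroup.normalizer (D : Set G))
    (h5 : x ^ 5 = 1) (hx1 : x ≠ 1) (hs4 : s ^ 4 = 1) (hsx : s⁻¹ * x * s = x ^ 2) (hjx : j * x = x * j)
    (hD : IsPGroup 2 ↥D) (hfix : ∀ d ∈ D, x * d * x⁻¹ = d → d = 1 ∨ d = z) (hz : x * z = z * x)
    {u : G} (hu : u ∈ D) {k m l : ℕ} (hc : u * x ^ k * s ^ m * j ^ l * x = x * (u * x ^ k * s ^ m * j ^ l)) :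
    ∃ a b c : ℕ, u * x ^ k * s ^ m * j ^ l = x ^ a * z ^ b * j ^ c := by
  have : Fact (Nat.Prime 5) := ⟨by norm_num⟩
  have ox : orderOf x = 5 := orderOf_eq_prime h5 hx1
  have hpow : ∀ n : ℕ, x ^ n ∈ D → x ^ n = 1 := by
    intro n hn
    obtain ⟨a, ha⟩ := hD ⟨x ^ n, hn⟩
    have h2 : (x ^ n) ^ 2 ^ a = 1 := congrArg Subtype.val ha
    have h3 : (x ^ n) ^ 5 = 1 := by rw [← pow_mul, mul_comm, pow_mul, h5, one_pow]
    have h4 : orderOf (x ^ n) ∣ 1 := by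
      have hc : Nat.Coprime (2 ^ a) 5 := Nat.Coprime.pow_left a (by norm_num)
      rw [← hc.gcd_eq_one]
      exact Nat.dvd_gcd (orderOf_dvd_of_pow_eq_one h2) (orderOf_dvd_of_pow_eq_one h3)
    exact orderOf_eq_one_iff.1 (Nat.dvd_one.1 h4)
  have hsx' : s * x * s⁻¹ = x ^ 3 := by
    have e1 : s * x ^ 2 * s⁻¹ = x := by
      rw [← hsx]
      group
    have e2 : (s * x * s⁻¹) ^ 2 = x := by
      rw [conj_pow, e1]
    have e5 : (s * x * s⁻¹) ^ 5 = 1 := by rw [conj_pow, h5, mul_one, mul_inv_cancel]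
    calc s * x * s⁻¹ = (s * x * s⁻¹) ^ 6 := by rw [pow_succ _ 5, e5, one_mul]
      _ = ((s * x * s⁻¹) ^ 2) ^ 3 := by rw [← pow_mul]
      _ = x ^ 3 := by rw [e2]
  have hsm : ∀ m : ℕ, s ^ m * x * (s ^ m)⁻¹ = x ^ (3 ^ m) := by
    intro m
    induction m with
    | zero => simp
    | succ m ih =>
      have e : s ^ (m + 1) * x * (s ^ (m + 1))⁻¹ = s * (s ^ m * x * (s ^ m)⁻¹) * s⁻¹ := by
        rw [pow_succ']
        group
      rw [e, ih, ← conj_pow, hsx', ← pow_mul, pow_succ']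
  have hjl : j ^ l * x = x * j ^ l := by
    have h : Commute j x := hjx
    exact (h.pow_left l)
  -- conjugate `x`
  have h2 : x = u * x ^ (3 ^ m) * u⁻¹ := by
    have e : x = u * x ^ k * s ^ m * j ^ l * x * (u * x ^ k * s ^ m * j ^ l)⁻¹ := by rw [hc]; group
    have e2 : u * x ^ k * s ^ m * j ^ l * x * (u * x ^ k * s ^ m * j ^ l)⁻¹ =
        u * (x ^ k * (s ^ m * (j ^ l * x * (j ^ l)⁻¹) * (s ^ m)⁻¹) * (x ^ k)⁻¹) * u⁻¹ := by group
    rw [e2, hjl, mul_inv_cancel_right, hsm, ← pow_add, add_comm, pow_add, mul_inv_cancel_right] at e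
    exact e
  -- `x ^ (3 ^ m) = x` modulo `D`
  have h3 : x ^ (3 ^ m + 4) = 1 := by
    apply hpow
    have e4 : x ^ 4 = x⁻¹ := by
      rw [eq_inv_iff_mul_eq_one, ← pow_succ]
      exact h5
    have e6 : x ^ (3 ^ m + 4) = x ^ (3 ^ m) * u * (x ^ (3 ^ m))⁻¹ * u⁻¹ := by
      have e7 : x⁻¹ = u * (x ^ (3 ^ m))⁻¹ * u⁻¹ := by
        conv_lhs => rw [h2]
        group
      rw [pow_add, e4, e7]
      group
    rw [e6]
    exact D.mul_mem ((Subgroup.mem_normalizer_iff.1 (Subgroup.pow_mem _ hx (3 ^ m)) u).1 hu) (D.inv_mem hu)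
  have h4 : x ^ (3 ^ m) = x := by
    have e : x ^ (3 ^ m) = x ^ (3 ^ m + 4) * x := by
      rw [pow_add, mul_assoc, ← pow_succ, h5, mul_one]
    rw [e, h3, one_mul]
  rw [h4] at h2
  have h5' : x * u * x⁻¹ = u := by
    rw [mul_inv_eq_iff_eq_mul]
    have e := congrArg (fun y => y * u) h2
    simpa [mul_assoc] using e
  have h6 : m % 4 = 0 := by
    have e : 3 ^ m ≡ 1 [MOD 5] := by
      have e1 : x ^ (3 ^ m) = x ^ 1 := by rw [h4, pow_one]
      rw [pow_eq_pow_iff_modEq, ox] at e1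
      exact e1
    have e1 : ∀ r < 4, 3 ^ r % 5 = 1 → r = 0 := by decide
    apply e1 (m % 4) (Nat.mod_lt _ (by norm_num))
    have e2 : 3 ^ m % 5 = 3 ^ (m % 4) % 5 := by
      conv_lhs => rw [← Nat.div_add_mod m 4, pow_add, pow_mul, Nat.mul_mod, Nat.pow_mod]
      norm_num
    rw [← e2]
    exact e
  have h7 : s ^ m = 1 := by
    rw [← Nat.div_add_mod m 4, h6, add_zero, pow_mul, hs4, one_pow]
  rw [h7, mul_one]
  rcases hfix u hu h5' with rfl | rfl
  · exact ⟨k, 0, l, by simp⟩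
  · refine ⟨k, 1, l, ?_⟩
    have hcz : Commute x u := hz
    rw [pow_one, (hcz.pow_left k).eq]

theorem z_comm_xf : xf * z = z * xf := by
  have h := z_conj_Pz xf_mem_Pz
  rw [mul_inv_eq_iff_eq_mul] at h
  exact h

theorem cent_xf {p : LL} (hp : p ∈ Pz) (h : p * xf = xf * p) : ∃ k l m : ℕ, p = xf ^ k * z ^ l * jf ^ m := by
  obtain ⟨e, he, m, l, rfl⟩ := Pz_cases hp
  obtain ⟨u, hu, k, rfl⟩ := EE_cases he
  exact cent_x_aux (G := LL) (D := QQ) (x := xf) (s := sf) (j := jf) (z := z) (norm_QQ xf_mem_Pz) xf_pow5 xf_ne sf_pow4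
    sf_conj jf_comm_xf isPGroup_QQ (fun d hd hd' => QQ_xf_fix hd hd') z_comm_xf hu h

theorem cent_AA_xf {a : LL} (ha : a ∈ AA) (h : a * xf = xf * a) : a = 1 ∨ a = z := by
  apply QQ_xf_fix (AA_le_QQ ha)
  rw [← h, mul_inv_cancel_right]

/-! ### `N_HT(AA)` and the points -/

theorem W_AA : (W16.all fun w => w == [] || w == [1, 2, 1, 2] || A32.any fun e => badW w e A32) = true := by
  decide +kernel

theorem norm_AA {g : LL} (hg : g ∈ HT) (h : ∀ a ∈ AA, g * a * g⁻¹ ∈ AA) : g ∈ Pz := by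
  obtain ⟨u, hu, w, hw, v, hv, rfl⟩ := bruhat_HT hg
  have h1 : ∀ a ∈ AA, nw w * a * (nw w)⁻¹ ∈ AA := by
    intro a ha
    have h2 := UT_conj_AA (UT.inv_mem hu) (h _ (UT_conj_AA (UT.inv_mem hv) ha))
    have e : u⁻¹ * (u * nw w * v * (v⁻¹ * a * (v⁻¹)⁻¹) * (u * nw w * v)⁻¹) * (u⁻¹)⁻¹ = nw w * a * (nw w)⁻¹ := by
      group
    rw [e] at h2
    exact h2
  have h2 := W_AA
  rw [List.all_eq_true] at h2
  have h3 := h2 w hw
  rw [Bool.or_eq_true, Bool.or_eq_true, beq_iff_eq, beq_iff_eq] at h3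
  rcases h3 with (h3 | h3) | h3
  · rw [h3]
    exact Pz.mul_mem (Pz.mul_mem (UT_le_Pz hu) Pz.one_mem) (UT_le_Pz hv)
  · rw [h3]
    have hn : nb ∈ Pz := mem_Pz.2 ⟨nb_mem_HT, nb_conj_z⟩
    exact Pz.mul_mem (Pz.mul_mem (UT_le_Pz hu) hn) (UT_le_Pz hv)
  · exfalso
    rw [List.any_eq_true] at h3
    obtain ⟨e, he, h4⟩ := h3
    obtain ⟨e', he', h5⟩ := h1 (ec e) ⟨e, he, rfl⟩
    have hlt : ∀ e ∈ A32, e < 2 ^ 24 := by decide
    exact not_mem_of_badW (lt_of_mem_W16 hw) hlt h4 he' h5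

/-- codes of the 11 points of `AA` -/
def PT11 : List ℕ := [9437184, 4259840, 14503936, 16093184, 266240, 7196672, 13697024, 5066752, 6656000, 9703424,
  16633856]

theorem PT11_ok : (PT11.all fun e => Nat.beq e 9437184 || [4259840, 14503936, 16093184, 266240, 7196672].any fun q =>
    Nat.beq e q || Nat.beq e (mulU 9437184 q)) = true := by decide +kernel

theorem PT11_spec {e : ℕ} (he : e ∈ PT11) : ec e = z ∨ ∃ k, ec e = qf k ∨ ec e = z * qf k := by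
  have h := PT11_ok
  rw [List.all_eq_true] at h
  have h1 := h e he
  rw [Bool.or_eq_true] at h1
  rcases h1 with h1 | h1
  · left
    rw [Nat.eq_of_beq_eq_true h1]
    rfl
  · right
    rw [List.any_eq_true] at h1
    obtain ⟨q, hq, h2⟩ := h1
    have h3 : ∃ k : ZMod 5, qc k = q := by
      simp only [List.mem_cons, List.not_mem_nil, or_false] at hq
      rcases hq with rfl | rfl | rfl | rfl | rfl
      · exact ⟨0, rfl⟩
      · exact ⟨1, rfl⟩
      · exact ⟨2, rfl⟩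
      · exact ⟨3, rfl⟩
      · exact ⟨4, rfl⟩
    obtain ⟨k, rfl⟩ := h3
    refine ⟨k, ?_⟩
    rw [Bool.or_eq_true] at h2
    rcases h2 with h2 | h2
    · left
      rw [Nat.eq_of_beq_eq_true h2]
      rfl
    · right
      rw [Nat.eq_of_beq_eq_true h2, ec_mulU]
      rfl

/-- the inverses of the words -/
theorem W16_inv : (W16.all fun w => W16.any fun w' => ([33, 27, 25, 24].all fun p => act (w ++ w') p == p) &&
    (badW w' 9437184 A32 || (posW w' 9437184 && (PT11.contains (reflW w' 9437184) &&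
      (posW w 9437184 && A32.contains (reflW w 9437184)))))) = true := by decide +kernel

theorem point_cases {g : LL} (hg : g ∈ HT) (h : g⁻¹ * z * g ∈ AA) :
    (∃ e ∈ PT11, g⁻¹ * z * g = ec e) ∧ g * z * g⁻¹ ∈ AA := by
  obtain ⟨u, hu, w, hw, v, hv, rfl⟩ := bruhat_HT hg
  have h2 := W16_inv
  rw [List.all_eq_true] at h2
  have h3 := h2 w hw
  rw [List.any_eq_true] at h3
  obtain ⟨w', hw', h4⟩ := h3
  rw [Bool.and_eq_true, Bool.or_eq_true, Bool.and_eq_true, Bool.and_eq_true, Bool.and_eq_true] at h4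
  obtain ⟨h5, h6⟩ := h4
  have hi : nw w * nw w' = 1 := by
    rw [← nw_append]
    refine nw_eq_of_act (w' := []) ?_ (by decide) ?_
    · intro i hi
      rw [List.mem_append] at hi
      rcases hi with hi | hi
      · exact lt_of_mem_W16 hw i hi
      · exact lt_of_mem_W16 hw' i hi
    · exact h5
  have hi' : nw w' = (nw w)⁻¹ := by
    rw [eq_inv_iff_mul_eq_one]
    exact mul_eq_one_comm.1 hi
  have e1 : (u * nw w * v)⁻¹ * z * (u * nw w * v) = v⁻¹ * (nw w' * z * (nw w')⁻¹) * (v⁻¹)⁻¹ := by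
    have e2 : (u * nw w * v)⁻¹ * z * (u * nw w * v) = v⁻¹ * ((nw w)⁻¹ * (u⁻¹ * z * (u⁻¹)⁻¹) * nw w) * (v⁻¹)⁻¹ := by
      group
    rw [e2, z_central (UT.inv_mem hu), hi', inv_inv (nw w)]
  have e3 : u * nw w * v * z * (u * nw w * v)⁻¹ = u * (nw w * (v * z * v⁻¹) * (nw w)⁻¹) * u⁻¹ := by group
  rw [e1] at h ⊢
  rw [e3, z_central hv]
  have h7 : nw w' * z * (nw w')⁻¹ ∈ AA := by
    have h8 := UT_conj_AA hv h
    have e : v * (v⁻¹ * (nw w' * z * (nw w')⁻¹) * (v⁻¹)⁻¹) * v⁻¹ = nw w' * z * (nw w')⁻¹ := by group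
    rw [e] at h8
    exact h8
  obtain ⟨e', he', h8⟩ := h7
  rcases h6 with h6 | ⟨h6, h9, h10, h11⟩
  · exfalso
    have hlt : ∀ e ∈ A32, e < 2 ^ 24 := by decide
    exact not_mem_of_badW (lt_of_mem_W16 hw') hlt h6 he' h8
  · constructor
    · have h12 : nw w' * z * (nw w')⁻¹ = ec (reflW w' 9437184) := nw_conj_ec (lt_of_mem_W16 hw') h6
      rw [h12]
      exact UT_conj_list (L := PT11) (by decide +kernel) (UT.inv_mem hv) _ (List.contains_iff_mem.1 h9)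
    · have h12 : nw w * z * (nw w)⁻¹ = ec (reflW w 9437184) := nw_conj_ec (lt_of_mem_W16 hw) h10
      rw [h12]
      exact UT_conj_AA hu ⟨_, List.contains_iff_mem.1 h11, rfl⟩

/-- the conjugates of `z` in `AA` -/
theorem pts {g : LL} (hg : g ∈ HT) (h : g⁻¹ * z * g ∈ AA) :
    g⁻¹ * z * g = z ∨ ∃ k, g⁻¹ * z * g = qf k ∨ g⁻¹ * z * g = z * qf k := by
  obtain ⟨⟨e, he, h1⟩, -⟩ := point_cases hg h
  rw [h1]
  exact PT11_spec he

/-- collinearity is symmetric -/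
theorem sym {g : LL} (hg : g ∈ HT) (h : g⁻¹ * z * g ∈ AA) : g * z * g⁻¹ ∈ AA := (point_cases hg h).2

theorem na_conj_z' : na⁻¹ * z * na = z1 := by
  rw [na_inv]
  have h := na_conj_z
  rw [na_inv] at h
  exact h

theorem pt (k : ZMod 5) : ∃ g ∈ TT, g⁻¹ * z * g = qf k := by
  have key : ∀ n : ℕ, ∃ g ∈ TT, g⁻¹ * z * g = qf (n : ZMod 5) := by
    intro n
    induction n with
    | zero =>
      refine ⟨na, na_mem_TT, ?_⟩
      rw [Nat.cast_zero, qf_zero]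
      exact na_conj_z'
    | succ n ih =>
      obtain ⟨g, hg, h⟩ := ih
      refine ⟨g * xf, TT.mul_mem hg xf_mem_TT, ?_⟩
      rw [Nat.cast_succ, ← qf_conj_xf, ← h]
      group
  obtain ⟨g, hg, h⟩ := key k.val
  rw [ZMod.natCast_zmod_val] at h
  exact ⟨g, hg, h⟩

theorem ya_conj_z1 : ya⁻¹ * z1 * ya = z * z1 := by
  have h : conjU (invU 513) 4259840 = 13697024 := by decide +kernel
  have e : ya⁻¹ * z1 * ya = ec (conjU (invU 513) 4259840) := by
    rw [ec_conjU, ec_invU, ya_eq, inv_inv]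
    rfl
  rw [e, h, z_mul_z1]

theorem pt' (k : ZMod 5) : ∃ g ∈ TT, g⁻¹ * z * g = z * qf k := by
  have key : ∀ n : ℕ, ∃ g ∈ TT, g⁻¹ * z * g = z * qf (n : ZMod 5) := by
    intro n
    induction n with
    | zero =>
      refine ⟨na * ya, TT.mul_mem na_mem_TT ya_mem_TT, ?_⟩
      have e : (na * ya)⁻¹ * z * (na * ya) = ya⁻¹ * (na⁻¹ * z * na) * ya := by group
      rw [e, Nat.cast_zero, qf_zero, na_conj_z']
      exact ya_conj_z1
    | succ n ih =>
      obtain ⟨g, hg, h⟩ := ih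
      refine ⟨g * xf, TT.mul_mem hg xf_mem_TT, ?_⟩
      have e : (g * xf)⁻¹ * z * (g * xf) = xf⁻¹ * (g⁻¹ * z * g) * xf := by group
      have e2 : xf⁻¹ * (z * qf (n : ZMod 5)) * xf = xf⁻¹ * z * xf * (xf⁻¹ * qf (n : ZMod 5) * xf) := by group
      have e3 : xf⁻¹ * z * xf = z := by
        rw [mul_assoc, ← z_comm_xf, inv_mul_cancel_left]
      rw [e, h, e2, e3, qf_conj_xf, Nat.cast_succ]
  obtain ⟨g, hg, h⟩ := key k.val
  rw [ZMod.natCast_zmod_val] at h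
  exact ⟨g, hg, h⟩

theorem ya_conj_z : ya⁻¹ * z * ya = z := by
  have h := z_central (UT.inv_mem ya_mem)
  rw [inv_inv] at h
  exact h

/-- the element of order 3 on the line -/
theorem line : ∃ g ∈ TT, g⁻¹ * z * g = qf 0 ∧ g⁻¹ * qf 0 * g = z * qf 0 := by
  refine ⟨ya * na, TT.mul_mem ya_mem_TT na_mem_TT, ?_, ?_⟩
  · have e : (ya * na)⁻¹ * z * (ya * na) = na⁻¹ * (ya⁻¹ * z * ya) * na := by group
    rw [e, ya_conj_z, na_conj_z', qf_zero]
  · rw [qf_zero]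
    have e : (ya * na)⁻¹ * z1 * (ya * na) = na⁻¹ * (ya⁻¹ * z1 * ya) * na := by group
    have e2 : na⁻¹ * (z * z1) * na = na⁻¹ * z * na * (na⁻¹ * z1 * na) := by group
    have e3 : na⁻¹ * z1 * na = z := by
      rw [← na_conj_z']
      have h : na * na = 1 := na_mul_self
      have e4 : na⁻¹ * (na⁻¹ * z * na) * na = (na * na)⁻¹ * z * (na * na) := by group
      rw [e4, h, inv_one, one_mul, mul_one]
    rw [e, ya_conj_z1, e2, e3, na_conj_z', z_mul_z1, z1_mul_z]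

end Cfsg.Agent.TitsK
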