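import Cfsg.Agent.TitsK.OverAbs
import Cfsg.Agent.TitsK.ParC
import Cfsg.Agent.TitsK.Inst

/-!
# The overgroup facts for the Tits group in `²F₄(2)` (helper625)

* `bruhatW`: the double cosets `UT n UT` with the conjugate of `z` by `n`;
* `overIn : OverIn tdata AA yb sf nb qf`, `overD : Over tdata`.
-/

set_option autoImplicit false
set_option Elab.async false

namespace Cfsg.Agent.TitsK

open Cfsg.Lie Cfsg.Agent.ChevalleyStructure.TwF4.Tables
open Cfsg.Agent.FourTwo.Base hiding bar bar_lt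
open Cfsg.Agent.FourTwo.BN Cfsg.Agent.FourTwo.Comm Cfsg.Agent.FourTwo.Classes
open Cfsg.Agent.FourTwo.UCode (mulU invU conjU lets colW colF force force_eq mem_lets wel_lets wel_mem)
open Cfsg.Agent.TitsK.Abs

/-- the type of a word, `z ↦ z`, `z1`, `ec 266240`, `zb`, `zbm`, other negative -/
def oW (w : List ℕ) : Bool :=
  w == [] || w == [1, 2, 1, 2] || w == [0, 3] || w == [0, 3, 1, 2, 1, 2] ||
  (posW w 9437184 && Nat.beq (reflW w 9437184) 80) ||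
  (posW w 9437184 && Nat.beq (reflW w 9437184) 266240) ||
  (posW (alt true 8 ++ w) 9437184 && Nat.beq (reflW (alt true 8 ++ w) 9437184) 80) ||
  (posW (alt true 8 ++ w) 9437184 && Nat.blt (reflW (alt true 8 ++ w) 9437184) 16777216 &&
    !Nat.beq (reflW (alt true 8 ++ w) 9437184) 80 && !Nat.beq (reflW (alt true 8 ++ w) 9437184) 0)

theorem oW_all : (W16.all oW) = true := by decide +kernel

theorem oW_spec {w : List ℕ} (hw : w ∈ W16) : w = [] ∨ w = [1, 2, 1, 2] ∨ w = [0, 3] ∨ w = [0, 3, 1, 2, 1, 2] ∨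
    (posW w 9437184 = true ∧ reflW w 9437184 = 80) ∨ (posW w 9437184 = true ∧ reflW w 9437184 = 266240) ∨
    (posW (alt true 8 ++ w) 9437184 = true ∧ reflW (alt true 8 ++ w) 9437184 = 80) ∨
    (posW (alt true 8 ++ w) 9437184 = true ∧ reflW (alt true 8 ++ w) 9437184 < 2 ^ 24 ∧
      reflW (alt true 8 ++ w) 9437184 ≠ 80 ∧ reflW (alt true 8 ++ w) 9437184 ≠ 0) := by
  have hW := oW_all
  rw [List.all_eq_true] at hW
  have h1 := hW w hw
  unfold oW at h1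
  simp only [Bool.or_eq_true, Bool.and_eq_true, beq_iff_eq, Nat.beq_eq, Bool.not_eq_true', Nat.blt_eq] at h1
  rcases h1 with ((((((h1 | h1) | h1) | h1) | h1) | h1) | h1) | h1
  · exact Or.inl h1
  · exact Or.inr (Or.inl h1)
  · exact Or.inr (Or.inr (Or.inl h1))
  · exact Or.inr (Or.inr (Or.inr (Or.inl h1)))
  · exact Or.inr (Or.inr (Or.inr (Or.inr (Or.inl h1))))
  · exact Or.inr (Or.inr (Or.inr (Or.inr (Or.inr (Or.inl h1)))))
  · exact Or.inr (Or.inr (Or.inr (Or.inr (Or.inr (Or.inr (Or.inl h1))))))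
  · obtain ⟨⟨⟨h2, h3⟩, h4⟩, h5⟩ := h1
    refine Or.inr (Or.inr (Or.inr (Or.inr (Or.inr (Or.inr (Or.inr ⟨h2, h3, ?_, ?_⟩))))))
    · intro h
      rw [h] at h4
      exact absurd h4 (by decide)
    · intro h
      rw [h] at h5
      exact absurd h5 (by decide)


theorem hl_aux {w : List ℕ} (hw : w ∈ W16) : ∀ i ∈ alt true 8 ++ w, i < 4 := by
  intro i hi
  rw [List.mem_append] at hi
  rcases hi with hi | hi
  · exact lt_of_mem_W16 (w := alt true 8) (by decide) i hi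
  · exact lt_of_mem_W16 hw i hi

theorem w0_aux {G : Type*} [Group G] {w n c p : G} (hi : w⁻¹ = w)
    (h : w * n * c * (w * n)⁻¹ = p) : w * (n * c * n⁻¹) * w = p := by
  rw [← h]
  have e : w * n * c * (w * n)⁻¹ = w * (n * c * n⁻¹) * w⁻¹ := by group
  rw [e, hi]

theorem w0_aux2 {G : Type*} [Group G] {w x y : G} (h : w * x * w = w * y * w) : x = y :=
  mul_left_cancel (mul_right_cancel h)

theorem w0_nw {w : List ℕ} (hw : w ∈ W16) (h : posW (alt true 8 ++ w) 9437184 = true) :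
    w0 * (nw w * z * (nw w)⁻¹) * w0 = ec (reflW (alt true 8 ++ w) 9437184) := by
  have h2 := nw_conj_ec (hl_aux hw) h
  rw [nw_append, ← w0_eq] at h2
  exact w0_aux (G := LL) (w := w0) w0_inv h2

theorem nw_zbm {w : List ℕ} (hw : w ∈ W16) (h : posW (alt true 8 ++ w) 9437184 = true)
    (h' : reflW (alt true 8 ++ w) 9437184 = 80) : nw w * z * (nw w)⁻¹ = zbm := by
  have h2 := w0_nw hw h
  rw [h', ← zb_eq, ← w0_conj_zbm] at h2
  exact w0_aux2 (G := LL) (w := w0) h2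

theorem nw_z_mem_TT {w : List ℕ} (hw : w ∈ W16) : nw w * z * (nw w)⁻¹ ∈ TT :=
  TT.mul_mem (TT.mul_mem (nw_mem_TT hw) z_mem_TT) (TT.inv_mem (nw_mem_TT hw))

theorem comm_aux {G : Type*} [Group G] {p z : G} (h : p * z = z * p) : p * z * p⁻¹ = z := by
  rw [h]
  group

theorem nw_ncomm {w : List ℕ} (hw : w ∈ W16) (h : posW (alt true 8 ++ w) 9437184 = true)
    (h3 : reflW (alt true 8 ++ w) 9437184 < 2 ^ 24) (h4 : reflW (alt true 8 ++ w) 9437184 ≠ 80)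
    (h5 : reflW (alt true 8 ++ w) 9437184 ≠ 0) : nw w * z * (nw w)⁻¹ * z ≠ z * (nw w * z * (nw w)⁻¹) := by
  intro hc
  have h7 := w0_nw hw h
  have hpV : nw w * z * (nw w)⁻¹ ∈ VT := by
    rw [mem_VT, h7]
    refine ⟨ec_mem_U _, ?_⟩
    rw [← h7]
    exact HT.mul_mem (HT.mul_mem w0_mem_HT (TT_le (nw_z_mem_TT hw))) w0_mem_HT
  rcases VT_TT_cent_z hpV (nw_z_mem_TT hw) (comm_aux (G := LL) (p := nw w * z * (nw w)⁻¹) hc) with h9 | h9
  · rw [h9, mul_one, w0_mul_self, ← ec_zero] at h7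
    exact h5 (ec_inj (by norm_num) h3 h7).symm
  · rw [h9, w0_conj_zbm, zb_eq] at h7
    exact h4 (ec_inj (by norm_num) h3 h7).symm


/-! ### the fields -/

theorem ya_mem_QQ : ya ∈ QQ := by rw [ya_eq]; exact gQ_mem (513, false) (by decide)
theorem ya_mem_ST : ya ∈ UT ⊓ TT := ⟨QQ_le_UT ya_mem_QQ, QQ_le_TT ya_mem_QQ⟩

theorem zb_ya_code : mulU 80 (conjU 513 80) ≠ mulU (conjU 513 80) 80 ∧ mulU 80 (conjU 513 80) < 2 ^ 24 ∧
    mulU (conjU 513 80) 80 < 2 ^ 24 := by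
  have h : (!Nat.beq (mulU 80 (conjU 513 80)) (mulU (conjU 513 80) 80) && Nat.blt (mulU 80 (conjU 513 80)) 16777216 &&
    Nat.blt (mulU (conjU 513 80) 80) 16777216) = true := by decide +kernel
  rw [Bool.and_eq_true, Bool.and_eq_true, Nat.blt_eq, Nat.blt_eq, Bool.not_eq_true'] at h
  refine ⟨fun h1 => ?_, h.1.2, h.2⟩
  have h2 := h.1.1
  rw [h1, Nat.beq_refl] at h2
  exact absurd h2 (by decide)

/-- `zb` and its conjugate by `ya` do not commute -/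
theorem zb_ya : zb * (ya * zb * ya⁻¹) ≠ ya * zb * ya⁻¹ * zb := by
  intro h1
  rw [zb_eq, ya_eq, ← ec_conjU, ← ec_mulU, ← ec_mulU] at h1
  obtain ⟨h2, h3, h4⟩ := zb_ya_code
  exact h2 (ec_inj h3 h4 h1)

theorem nya_mem : nb * ya * nb⁻¹ ∈ UT ⊓ TT :=
  ⟨(nb_conj_Q8 (QQ_le_Q8 ya_mem_QQ)).1, TT.mul_mem (TT.mul_mem nb_mem_TT ya_mem_ST.2) (TT.inv_mem nb_mem_TT)⟩

theorem zbm_mem_VT : zbm ∈ VT := by
  rw [mem_VT, w0_conj_zbm, zb_eq]
  exact ⟨ec_mem_U _, by rw [← zb_eq]; exact TT_le zb_mem_TT⟩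

theorem zbm_not_mem_UT : zbm ∉ UT := fun h => zbm_ne (UT_inf_VT h zbm_mem_VT)

theorem yam_not_mem_UT : yam ∉ UT := fun h => yam_ne (UT_inf_VT h yam_mem_VT)

theorem cent_AA' {g : LL} (hg : g ∈ TT) (h : ∀ a ∈ AA, g * a = a * g) : g ∈ AA := by
  rcases cent_AA (TT_le hg) h with h6 | h6
  · exact h6
  · exfalso
    have h7 := AA_le_TT h6
    rw [TT_mul_iff (UT_le_HT jf_mem) (TT_le hg)] at h7
    exact jf_not_mem (h7.2 hg)

theorem nb_z1_not_mem : nb * z1 * nb⁻¹ ∉ V4 := by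
  rw [nb_conj_z1]
  intro h
  obtain ⟨e, he, h1⟩ := mem_V4.1 h
  have h3 : ∀ e ∈ L4, e < 2 ^ 24 ∧ 266240 ≠ e := by decide
  exact (h3 e he).2 (ec_inj (by norm_num) (h3 e he).1 h1)

theorem w0_w0_aux {G : Type*} [Group G] {w a : G} (h : w * w = 1) : w * (w * a * w) * w = a := by
  have e : w * (w * a * w) * w = (w * w) * a * (w * w) := by group
  rw [e, h, one_mul, mul_one]

theorem w0_mem_VT {a : LL} (ha : a ∈ UT) : w0 * a * w0 ∈ VT := by
  have e := w0_w0_aux (G := LL) (w := w0) (a := a) w0_mul_self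
  rw [mem_VT, e]
  exact ha

theorem cz_aux {a : LL} (ha : a ∈ UT) (h : w0 * a * w0 * z * (w0 * a * w0)⁻¹ = z) : ∃ k : ℤ, a = yb ^ k := by
  obtain ⟨k, hk⟩ := Subgroup.mem_zpowers_iff.1 (VT_cent_z (w0_mem_VT ha) h)
  refine ⟨k, ?_⟩
  have e := w0_w0_aux (G := LL) (w := w0) (a := a) w0_mul_self
  rw [← hk] at e
  have e1 : w0 * ybm * w0⁻¹ = yb := by rw [w0_inv]; exact w0_conj_ybm
  rw [← e, ← e1, conj_zpow, w0_inv]

theorem cv_aux {a : LL} (ha : a ∈ UT) (h : ∀ v ∈ V4, w0 * a * w0 * v * (w0 * a * w0)⁻¹ ∈ V4) : a = 1 ∨ a = ya := by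
  rcases VT_norm_V4 (w0_mem_VT ha) h with h2 | h2
  · left
    have e := w0_w0_aux (G := LL) (w := w0) (a := a) w0_mul_self
    rw [h2, mul_one, w0_mul_self] at e
    exact e.symm
  · right
    have e := w0_w0_aux (G := LL) (w := w0) (a := a) w0_mul_self
    rw [h2, w0_conj_yam] at e
    exact e.symm

theorem nanb_z : nw [0, 3, 1, 2, 1, 2] * z * (nw [0, 3, 1, 2, 1, 2])⁻¹ = z1 := by
  have h := nw_conj_ec (w := [0, 3, 1, 2, 1, 2]) (e := 9437184) (by decide) (by decide +kernel)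
  have e : reflW [0, 3, 1, 2, 1, 2] 9437184 = 4259840 := by decide +kernel
  rw [e] at h
  exact h

theorem nanb_z1 : nw [0, 3, 1, 2, 1, 2] * z1 * (nw [0, 3, 1, 2, 1, 2])⁻¹ = zb := by
  have h := nw_conj_ec (w := [0, 3, 1, 2, 1, 2]) (e := 4259840) (by decide) (by decide +kernel)
  have e : reflW [0, 3, 1, 2, 1, 2] 4259840 = 80 := by decide +kernel
  rw [e, ← zb_eq] at h
  exact h

theorem bruhatW {g : LL} (hg : g ∈ HT) : ∃ u ∈ UT, ∃ n ∈ TT, ∃ v ∈ UT, g = u * n * v ∧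
    (n * z * n⁻¹ = z ∨ (∀ v ∈ V4, n * v * n⁻¹ ∈ V4) ∨ (n * z * n⁻¹ = z1 ∧ n * z1 * n⁻¹ = zb) ∨
      n * z * n⁻¹ = zb ∨ n * z * n⁻¹ = qf 3 ∨ n * z * n⁻¹ = zbm ∨ n * z * n⁻¹ * z ≠ z * (n * z * n⁻¹)) := by
  obtain ⟨u, hu, w, hw, v, hv, h⟩ := bruhat_HT hg
  refine ⟨u, hu, nw w, nw_mem_TT hw, v, hv, h, ?_⟩
  rcases oW_spec hw with h1 | h1 | h1 | h1 | h1 | h1 | h1 | h1
  · left
    rw [h1]
    show 1 * z * 1⁻¹ = z
    rw [one_mul, inv_one, mul_one]
  · left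
    rw [h1]
    exact nb_conj_z
  · right; left
    rw [h1]
    exact fun x hx => na_conj_V4 hx
  · right; right; left
    rw [h1]
    exact ⟨nanb_z, nanb_z1⟩
  · right; right; right; left
    have h2 := nw_conj_ec (lt_of_mem_W16 hw) h1.1
    rw [h1.2, ← zb_eq] at h2
    exact h2
  · right; right; right; right; left
    have h2 := nw_conj_ec (lt_of_mem_W16 hw) h1.1
    rw [h1.2] at h2
    exact h2
  · right; right; right; right; right; left
    exact nw_zbm hw h1.1 h1.2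
  · right; right; right; right; right; right
    exact nw_ncomm hw h1.1 h1.2.1 h1.2.2.1 h1.2.2.2

theorem overIn : OverIn tdata AA yb sf nb qf where
  sf_mem := ⟨sf_mem, sf_mem_TT⟩
  nb_mem := nb_mem_TT
  nbz := nb_conj_z
  na := ⟨na, na_mem_TT, fun _ hv => na_conj_V4 hv, na_conj_ya⟩
  ya_mem := ya_mem_ST
  nya := nya_mem
  nzb := nb_conj_zb
  zbU := zbm_not_mem_UT
  yaU := yam_not_mem_UT
  zb_ya := zb_ya
  q_sf := qf_conj_sf
  q_prod := qf_prod
  A_gen := AA_gen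
  UA := fun _ hu _ ha => UT_conj_AA hu ha
  A_le := AA_le_TT
  cent_A := fun _ hg h => cent_AA' hg h
  norm_A := fun _ hg h => (mem_Pz.1 (norm_AA hg h)).2
  z1_conj := fun _ hu => conj_z1 hu
  V_cases := fun _ hv => mem_V4_iff.1 hv
  UV := fun _ hu _ hv => UT_conj_V4 hu hv
  nV := nb_z1_not_mem
  bruhat := fun _ hg => bruhatW hg
  cz := fun _ ha h => cz_aux ha h
  yb4 := yb_pow4
  yb2 := yb_sq
  cv := fun _ ha h => cv_aux ha h

theorem overD : Over tdata := OverIn.mk_over overIn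

end Cfsg.Agent.TitsK
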