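import Cfsg.Agent.TitsK.Abs

/-!
The homomorphism `E ⟨y⟩ → ZMod 4` with kernel `E`: `exists_hom4`.
-/

set_option autoImplicit false

namespace Cfsg.Agent.TitsK.Abs

variable {G : Type*} [Group G]

theorem zpow_mem_iff4 {E : Subgroup G} {y : G} (h4 : y ^ 4 ∈ E) (h2 : y ^ 2 ∉ E) (i : ℤ) :
    y ^ i ∈ E ↔ ((i : ℤ) : ZMod 4) = 0 := by
  have h4' : ∀ j : ℤ, y ^ (4 * j) ∈ E := by
    intro j
    rw [zpow_mul]
    exact E.zpow_mem (by exact_mod_cast h4) j
  rw [ZMod.intCast_zmod_eq_zero_iff_dvd]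
  constructor
  · intro h
    by_contra hn
    apply h2
    have hcases : i % 4 = 1 ∨ i % 4 = 2 ∨ i % 4 = 3 := by
      have h0 : i % 4 ≠ 0 := fun h0 => hn (by exact_mod_cast Int.dvd_of_emod_eq_zero h0)
      omega
    have hi : i = 4 * (i / 4) + i % 4 := (Int.mul_ediv_add_emod i 4).symm
    have h5 : y ^ (i % 4) ∈ E := by
      have e : y ^ (i % 4) = (y ^ (4 * (i / 4)))⁻¹ * y ^ i := by
        rw [← zpow_neg, ← zpow_add]
        congr 1
        omega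
      rw [e]
      exact E.mul_mem (E.inv_mem (h4' _)) h
    rcases hcases with h6 | h6 | h6
    · rw [h6, zpow_one] at h5
      exact E.pow_mem h5 2
    · rw [h6] at h5
      exact_mod_cast h5
    · rw [h6] at h5
      have e : y ^ 2 = y ^ (3 : ℤ) * y ^ (3 : ℤ) * (y ^ (4 * (1 : ℤ)))⁻¹ := by
        rw [← zpow_neg, ← zpow_add, ← zpow_add, ← zpow_natCast]
        congr 1
      rw [e]
      exact E.mul_mem (E.mul_mem h5 h5) (E.inv_mem (h4' 1))
  · rintro ⟨k, hk⟩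
    rw [hk]
    exact_mod_cast h4' k

/-- the homomorphism `E ⟨y⟩ → ZMod 4` with kernel `E` -/
theorem exists_hom4 {E : Subgroup G} {y : G} (hy : y ∈ Subgroup.normalizer (E : Set G)) (h4 : y ^ 4 ∈ E)
    (h2 : y ^ 2 ∉ E) : ∃ f : G → ZMod 4, (∀ a ∈ mulSub E y hy, ∀ b ∈ mulSub E y hy, f (a * b) = f a + f b) ∧
      f y = 1 ∧ ∀ a ∈ mulSub E y hy, (f a = 0 ↔ a ∈ E) := by
  classical
  let f : G → ZMod 4 := fun a => if h : ∃ i : ℤ, ∃ q ∈ E, a = y ^ i * q then ((Classical.choose h : ℤ) : ZMod 4) else 0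
  have key : ∀ (a : G) (i : ℤ) (q : G), q ∈ E → a = y ^ i * q → f a = (i : ZMod 4) := by
    intro a i q hq ha
    have h : ∃ i : ℤ, ∃ q ∈ E, a = y ^ i * q := ⟨i, q, hq, ha⟩
    have e : f a = ((Classical.choose h : ℤ) : ZMod 4) := dif_pos h
    rw [e]
    obtain ⟨q', hq', ha'⟩ := Classical.choose_spec h
    set i' := Classical.choose h
    have h5 : y ^ (i' - i) ∈ E := by
      have e2 : y ^ (i' - i) = (y ^ (-i) * (y ^ i' * q')) * q'⁻¹ := by
        rw [← mul_assoc, mul_inv_cancel_right, ← zpow_add]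
        congr 1
        ring
      rw [e2, ← ha', ha]
      have e3 : y ^ (-i) * (y ^ i * q) * q'⁻¹ = q * q'⁻¹ := by group
      rw [e3]
      exact E.mul_mem hq (E.inv_mem hq')
    rw [zpow_mem_iff4 h4 h2, Int.cast_sub, sub_eq_zero] at h5
    exact h5
  refine ⟨f, ?_, ?_, ?_⟩
  · rintro a ⟨i, q, hq, rfl⟩ b ⟨j, r, hr, rfl⟩
    rw [key _ i q hq rfl, key _ j r hr rfl]
    have h1 := (Subgroup.mem_normalizer_iff.1 (Subgroup.zpow_mem _ hy (-j)) q).1 hq
    rw [key _ (i + j) _ (E.mul_mem h1 hr) (by group), Int.cast_add]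
  · rw [key y 1 1 E.one_mem (by group), Int.cast_one]
  · rintro a ⟨i, q, hq, rfl⟩
    rw [key _ i q hq rfl, ← zpow_mem_iff4 h4 h2]
    constructor
    · intro h
      exact E.mul_mem h hq
    · intro h
      have e : y ^ i = y ^ i * q * q⁻¹ := by group
      rw [e]
      exact E.mul_mem h (E.inv_mem hq)

/-- a 2-element of `D ⟨x⟩`, `x` of order 5, lies in `D` -/
theorem mem_of_pow_five {D : Subgroup G} {x : G} (hx : x ∈ Subgroup.normalizer (D : Set G)) (h5 : x ^ 5 = 1) {g : G}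
    (hg : g ∈ mulSub D x hx) {n : ℕ} (h2 : g ^ (2 ^ n) ∈ D) : g ∈ D := by
  have key : ∀ (i : ℤ) (q : G), q ∈ D → ∀ m : ℕ, ∃ r ∈ D, (x ^ i * q) ^ m = (x ^ i) ^ m * r := by
    intro i q hq m
    induction m with
    | zero => exact ⟨1, D.one_mem, by simp⟩
    | succ m ih =>
      obtain ⟨r, hr, h⟩ := ih
      have h1 := (Subgroup.mem_normalizer_iff.1 (Subgroup.zpow_mem _ hx (-i)) r).1 hr
      refine ⟨_, D.mul_mem h1 hq, ?_⟩
      rw [pow_succ, h, pow_succ]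
      group
  obtain ⟨i, q, hq, rfl⟩ := hg
  have hx5 : (x ^ i) ^ 5 = 1 := by
    rw [← zpow_natCast, ← zpow_mul, mul_comm, zpow_mul]
    have e : x ^ ((5 : ℕ) : ℤ) = 1 := by exact_mod_cast h5
    rw [e, one_zpow]
  have hc : Nat.Coprime (2 ^ n) 5 := Nat.Coprime.pow_left n (by norm_num)
  obtain ⟨r, hr, h⟩ := key i q hq (2 ^ n)
  rw [h] at h2
  have h3 : (x ^ i) ^ (2 ^ n) ∈ D := by
    have e : (x ^ i) ^ (2 ^ n) = (x ^ i) ^ (2 ^ n) * r * r⁻¹ := by group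
    rw [e]
    exact D.mul_mem h2 (D.inv_mem hr)
  have h4 : x ^ i ∈ D := by
    have e1 : ((x ^ i) ^ (2 ^ n)) ^ ((2 ^ n) ^ 3) = x ^ i := by
      rw [← pow_mul, ← pow_succ']
      have h7 : (2 ^ n) ^ (3 + 1) % 5 = 1 := by
        rw [show (3 + 1) = 4 from rfl, ← pow_mul, mul_comm, pow_mul, Nat.pow_mod]
        norm_num
      rw [← Nat.div_add_mod ((2 ^ n) ^ (3 + 1)) 5, h7, pow_add, pow_mul, hx5, one_pow, one_mul, pow_one]
    rw [← e1]
    exact D.pow_mem h3 _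
  exact D.mul_mem h4 hq

end Cfsg.Agent.TitsK.Abs
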