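import Cfsg.Agent.TitsK.Inst

/-!
Enumeration of the elements of a subgroup `H ≤ U` of order `2 ^ n` from `n` generators in echelon form:
`leaf_of_card`, `leaf_induct`, `all_of_card`.
-/

set_option autoImplicit false
set_option Elab.async false

namespace Cfsg.Agent.TitsK

open Cfsg.Lie Cfsg.Agent.ChevalleyStructure.TwF4.Tables
open Cfsg.Agent.FourTwo.Base hiding bar bar_lt
open Cfsg.Agent.FourTwo.BN Cfsg.Agent.FourTwo.Comm Cfsg.Agent.FourTwo.Classes
open Cfsg.Agent.FourTwo.UCode (mulU invU conjU lets colW colF force force_eq mem_lets wel_lets wel_mem)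

theorem lf_lt {gs : List (ℕ × Bool)} {e : ℕ} {b : Bool} (he : e < 2 ^ 24) : ∀ q ∈ lf gs e b, q.1 < 2 ^ 24 := by
  induction gs generalizing e b with
  | nil =>
    intro q hq
    rw [lf, List.mem_singleton] at hq
    rw [hq]
    exact he
  | cons g gs ih =>
    intro q hq
    rw [lf, List.mem_append] at hq
    rcases hq with hq | hq
    · exact ih he q hq
    · exact ih (mulU_lt he _) q hq

theorem lf_induct {P : LL → Prop} {gs : List (ℕ × Bool)} (h2 : ∀ a, ∀ g ∈ gs, P a → P (a * ec g.1)) {e : ℕ} {b : Bool}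
    (he : P (ec e)) : ∀ q ∈ lf gs e b, P (ec q.1) := by
  induction gs generalizing e b with
  | nil =>
    intro q hq
    rw [lf, List.mem_singleton] at hq
    rw [hq]
    exact he
  | cons g gs ih =>
    have ih' := fun {e : ℕ} {b : Bool} => ih (fun a g' hg' => h2 a g' (List.mem_cons_of_mem _ hg')) (e := e) (b := b)
    intro q hq
    rw [lf, List.mem_append] at hq
    rcases hq with hq | hq
    · exact ih' he q hq
    · refine ih' ?_ q hq
      rw [ec_mulU]
      exact h2 _ g List.mem_cons_self he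

theorem leaf_of_card {H : Subgroup LL} {ks : List ℕ} (hks : ∀ k ∈ ks, k ≤ 24) {gs : List (ℕ × Bool)}
    (hsep : sepP ks gs 0 = true) (hgs : ∀ g ∈ gs, ec g.1 ∈ H) (hc : Nat.card ↥H = 2 ^ gs.length) {g : LL} (hg : g ∈ H) :
    ∃ q ∈ lf gs 0 false, g = ec q.1 := by
  classical
  set L := (lf gs 0 false).map Prod.fst with hL
  have h1 : L.Nodup := nodup_lf hks hsep
  have h2 : ∀ e ∈ L, e < 2 ^ 24 ∧ ec e ∈ H := by
    intro e he
    rw [hL, List.mem_map] at he
    obtain ⟨q, hq, rfl⟩ := he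
    exact ⟨lf_lt (by norm_num) q hq, lf_induct (P := fun g => g ∈ H) (fun a g hg ha => H.mul_mem ha (hgs g hg))
      (by rw [ec_zero]; exact H.one_mem) q hq⟩
  have h3 : (L.map ec).Nodup := h1.map_on fun a ha b hb hab => ec_inj (h2 a ha).1 (h2 b hb).1 hab
  have h4 : (L.map ec).length = 2 ^ gs.length := by
    rw [List.length_map, hL, List.length_map, length_lf]
  have h5 : (L.map ec).toFinset.card = 2 ^ gs.length := by
    rw [List.toFinset_card_of_nodup h3, h4]
  have h6 : (((L.map ec).toFinset : Finset LL) : Set LL) ⊆ (H : Set LL) := by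
    intro g hg
    rw [Finset.mem_coe, List.mem_toFinset, List.mem_map] at hg
    obtain ⟨e, he, rfl⟩ := hg
    exact (h2 e he).2
  have h7 : (H : Set LL).ncard = 2 ^ gs.length := by
    rw [← hc]
    rfl
  have h8 := Set.eq_of_subset_of_ncard_le h6 (by rw [h7, Set.ncard_coe_finset, h5]) (Set.toFinite _)
  have h9 : g ∈ (((L.map ec).toFinset : Finset LL) : Set LL) := by
    rw [h8]
    exact hg
  rw [Finset.mem_coe, List.mem_toFinset, List.mem_map] at h9
  obtain ⟨e, he, rfl⟩ := h9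
  rw [hL, List.mem_map] at he
  obtain ⟨q, hq, rfl⟩ := he
  exact ⟨q, hq, rfl⟩

theorem induct_of_card {H : Subgroup LL} {ks : List ℕ} (hks : ∀ k ∈ ks, k ≤ 24) {gs : List (ℕ × Bool)}
    (hsep : sepP ks gs 0 = true) (hgs : ∀ g ∈ gs, ec g.1 ∈ H) (hc : Nat.card ↥H = 2 ^ gs.length)
    {P : LL → Prop} (h1 : P 1) (h2 : ∀ a, ∀ g ∈ gs, P a → P (a * ec g.1)) {g : LL} (hg : g ∈ H) : P g := by
  obtain ⟨q, hq, rfl⟩ := leaf_of_card hks hsep hgs hc hg
  exact lf_induct h2 (by rw [ec_zero]; exact h1) q hq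

/-- check at the leaves -/
def allG (gs : List (ℕ × Bool)) (p : ℕ → Bool) : Bool := allP (fun e _ => p e) gs 0 false

theorem all_of_card {H : Subgroup LL} {ks : List ℕ} (hks : ∀ k ∈ ks, k ≤ 24) {gs : List (ℕ × Bool)}
    (hsep : sepP ks gs 0 = true) (hgs : ∀ g ∈ gs, ec g.1 ∈ H) (hc : Nat.card ↥H = 2 ^ gs.length)
    {p : ℕ → Bool} (h : allG gs p = true) {g : LL} (hg : g ∈ H) : ∃ e, e < 2 ^ 24 ∧ g = ec e ∧ p e = true := by
  obtain ⟨q, hq, rfl⟩ := leaf_of_card hks hsep hgs hc hg
  exact ⟨q.1, lf_lt (by norm_num) q hq, rfl, allP_spec h q hq⟩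

/-! ### subgroups given by a list of codes -/

/-- the list is closed -/
def clB (L : List ℕ) : Bool := L.contains 0 && L.all fun a => L.contains (invU a) && L.all fun b => L.contains (mulU a b)

/-- the subgroup of the codes of `L` -/
def cs (L : List ℕ) (h : clB L = true) : Subgroup LL where
  carrier := {g | ∃ e ∈ L, g = ec e}
  one_mem' := by
    unfold clB at h
    rw [Bool.and_eq_true, List.contains_iff_mem] at h
    exact ⟨0, h.1, ec_zero.symm⟩
  mul_mem' := by
    unfold clB at h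
    rw [Bool.and_eq_true, List.all_eq_true] at h
    rintro _ _ ⟨a, ha, rfl⟩ ⟨b, hb, rfl⟩
    have h1 := h.2 a ha
    rw [Bool.and_eq_true, List.all_eq_true] at h1
    have h2 := h1.2 b hb
    rw [List.contains_iff_mem] at h2
    exact ⟨_, h2, (ec_mulU _ _).symm⟩
  inv_mem' := by
    unfold clB at h
    rw [Bool.and_eq_true, List.all_eq_true] at h
    rintro _ ⟨a, ha, rfl⟩
    have h1 := h.2 a ha
    rw [Bool.and_eq_true, List.contains_iff_mem] at h1
    exact ⟨_, h1.1, (ec_invU _).symm⟩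

theorem mem_cs {L : List ℕ} {h : clB L = true} {g : LL} : g ∈ cs L h ↔ ∃ e ∈ L, g = ec e := Iff.rfl

theorem card_cs {L : List ℕ} {h : clB L = true} (hn : L.Nodup) (hlt : ∀ e ∈ L, e < 2 ^ 24) :
    Nat.card ↥(cs L h) = L.length := by
  classical
  have h3 : (L.map ec).Nodup := hn.map_on fun a ha b hb hab => ec_inj (hlt a ha) (hlt b hb) hab
  have h6 : ((cs L h : Subgroup LL) : Set LL) = (((L.map ec).toFinset : Finset LL) : Set LL) := by
    ext g
    rw [Finset.mem_coe, List.mem_toFinset, List.mem_map]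
    constructor
    · rintro ⟨e, he, rfl⟩
      exact ⟨e, he, rfl⟩
    · rintro ⟨e, he, rfl⟩
      exact ⟨e, he, rfl⟩
  have h7 : Nat.card ↥(cs L h) = ((cs L h : Subgroup LL) : Set LL).ncard := rfl
  rw [h7, h6, Set.ncard_coe_finset, List.toFinset_card_of_nodup h3, List.length_map]

end Cfsg.Agent.TitsK
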