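import Cfsg.Agent.TitsK.Par20
import Cfsg.Agent.TitsK.Leaf
import Cfsg.Agent.TitsK.Abs2

/-!
The structure of `C_HT(z)`:

* `E8 = Q8 ⟨xf⟩`, `Pz_eq : Pz = E8 ⟨yb⟩`, `exists_lam`: the homomorphism `Pz → ZMod 4` with kernel `E8`;
* `AA` (order `2 ^ 5`), `Pz_conj_AA`, `cent_AA`;
* `card_Q8`, `QQ = Q8 ⊓ TT`, `card_QQ`, `Q8_induct`, `QQ_induct`.
-/

set_option autoImplicit false
set_option Elab.async false

namespace Cfsg.Agent.TitsK

open Cfsg.Lie Cfsg.Agent.ChevalleyStructure.TwF4.Tables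
open Cfsg.Agent.FourTwo.Base hiding bar bar_lt
open Cfsg.Agent.FourTwo.BN Cfsg.Agent.FourTwo.Comm Cfsg.Agent.FourTwo.Classes
open Cfsg.Agent.FourTwo.Par
open Cfsg.Agent.FourTwo.UCode (mulU invU conjU lets letsL letsL_cons lets_eq land_pow_eq_zero colW colF force force_eq
  mem_lets wel_lets wel_mem)
open Cfsg.Agent.TitsK.Abs

/-! ### `Pz = Q8 ⟨xf⟩ ⟨yb⟩` -/

theorem z_conj_Pz {g : LL} (hg : g ∈ Pz) : g * z * g⁻¹ = z := (mem_Pz.1 hg).2
theorem Pz_le_HT {g : LL} (hg : g ∈ Pz) : g ∈ HT := (mem_Pz.1 hg).1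

theorem Q8_le_Pz : Q8 ≤ Pz := Q8_le.trans UT_le_Pz

theorem norm_Q8 {p : LL} (hp : p ∈ Pz) : p ∈ Subgroup.normalizer (Q8 : Set LL) :=
  mem_normalizer_of fun _ hq => Pz_conj_Q8 hp hq

/-- `Q8 ⟨xf⟩` -/
def E8 : Subgroup LL := mulSub Q8 xf (norm_Q8 xf_mem_Pz)

theorem Q8_le_E8 : Q8 ≤ E8 := fun g hg => (mem_mulSub (norm_Q8 xf_mem_Pz)).2 ⟨0, g, hg, by group⟩
theorem xf_mem_E8 : xf ∈ E8 := (mem_mulSub (norm_Q8 xf_mem_Pz)).2 ⟨1, 1, Q8.one_mem, by group⟩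
theorem jf_mem_E8 : jf ∈ E8 := Q8_le_E8 jf_mem_Q8

theorem mem_E8 {g : LL} : g ∈ E8 ↔ ∃ i : ℤ, ∃ q ∈ Q8, g = xf ^ i * q := Iff.rfl

theorem E8_le_Pz : E8 ≤ Pz := by
  rintro g hg
  obtain ⟨i, q, hq, rfl⟩ := mem_E8.1 hg
  exact Pz.mul_mem (Pz.zpow_mem xf_mem_Pz i) (Q8_le_Pz hq)

theorem yb_mem_Pz : yb ∈ Pz := UT_le_Pz yb_mem
theorem jf_mem_Pz : jf ∈ Pz := UT_le_Pz jf_mem
theorem sf_mem_Pz : sf ∈ Pz := UT_le_Pz sf_mem

theorem yb_conj_E8 {g : LL} (hg : g ∈ E8) : yb * g * yb⁻¹ ∈ E8 := by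
  obtain ⟨i, q, hq, rfl⟩ := mem_E8.1 hg
  have e : yb * (xf ^ i * q) * yb⁻¹ = (yb * xf * yb⁻¹) ^ i * (yb * q * yb⁻¹) := by
    rw [conj_zpow]
    group
  rw [e, yb_conj_xf]
  exact E8.mul_mem (E8.zpow_mem (E8.pow_mem xf_mem_E8 3) i) (Q8_le_E8 (Pz_conj_Q8 yb_mem_Pz hq))

theorem yb_norm_E8 : yb ∈ Subgroup.normalizer (E8 : Set LL) := mem_normalizer_of fun _ hq => yb_conj_E8 hq

theorem nb_eq_xf : nb = xf ^ 2 * yb ^ 2 := by
  rw [nb_eq, pow_two yb, yb_sq]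
  unfold xf
  rw [pow_two]
  group

theorem Pz_le : Pz ≤ mulSub E8 yb yb_norm_E8 := by
  have hE : E8 ≤ mulSub E8 yb yb_norm_E8 := fun g hg => ⟨0, g, hg, by group⟩
  have hy : yb ∈ mulSub E8 yb yb_norm_E8 := ⟨1, 1, E8.one_mem, by group⟩
  have hU : UT ≤ mulSub E8 yb yb_norm_E8 := by
    intro u hu
    obtain ⟨i, q, hq, rfl⟩ := UT_decomp8 hu
    exact (mulSub E8 yb yb_norm_E8).mul_mem ((mulSub E8 yb yb_norm_E8).pow_mem hy i) (hE (Q8_le_E8 hq))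
  have hn : nb ∈ mulSub E8 yb yb_norm_E8 := by
    rw [nb_eq_xf]
    exact (mulSub E8 yb yb_norm_E8).mul_mem ((mulSub E8 yb yb_norm_E8).pow_mem (hE xf_mem_E8) 2)
      ((mulSub E8 yb yb_norm_E8).pow_mem hy 2)
  intro g hg
  obtain ⟨u, hu, v, hv, rfl | rfl⟩ := cent_z_cases (Pz_le_HT hg) (z_conj_Pz hg)
  · exact (mulSub E8 yb yb_norm_E8).mul_mem (hU hu) (hU hv)
  · exact (mulSub E8 yb yb_norm_E8).mul_mem ((mulSub E8 yb yb_norm_E8).mul_mem (hU hu) hn) (hU hv)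

theorem Pz_eq : Pz = mulSub E8 yb yb_norm_E8 := by
  apply le_antisymm Pz_le
  rintro _ ⟨i, q, hq, rfl⟩
  exact Pz.mul_mem (Pz.zpow_mem yb_mem_Pz i) (E8_le_Pz hq)

theorem Pz_conj_E8 {p g : LL} (hp : p ∈ Pz) (hg : g ∈ E8) : p * g * p⁻¹ ∈ E8 := by
  obtain ⟨i, e, he, rfl⟩ := Pz_le hp
  have h1 := (Subgroup.mem_normalizer_iff.1 (Subgroup.zpow_mem _ yb_norm_E8 i) (e * g * e⁻¹)).1
    (E8.mul_mem (E8.mul_mem he hg) (E8.inv_mem he))
  have e1 : yb ^ i * e * g * (yb ^ i * e)⁻¹ = yb ^ i * (e * g * e⁻¹) * (yb ^ i)⁻¹ := by group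
  rw [e1]
  exact h1

/-- a 2-element of `E8` lies in `Q8` -/
theorem mem_Q8_of_E8 {g : LL} (hg : g ∈ E8) {n : ℕ} (h : g ^ (2 ^ n) ∈ Q8) : g ∈ Q8 :=
  mem_of_pow_five (norm_Q8 xf_mem_Pz) xf_pow5 hg h

theorem yb_sq_not_mem_Q8 : yb ^ 2 ∉ Q8 := by
  rw [pow_two, yb_sq, zb_eq, mem_Q8_iff ec80]
  decide +kernel

theorem yb_sq_not_mem_E8 : yb ^ 2 ∉ E8 := by
  intro h
  apply yb_sq_not_mem_Q8
  apply mem_Q8_of_E8 h (n := 1)
  rw [← pow_mul]
  have e : yb ^ (2 * 2 ^ 1) = 1 := yb_pow4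
  rw [e]
  exact Q8.one_mem

theorem yb_pow4_mem_E8 : yb ^ 4 ∈ E8 := by
  rw [yb_pow4]
  exact E8.one_mem

/-- **the homomorphism `C_HT(z) → ZMod 4`** with kernel `E8` -/
theorem exists_lam : ∃ f : LL → ZMod 4, (∀ a ∈ Pz, ∀ b ∈ Pz, f (a * b) = f a + f b) ∧ f yb = 1 ∧
    ∀ a ∈ Pz, (f a = 0 ↔ a ∈ E8) := by
  obtain ⟨f, h1, h2, h3⟩ := exists_hom4 yb_norm_E8 yb_pow4_mem_E8 yb_sq_not_mem_E8
  exact ⟨f, fun a ha b hb => h1 a (Pz_le ha) b (Pz_le hb), h2, fun a ha => h3 a (Pz_le ha)⟩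

/-! ### orders -/

theorem relIndex_Q8 : Q8.relIndex UT = 4 := by
  have h := relIndex8
  have h2 : yb ^ Q8.relIndex UT ∈ Q8 := by
    have hn : (Q8.subgroupOf UT).Normal := ⟨fun q hq p => UT_conj_Q8 p.2 hq⟩
    exact (Q8.subgroupOf UT).pow_index_mem ⟨yb, yb_mem⟩
  have h3 : Q8.relIndex UT ∣ 2 ^ 2 := h
  obtain ⟨k, hk, h4⟩ := (Nat.dvd_prime_pow Nat.prime_two).1 h3
  have hk' : k = 0 ∨ k = 1 ∨ k = 2 := by omega
  rcases hk' with rfl | rfl | rfl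
  · exfalso
    rw [h4, pow_zero, pow_one] at h2
    exact yb_sq_not_mem_Q8 (Q8.pow_mem h2 2)
  · exfalso
    rw [h4, pow_one] at h2
    exact yb_sq_not_mem_Q8 h2
  · rw [h4]
    norm_num

theorem card_Q8 : Nat.card ↥Q8 = 2 ^ 10 := by
  have h := card_of_relIndex Q8_le _ relIndex_Q8
  rw [card_UT] at h
  omega

/-- `O_2(C_TT(z))` -/
def QQ : Subgroup LL := Q8 ⊓ TT

theorem mem_QQ {g : LL} : g ∈ QQ ↔ g ∈ Q8 ∧ g ∈ TT := Iff.rfl

theorem card_inf_aux {G : Type*} [Group G] {Q T H : Subgroup G} (hT : T.relIndex H = 2) (hQ : Q ≤ H) {j : G}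
    (hj : j ∈ Q) (hjT : j ∉ T) : (Q ⊓ T).relIndex Q = 2 := by
  rw [Subgroup.inf_relIndex_left]
  have h1 : T.relIndex Q ∣ 2 := by
    rw [← hT]
    have : (T.subgroupOf H).Normal := Subgroup.normal_of_index_eq_two hT
    have h2 := Subgroup.relIndex_dvd_index_of_normal (T.subgroupOf H) (Q.subgroupOf H)
    have h3 : (T.subgroupOf H).relIndex (Q.subgroupOf H) = T.relIndex Q := Subgroup.relIndex_subgroupOf hQ
    rw [h3] at h2
    exact h2
  rcases (Nat.dvd_prime Nat.prime_two).1 h1 with h2 | h2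
  · exact absurd (Subgroup.relIndex_eq_one.1 h2 hj) hjT
  · exact h2

theorem card_QQ : Nat.card ↥QQ = 2 ^ 9 := by
  have h : Nat.card ↥QQ * 2 = Nat.card ↥Q8 := card_of_relIndex (inf_le_left : QQ ≤ Q8) 2
    (card_inf_aux relIndex_TT (Q8_le.trans UT_le_HT) jf_mem_Q8 jf_not_mem)
  rw [card_Q8] at h
  omega

/-! ### generators -/

/-- generators of `Q8` -/
def gQ8 : List (ℕ × Bool) := [(513, false), (263172, true), (1179680, true), (4196480, true), (8448, false),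
  (266240, false), (540672, false), (2129920, false), (4259840, false), (9437184, false)]

/-- generators of `QQ` -/
def gQ : List (ℕ × Bool) := [(513, false), (1459236, false), (7473312, false), (8448, false), (266240, false),
  (540672, false), (2129920, false), (4259840, false), (9437184, false)]

theorem gQ8_mem : ∀ g ∈ gQ8, ec g.1 ∈ Q8 := by
  intro g hg
  have h1 : ∀ g ∈ gQ8, g ∈ gens12 ∧ q8B g.1 = true := by decide +kernel
  exact (mem_Q8_iff (gens_mem g (h1 g hg).1)).2 (h1 g hg).2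

theorem mulU_y {a b c : ℕ} (h : mulU a b = c) (ha : ec a ∈ UT) (hb : ec b ∈ UT) (hat : ec a ∉ TT) (hbt : ec b ∉ TT) :
    ec c ∈ UT ∧ ec c ∈ TT := by
  rw [← h, ec_mulU]
  refine ⟨UT.mul_mem ha hb, ?_⟩
  rw [TT_mul_iff ha.2 hb.2]
  exact iff_of_false hat hbt

theorem gQ_mem_UT : ∀ g ∈ gQ, ec g.1 ∈ UT ∧ ec g.1 ∈ TT := by
  intro g hg
  simp only [gQ, List.mem_cons, List.not_mem_nil, or_false] at hg
  rcases hg with rfl | rfl | rfl | rfl | rfl | rfl | rfl | rfl | rfl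
  · exact ⟨ec513, t513⟩
  · exact mulU_y (a := 263172) (b := 1179680) (by decide +kernel) ec263172 ec1179680 t263172 t1179680
  · exact mulU_y (a := 1179680) (b := 4196480) (by decide +kernel) ec1179680 ec4196480 t1179680 t4196480
  · exact ⟨ec8448, t8448⟩
  · exact ⟨ec266240, t266240⟩
  · exact ⟨ec540672, t540672⟩
  · exact ⟨ec2129920, t2129920⟩
  · exact ⟨ec4259840, t4259840⟩
  · exact ⟨ec9437184, t9437184⟩

theorem gQ_mem : ∀ g ∈ gQ, ec g.1 ∈ QQ := by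
  intro g hg
  have h1 : ∀ g ∈ gQ, q8B g.1 = true := by decide +kernel
  obtain ⟨h2, h3⟩ := gQ_mem_UT g hg
  exact ⟨(mem_Q8_iff h2).2 (h1 g hg), h3⟩

theorem sepQ8 : sepP [1, 3, 6, 8, 9, 13, 15, 16, 17, 21] gQ8 0 = true := by decide +kernel
theorem sepQ : sepP [1, 3, 6, 9, 13, 15, 16, 17, 21] gQ 0 = true := by decide +kernel

theorem Q8_induct {P : LL → Prop} (h1 : P 1) (h2 : ∀ a, ∀ g ∈ gQ8, P a → P (a * ec g.1)) {g : LL} (hg : g ∈ Q8) : P g :=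
  induct_of_card (by decide) sepQ8 gQ8_mem card_Q8 h1 h2 hg

theorem QQ_induct {P : LL → Prop} (h1 : P 1) (h2 : ∀ a, ∀ g ∈ gQ, P a → P (a * ec g.1)) {g : LL} (hg : g ∈ QQ) : P g :=
  induct_of_card (by decide) sepQ gQ_mem card_QQ h1 h2 hg

theorem Q8_allG {p : ℕ → Bool} (h : allG gQ8 p = true) {g : LL} (hg : g ∈ Q8) :
    ∃ e, e < 2 ^ 24 ∧ g = ec e ∧ p e = true := all_of_card (by decide) sepQ8 gQ8_mem card_Q8 h hg

theorem QQ_allG {p : ℕ → Bool} (h : allG gQ p = true) {g : LL} (hg : g ∈ QQ) :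
    ∃ e, e < 2 ^ 24 ∧ g = ec e ∧ p e = true := all_of_card (by decide) sepQ gQ_mem card_QQ h hg

/-! ### the subgroup `AA` -/

/-- codes of `AA` -/
def A32 : List ℕ := [0, 266240, 540672, 806912, 2129920, 2396160, 2670592, 2936832, 4259840, 4526080, 4800512, 5066752,
  6389760, 6656000, 6930432, 7196672, 9437184, 9703424, 9977856, 10244096, 11567104, 11833344, 12107776, 12374016,
  13697024, 13963264, 14237696, 14503936, 15826944, 16093184, 16367616, 16633856]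

theorem clA : clB A32 = true := by decide +kernel

/-- the elementary abelian subgroup of order `2 ^ 5`, normal in `C_HT(z)` -/
def AA : Subgroup LL := cs A32 clA

theorem mem_AA {g : LL} : g ∈ AA ↔ ∃ e ∈ A32, g = ec e := Iff.rfl

theorem card_AA : Nat.card ↥AA = 2 ^ 5 := card_cs (by decide) (by decide)

/-- generators of `AA` -/
def gA : List (ℕ × Bool) := [(266240, false), (540672, false), (2129920, false), (4259840, false), (9437184, false)]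

theorem A32_gA : (A32.all fun e => ((lf gA 0 false).map Prod.fst).contains e) = true := by decide +kernel

theorem AA_le_of {H : Subgroup LL} (h : ∀ g ∈ gA, ec g.1 ∈ H) : AA ≤ H := by
  rintro _ ⟨e, he, rfl⟩
  have h1 := A32_gA
  rw [List.all_eq_true] at h1
  have h2 := h1 e he
  rw [List.contains_iff_mem, List.mem_map] at h2
  obtain ⟨q, hq, rfl⟩ := h2
  exact lf_induct (P := fun g => g ∈ H) (fun a g hg ha => H.mul_mem ha (h g hg)) (by rw [ec_zero]; exact H.one_mem) q hq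

theorem gA_sub : ∀ g ∈ gA, g ∈ gQ := by decide

theorem AA_le_QQ : AA ≤ QQ := AA_le_of fun g hg => gQ_mem g (gA_sub g hg)
theorem AA_le_Q8 : AA ≤ Q8 := AA_le_QQ.trans inf_le_left
theorem AA_le_TT : AA ≤ TT := AA_le_QQ.trans inf_le_right
theorem AA_le_UT : AA ≤ UT := AA_le_Q8.trans Q8_le

theorem AA_comm {a b : LL} (ha : a ∈ AA) (hb : b ∈ AA) : a * b = b * a := by
  obtain ⟨e, he, rfl⟩ := ha
  obtain ⟨f, hf, rfl⟩ := hb
  have h : (A32.all fun e => A32.all fun f => Nat.beq (mulU e f) (mulU f e)) = true := by decide +kernel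
  rw [List.all_eq_true] at h
  have h1 := h e he
  rw [List.all_eq_true] at h1
  rw [← ec_mulU, ← ec_mulU, Nat.eq_of_beq_eq_true (h1 f hf)]

theorem AA_sq {a : LL} (ha : a ∈ AA) : a * a = 1 := by
  obtain ⟨e, he, rfl⟩ := ha
  have h : (A32.all fun e => Nat.beq (mulU e e) 0) = true := by decide +kernel
  rw [List.all_eq_true] at h
  rw [← ec_mulU, Nat.eq_of_beq_eq_true (h e he), ec_zero]

theorem UT_conj_AA {u a : LL} (hu : u ∈ UT) (ha : a ∈ AA) : u * a * u⁻¹ ∈ AA := by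
  obtain ⟨e, he, rfl⟩ := ha
  exact UT_conj_list (by decide +kernel) hu e he

theorem xf_conj_AA {a : LL} (ha : a ∈ AA) : xf * a * xf⁻¹ ∈ AA := by
  have hq := AA_le_Q8 ha
  obtain ⟨e, he, rfl⟩ := ha
  have h : (A32.all fun e => A32.contains (xfE e)) = true := by decide +kernel
  rw [List.all_eq_true] at h
  exact ⟨_, List.contains_iff_mem.1 (h e he), xf_conj hq⟩

theorem Pz_conj_AA {p a : LL} (hp : p ∈ Pz) (ha : a ∈ AA) : p * a * p⁻¹ ∈ AA := by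
  have hx : xf ∈ Subgroup.normalizer (AA : Set LL) := mem_normalizer_of fun _ h => xf_conj_AA h
  have hU : ∀ u ∈ UT, u ∈ Subgroup.normalizer (AA : Set LL) := fun u hu => mem_normalizer_of fun _ h => UT_conj_AA hu h
  obtain ⟨i, e, he, rfl⟩ := Pz_le hp
  obtain ⟨k, q, hq, rfl⟩ := mem_E8.1 he
  exact (Subgroup.mem_normalizer_iff.1 (Subgroup.mul_mem _ (Subgroup.zpow_mem _ (hU yb yb_mem) i)
    (Subgroup.mul_mem _ (Subgroup.zpow_mem _ hx k) (hU q (Q8_le hq)))) a).1 ha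

theorem z_mem_AA : z ∈ AA := ⟨9437184, by decide, rfl⟩
theorem z1_mem_AA : z1 ∈ AA := ⟨4259840, by decide, rfl⟩

theorem chk_cent_AA : allU (fun e => cond (gA.all fun c => Nat.beq (mulU e c.1) (mulU c.1 e))
    (A32.contains e || A32.contains (mulU 1179680 e)) true) = true := by decide +kernel

/-- the centraliser of `AA` in `HT` is `AA ⟨jf⟩` -/
theorem cent_AA {g : LL} (hg : g ∈ HT) (h : ∀ a ∈ AA, g * a = a * g) : g ∈ AA ∨ jf * g ∈ AA := by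
  have hc : ∀ a ∈ AA, g * a * g⁻¹ = a := fun a ha => by rw [h a ha, mul_inv_cancel_right]
  have hU := cent_V_le hg (hc z z_mem_AA) (hc z1 z1_mem_AA)
  obtain ⟨e, he, rfl, -, h2⟩ := UT_all chk_cent_AA hU
  have h3 : (gA.all fun c => Nat.beq (mulU e c.1) (mulU c.1 e)) = true := by
    rw [List.all_eq_true]
    intro c hc
    have hlt : ∀ c ∈ gA, c.1 < 2 ^ 24 ∧ c.1 ∈ A32 := by decide
    have h4 := h (ec c.1) ⟨_, (hlt c hc).2, rfl⟩
    rw [← ec_mulU, ← ec_mulU] at h4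
    rw [ec_inj (mulU_lt he c.1) (mulU_lt (hlt c hc).1 e) h4]
    exact Nat.beq_refl _
  rw [h3, cond_true, Bool.or_eq_true, List.contains_iff_mem, List.contains_iff_mem] at h2
  rcases h2 with h2 | h2
  · exact Or.inl ⟨e, h2, rfl⟩
  · right
    refine ⟨_, h2, ?_⟩
    rw [ec_mulU]
    rfl

theorem jf_comm_AA {a : LL} (ha : a ∈ AA) : jf * a = a * jf := by
  obtain ⟨e, he, rfl⟩ := ha
  have h : (A32.all fun e => Nat.beq (mulU e 1179680) (mulU 1179680 e)) = true := by decide +kernel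
  rw [List.all_eq_true] at h
  unfold jf
  rw [← ec_mulU, ← ec_mulU, Nat.eq_of_beq_eq_true (h e he)]

end Cfsg.Agent.TitsK
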