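import Cfsg.Agent.TitsK.Inst
import Cfsg.Agent.TitsK.ParA

/-!
# Odd elements of the centralisers of involutions of `²F₄(2)` (helper956)

* `three_z` : `C_H(z)` has no elements of order 3;
* `five_d` : `C_H(d)` has no elements of order 5.
-/

set_option autoImplicit false
set_option Elab.async false

namespace Cfsg.Agent.TitsK

namespace CentOdd

theorem pow_mul_mem {G : Type*} [Group G] {Q : Subgroup G} {u q : G}
    (hu' : ∀ q ∈ Q, u⁻¹ * q * u ∈ Q) (hq : q ∈ Q) (n : ℕ) : ∃ q' ∈ Q, (u * q) ^ n = u ^ n * q' := by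
  induction n with
  | zero => exact ⟨1, Q.one_mem, by simp⟩
  | succ n ih =>
    obtain ⟨q', hq', h⟩ := ih
    refine ⟨(u⁻¹ * q' * u) * q, Q.mul_mem (hu' _ hq') hq, ?_⟩
    rw [pow_succ, h, pow_succ]
    group

/-- an element of order 5 normalising a group of order at most 4 centralises it -/
theorem five_of_card {G : Type*} [Group G] {V : Subgroup G} [Finite V] (hV : Nat.card V ≤ 4) {g : G}
    (hg : g ∈ Subgroup.normalizer (V : Set G)) (h5 : g ^ 5 = 1) {v : G} (hv : v ∈ V) : g * v * g⁻¹ = v := by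
  let f : ↥(Subgroup.normalizer (V : Set G)) →* Equiv.Perm V :=
    (MulAut.toPerm (M := V)).comp V.normalizerMonoidHom
  have h1 : f ⟨g, hg⟩ ^ 5 = 1 := by
    rw [← map_pow]
    have h2 : (⟨g, hg⟩ : ↥(Subgroup.normalizer (V : Set G))) ^ 5 = 1 := Subtype.ext h5
    rw [h2, map_one]
  have h2 : f ⟨g, hg⟩ ^ 24 = 1 := by
    have h3 : f ⟨g, hg⟩ ^ Nat.card (Equiv.Perm V) = 1 := pow_card_eq_one'
    have h4 : Nat.card (Equiv.Perm V) ∣ 24 := by
      rw [Nat.card_perm]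
      have h5 : (Nat.card V).factorial ∣ (4).factorial := Nat.factorial_dvd_factorial hV
      exact h5
    obtain ⟨k, hk⟩ := h4
    rw [hk, pow_mul, h3, one_pow]
  have h3 : f ⟨g, hg⟩ = 1 := by
    have h4 : f ⟨g, hg⟩ = (f ⟨g, hg⟩ ^ 5) ^ 5 * (f ⟨g, hg⟩ ^ 24)⁻¹ := by
      rw [← pow_mul, ← zpow_natCast, ← zpow_natCast, ← zpow_neg, ← zpow_add]
      norm_num
    rw [h4, h1, h2]
    simp
  have h4 := DFunLike.congr_fun h3 ⟨v, hv⟩
  exact congrArg Subtype.val h4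

end CentOdd

open CentOdd
open Cfsg.Lie Cfsg.Agent.ChevalleyStructure.TwF4.Tables
open Cfsg.Agent.FourTwo.Base hiding bar bar_lt
open Cfsg.Agent.FourTwo.BN Cfsg.Agent.FourTwo.Comm Cfsg.Agent.FourTwo.Classes

theorem eq_one_of_UT {g : LL} (hg : g ∈ UT) {n : ℕ} (hn : Odd n) (h : g ^ n = 1) : g = 1 := by
  obtain ⟨k, hk⟩ := isPGroup_UT ⟨g, hg⟩
  have h1 : g ^ 2 ^ k = 1 := congrArg Subtype.val hk
  have h2 : Nat.Coprime n (2 ^ k) := Nat.Coprime.pow_right k (Nat.coprime_two_right.2 hn)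
  have h3 := Nat.eq_one_of_dvd_coprimes h2 (orderOf_dvd_of_pow_eq_one h) (orderOf_dvd_of_pow_eq_one h1)
  exact orderOf_eq_one_iff.1 h3

/-- **`C_H(z)` has no elements of order 3.** -/
theorem three_z {g : LL} (hg : g ∈ HT) (h3 : g ^ 3 = 1) (hz : g * z * g⁻¹ = z) : g = 1 := by
  have hP : g ∈ Pz := mem_Pz.2 ⟨hg, hz⟩
  obtain ⟨f, h1, -, h2⟩ := exists_lam
  have hE : g ∈ E8 := by
    rw [← h2 g hP]
    have h4 : f 1 = 0 := (h2 1 Pz.one_mem).2 E8.one_mem
    have h5 : f (g ^ 3) = f g + f g + f g := by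
      rw [pow_succ, pow_two, h1 _ (Pz.mul_mem hP hP) _ hP, h1 _ hP _ hP]
    rw [h3, h4] at h5
    generalize f g = c at h5
    revert c
    decide
  have hQ : g ∈ Q8 := by
    refine mem_Q8_of_E8 hE (n := 1) ?_
    obtain ⟨i, q, hq, he⟩ := mem_E8.1 hE
    have h5 : ∀ q ∈ Q8, (xf ^ i)⁻¹ * q * xf ^ i ∈ Q8 := fun q hq => by
      have h6 := (Subgroup.mem_normalizer_iff.1 (norm_Q8 (Pz.inv_mem (Pz.zpow_mem xf_mem_Pz i))) q).1 hq
      rwa [inv_inv] at h6
    obtain ⟨q', hq', h6⟩ := pow_mul_mem h5 hq 5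
    have h7 : (xf ^ i) ^ 5 = 1 := by
      rw [← zpow_natCast, ← zpow_mul, mul_comm, zpow_mul, zpow_natCast]
      rw [show ((5 : ℕ)) = 5 from rfl, xf_pow5, one_zpow]
    rw [h7, one_mul, ← he] at h6
    have h8 : g ^ 5 = g ^ 2 ^ 1 := by
      have e : g ^ 5 = g ^ 3 * g ^ 2 := by rw [← pow_add]
      rw [e, h3, one_mul, pow_one]
    rw [← h8, h6]
    exact hq'
  exact eq_one_of_UT (Q8_le hQ) (n := 3) (by decide) h3

theorem CentOdd.card_four {G : Type*} [Group G] {V : Subgroup G} {x y z : G}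
    (h : ∀ v, v ∈ V ↔ v = 1 ∨ v = x ∨ v = y ∨ v = z) : Finite ↥V ∧ Nat.card ↥V ≤ 4 := by
  have h0 : (V : Set G) = (({1, x, y, z} : Set G)) := by
    ext v
    rw [SetLike.mem_coe, h v]
    simp
  have hf : ((V : Set G)).Finite := by
    rw [h0]
    exact Set.toFinite _
  refine ⟨hf, ?_⟩
  have h1 : Nat.card ↥V = (V : Set G).ncard := rfl
  rw [h1, h0]
  classical
  refine (Set.ncard_insert_le _ _).trans ?_
  have h2 := Set.ncard_insert_le x ({y, z} : Set G)
  have h3 := Set.ncard_insert_le y ({z} : Set G)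
  have h4 := Set.ncard_singleton z
  omega

/-- **`C_H(d)` has no elements of order 5.** -/
theorem five_d {g : LL} (hg : g ∈ HT) (h5 : g ^ 5 = 1) (hd : g * d * g⁻¹ = d) : g = 1 := by
  obtain ⟨hfin, hcard⟩ := card_four (V := V4) fun _ => mem_V4_iff
  have hN : g ∈ Subgroup.normalizer (V4 : Set LL) := by
    rw [Subgroup.mem_normalizer_iff]
    intro v
    constructor
    · intro hv
      exact cent_d_V4 hg hd hv
    · intro hv
      have h1 : g⁻¹ * d * g⁻¹⁻¹ = d := by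
        rw [inv_inv]
        calc g⁻¹ * d * g = g⁻¹ * (g * d * g⁻¹) * g := by rw [hd]
          _ = d := by group
      have h2 := cent_d_V4 (HT.inv_mem hg) h1 hv
      have e : g⁻¹ * (g * v * g⁻¹) * g⁻¹⁻¹ = v := by group
      rwa [e] at h2
  have h1 := five_of_card hcard hN h5 z_mem_V4
  have h2 := five_of_card hcard hN h5 z1_mem_V4
  exact eq_one_of_UT (cent_V_le hg h1 h2) (n := 5) (by decide) h5

end Cfsg.Agent.TitsK
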