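import Cfsg.Agent.TitsK.RankFive
import Cfsg.Agent.Omega.TwoF.Rk

/-!
# The automorphism group of the Tits group (helper369)

`TData.exists_embed`: `X` finite, `N ⊴ X`, `N ≃* T`, `C_X(N) = 1` ⇒ `X` embeds into `H`.
`TData.rk`: if every elementary abelian 2-subgroup of `H` has order at most `2 ^ a` then `RK T a`.
`rk_five : RK K 5`, `index_le : |X : N| ≤ 2` for `IsoTits K`.
-/

set_option autoImplicit false
set_option Elab.async false

namespace Cfsg.Agent.TitsK

open Cfsg.Agent.Omega.TwoF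

universe u v

namespace TData

variable {G : Type v} [Group G] (D : TData G)

/-- two elements of `H` inducing the same map on `T` are equal -/
theorem eq_of_conj [Finite G] {g h : G} (hg : g ∈ D.H) (hh : h ∈ D.H)
    (H : ∀ t ∈ D.T, g * t * g⁻¹ = h * t * h⁻¹) : g = h := by
  have h1 : h⁻¹ * g = 1 := by
    refine D.cent_T (D.H.mul_mem (D.H.inv_mem hh) hg) fun t ht => ?_
    have h2 := H t ht
    calc h⁻¹ * g * t = h⁻¹ * (g * t * g⁻¹) * g := by group
      _ = h⁻¹ * (h * t * h⁻¹) * g := by rw [h2]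
      _ = t * (h⁻¹ * g) := by group
  calc g = h * (h⁻¹ * g) := by group
    _ = h := by rw [h1, mul_one]

/-- **an almost simple group with socle `T` embeds into `H`** -/
theorem exists_embed [Finite G] {X : Type u} [Group X] (N : Subgroup X) [N.Normal] (he : Nonempty (↥N ≃* ↥D.T))
    (hc : Subgroup.centralizer (N : Set X) = ⊥) : ∃ Φ : X →* G, Function.Injective Φ ∧ ∀ x, Φ x ∈ D.H := by
  obtain ⟨e⟩ := he
  let F : X → (↥D.T →* G) := fun x =>
    D.T.subtype.comp (e.toMonoidHom.comp ((MulAut.conjNormal x : ↥N ≃* ↥N).toMonoidHom.comp e.symm.toMonoidHom))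
  have hF : ∀ x t, F x t = (e (MulAut.conjNormal x (e.symm t)) : G) := fun x t => rfl
  have hInj : ∀ x, D.Inj (F x) := by
    intro x
    refine ⟨?_, fun t => (e (MulAut.conjNormal x (e.symm t))).2⟩
    intro s t hst
    rw [hF, hF] at hst
    have h1 := e.injective (Subtype.ext hst)
    exact e.symm.injective ((MulAut.conjNormal x : ↥N ≃* ↥N).injective h1)
  choose φ hφH hφ using fun x => D.exists_conj (hInj x)
  have hmul : ∀ x y, φ (x * y) = φ x * φ y := by
    intro x y
    refine D.eq_of_conj (hφH _) (D.H.mul_mem (hφH _) (hφH _)) fun t ht => ?_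
    have h1 := hφ (x * y) ⟨t, ht⟩
    have h2 := hφ y ⟨t, ht⟩
    have h3 := hφ x (e (MulAut.conjNormal y (e.symm ⟨t, ht⟩)))
    rw [hF, e.symm_apply_apply] at h3
    rw [hF] at h1 h2
    have h4 : (MulAut.conjNormal (x * y) : ↥N ≃* ↥N) (e.symm ⟨t, ht⟩) =
        (MulAut.conjNormal x : ↥N ≃* ↥N) ((MulAut.conjNormal y : ↥N ≃* ↥N) (e.symm ⟨t, ht⟩)) := by
      rw [map_mul]
      rfl
    rw [h4, h3, h2] at h1
    dsimp only at h1
    rw [← h1]
    group
  have hone : φ 1 = 1 := by
    have h1 := hmul 1 1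
    rw [mul_one] at h1
    exact (mul_eq_left.1 h1.symm)
  have hker : ∀ x, φ x = 1 → x = 1 := by
    intro x hx
    have h1 : x ∈ Subgroup.centralizer (N : Set X) := by
      rw [Subgroup.mem_centralizer_iff]
      intro n hn
      have h2 := hφ x (e ⟨n, hn⟩)
      rw [hF, e.symm_apply_apply, hx, one_mul, inv_one, mul_one] at h2
      have h3 := e.injective (Subtype.ext h2)
      have h4 := congrArg Subtype.val h3
      rw [MulAut.conjNormal_apply] at h4
      dsimp only at h4
      rw [mul_inv_eq_iff_eq_mul] at h4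
      exact h4.symm
    rw [hc] at h1
    exact Subgroup.mem_bot.1 h1
  refine ⟨⟨⟨φ, hone⟩, hmul⟩, ?_, hφH⟩
  rw [injective_iff_map_eq_one]
  exact hker

/-- **the 2-rank of the automorphism group of `T`** -/
theorem rk [Finite G] {a : ℕ}
    (hE : ∀ B : Subgroup G, B ≤ D.H → (∀ b ∈ B, b * b = 1) → Nat.card ↥B ≤ 2 ^ a) : Rk.RK.{u} (↥D.T) a := by
  intro X _ _ N _ he hc A hA
  obtain ⟨Φ, hinj, hH⟩ := D.exists_embed N he hc
  have h1 : Nat.card ↥(A.map Φ) = Nat.card ↥A :=
    Nat.card_congr (A.equivMapOfInjective Φ hinj).toEquiv.symm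
  rw [← h1]
  refine hE _ ?_ ?_
  · rintro _ ⟨x, -, rfl⟩
    exact hH x
  · rintro _ ⟨x, hx, rfl⟩
    rw [← map_mul, hA x hx, map_one]

/-- **an almost simple group with socle `T`: `|X : N| ≤ 2`** -/
theorem index_le [Finite G] {X : Type u} [Group X] [Finite X] (N : Subgroup X) [N.Normal]
    (he : Nonempty (↥N ≃* ↥D.T)) (hc : Subgroup.centralizer (N : Set X) = ⊥) : N.index ≤ 2 := by
  obtain ⟨Φ, hinj, hH⟩ := D.exists_embed N he hc
  obtain ⟨e⟩ := he
  have h1 : Nat.card X ≤ Nat.card ↥D.H :=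
    Nat.card_le_card_of_injective (fun x => (⟨Φ x, hH x⟩ : ↥D.H)) fun x y hxy => hinj (congrArg Subtype.val hxy)
  have h2 : Nat.card ↥D.T * 2 = Nat.card ↥D.H := by
    rw [← D.relIndex_T, ← Nat.card_congr (Subgroup.subgroupOfEquivOfLe D.T_le).toEquiv]
    exact (D.T.subgroupOf D.H).card_mul_index
  have h3 : Nat.card ↥N = Nat.card ↥D.T := Nat.card_congr e.toEquiv
  have h4 := N.card_mul_index
  rw [← h2, ← h4, h3] at h1
  exact Nat.le_of_mul_le_mul_left h1 Nat.card_pos

end TData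

/-- **the 2-rank of the automorphism group of the Tits group is at most 5** -/
theorem rk_five {K : Type v} [Group K] (h : Cfsg.Lie.IsoTits K) : Rk.RK.{u} K 5 := by
  obtain ⟨f⟩ := h
  obtain ⟨e⟩ := exists_equiv
  have h1 : Rk.RK.{u} (↥tdata.T) 5 := tdata.rk fun B hB hsq => card_elem_five hB hsq
  exact h1.of_equiv (f.trans e).symm

/-- **`|X : N| ≤ 2`** -/
theorem index_le {K : Type v} [Group K] (h : Cfsg.Lie.IsoTits K) {X : Type u} [Group X] [Finite X] (N : Subgroup X)
    [N.Normal] (he : Nonempty (↥N ≃* K)) (hc : Subgroup.centralizer (N : Set X) = ⊥) : N.index ≤ 2 := by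
  obtain ⟨f⟩ := h
  obtain ⟨e⟩ := exists_equiv
  exact tdata.index_le N (he.map fun g => (g.trans f).trans e) hc

end Cfsg.Agent.TitsK
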