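import Cfsg.Agent.TitsK.PairInst
import Cfsg.Agent.OddHalf.D7Tits.XZero

/-!
`XZero.K5` for the Tits group: `k5 : XZero.K5 ktTD` (helper956).

The subgroup `A1T` (order `2 ^ 5`) lies in `E_u ∩ E_v ∩ E_w` for the line `{u, v, w} = {z, z1, z * z1}`, and its
centraliser in `HT` is `A1T`.
-/

set_option autoImplicit false
set_option Elab.async false

namespace Cfsg.Agent.TitsK

open Cfsg.Agent.OddHalf.D7Tits Cfsg.Agent.OddHalf.D7Tits.Defs

section Abs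

variable {G' : Type*} [Group G'] [Finite G']

/-- `K5` from facts in the ambient group -/
theorem k5_abs (D : TData G') (K : KT ↥D.T) (A1 EE : Subgroup G') {j zz z1 : G'}
    (hj : j ∉ D.T) (hjH : j ∈ D.H) (hτ : ∀ y : ↥D.T, ((K.τ y : ↥D.T) : G') = j * y * j⁻¹)
    (hcT : ∀ h ∈ D.H, (∀ t ∈ D.T, h * t = t * h) → h ∈ D.T)
    (hz : (K.z : G') = zz) (hq : (K.q 0 : G') = z1)
    (hE : ∀ e : ↥D.T, (e : G') ∈ EE → e ∈ K.E) (hA1 : A1 ≤ D.T)
    (h3 : ∀ g ∈ D.T, g⁻¹ * zz * g = z1 → g⁻¹ * z1 * g = zz * z1 → ∀ a ∈ A1,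
      a ∈ EE ∧ g * a * g⁻¹ ∈ EE ∧ g * g * a * (g * g)⁻¹ ∈ EE)
    (hc : ∀ h ∈ D.H, (∀ a ∈ A1, h * a = a * h) → h ∈ D.T) : XZero.K5 K where
  out := by
    intro y hy
    apply hj
    have h1 : ∀ t ∈ D.T, (y : G')⁻¹ * j * t = t * ((y : G')⁻¹ * j) := by
      intro t ht
      have h2 := hτ ⟨t, ht⟩
      rw [hy, MulAut.conj_apply] at h2
      have h3 : (y : G') * t * (y : G')⁻¹ = j * t * j⁻¹ := h2
      have h4 : j * t = (y : G') * t * (y : G')⁻¹ * j := by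
        rw [h3]; group
      calc (y : G')⁻¹ * j * t = (y : G')⁻¹ * (j * t) := by group
        _ = t * ((y : G')⁻¹ * j) := by rw [h4]; group
    have h2 := hcT _ (D.H.mul_mem (D.H.inv_mem (D.T_le y.2)) hjH) h1
    have h3 := D.T.mul_mem y.2 h2
    have e : (y : G') * ((y : G')⁻¹ * j) = j := by group
    rwa [e] at h3
  cen := by
    intro g h1 h2 α hα
    obtain ⟨⟨h, hh⟩, hhα⟩ := D.PhiT_surjective α
    have hαh : ∀ y : ↥D.T, ((α y : ↥D.T) : G') = h * y * h⁻¹ := by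
      intro y
      rw [← hhα]
      exact D.PhiT_apply ⟨h, hh⟩ y
    have e1 : (g : G')⁻¹ * zz * g = z1 := by
      have h4 := congrArg (fun t : ↥D.T => (t : G')) h1
      rw [← hz, ← hq]
      exact h4
    have e2 : (g : G')⁻¹ * z1 * g = zz * z1 := by
      have h4 := congrArg (fun t : ↥D.T => (t : G')) h2
      rw [← hz, ← hq]
      exact h4
    have h5 : h ∈ D.T := by
      apply hc h hh
      intro a ha
      obtain ⟨m1, m2, m3⟩ := h3 g g.2 e1 e2 a ha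
      have h6 : α ⟨a, hA1 ha⟩ = ⟨a, hA1 ha⟩ := hα ⟨a, hA1 ha⟩ (hE _ m1) (hE _ m2) (hE _ m3)
      have h7 := hαh ⟨a, hA1 ha⟩
      rw [h6] at h7
      exact (eq_mul_inv_iff_mul_eq.1 h7).symm
    refine ⟨⟨h, h5⟩, ?_⟩
    apply MulEquiv.ext
    intro y
    apply Subtype.ext
    rw [hαh y]
    rfl

end Abs

section Model

open Cfsg.Lie Cfsg.Agent.ChevalleyStructure.TwF4.Tables
open Cfsg.Agent.FourTwo.Base hiding bar bar_lt
open Cfsg.Agent.FourTwo.BN Cfsg.Agent.FourTwo.Comm Cfsg.Agent.FourTwo.Classes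

theorem na_conj_A1T_ok : (LA1.all fun e => posW [0, 3] e && memB (reflW [0, 3] e) LA1) = true := by decide +kernel

theorem na_conj_A1T {a : LL} (ha : a ∈ A1T) : na * a * na⁻¹ ∈ A1T := by
  obtain ⟨e, he, rfl⟩ := mem_A1T.1 ha
  have h := na_conj_A1T_ok
  rw [List.all_eq_true] at h
  have h1 := h e he
  rw [Bool.and_eq_true] at h1
  have h2 : na * ec e * na⁻¹ = ec (reflW [0, 3] e) := nw_conj_ec (w := [0, 3]) (by decide) h1.1
  rw [h2]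
  exact mem_A1T.2 ⟨_, memB_spec h1.2, rfl⟩

theorem A1T_le_EE : A1T ≤ EE := A1T_le_QQ.trans QQ_le_EE

theorem cj_aux {G : Type*} [Group G] {g w u v : G} (h : w⁻¹ * u * w = v) (h' : g * v * g⁻¹ = u) :
    (g * w⁻¹) * u * (g * w⁻¹)⁻¹ = u := by
  have e : (g * w⁻¹) * u * (g * w⁻¹)⁻¹ = g * (w⁻¹ * u * w) * g⁻¹ := by group
  rw [e, h, h']

theorem cj_aux2 {G : Type*} [Group G] (g w a : G) :
    g * a * g⁻¹ = (g * w⁻¹) * (w * a * w⁻¹) * (g * w⁻¹)⁻¹ := by group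

theorem cj_aux3 {G : Type*} [Group G] {g u v : G} (h : g⁻¹ * u * g = v) : g * v * g⁻¹ = u := by
  rw [← h]; group

theorem cj_aux4 {G : Type*} [Group G] {g z z1 : G} (h1 : g * z1 * g⁻¹ = z) (h2 : g * (z * z1) * g⁻¹ = z1) :
    (g * g) * (z * z1) * (g * g)⁻¹ = z := by
  have e : (g * g) * (z * z1) * (g * g)⁻¹ = g * (g * (z * z1) * g⁻¹) * g⁻¹ := by group
  rw [e, h2, h1]

theorem cj_aux5 {G : Type*} [Group G] {n y z z1 : G} (h1 : n⁻¹ * z * n = z1) (h2 : y⁻¹ * z1 * y = z * z1) :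
    (n * y)⁻¹ * z * (n * y) = z * z1 := by
  have e : (n * y)⁻¹ * z * (n * y) = y⁻¹ * (n⁻¹ * z * n) * y := by group
  rw [e, h1, h2]

theorem cj_aux6 {G : Type*} [Group G] (n y a : G) : (n * y) * a * (n * y)⁻¹ = n * (y * a * y⁻¹) * n⁻¹ := by group

theorem three_A1T {g : LL} (hg : g ∈ TT) (h1 : g⁻¹ * z * g = z1) (h2 : g⁻¹ * z1 * g = z * z1) {a : LL} (ha : a ∈ A1T) :
    a ∈ EE ∧ g * a * g⁻¹ ∈ EE ∧ g * g * a * (g * g)⁻¹ ∈ EE := by
  have hgH : g ∈ HT := TT_le hg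
  have h1' : g * z1 * g⁻¹ = z := cj_aux3 (G := LL) h1
  have h2' : g * (z * z1) * g⁻¹ = z1 := cj_aux3 (G := LL) h2
  refine ⟨A1T_le_EE ha, ?_, ?_⟩
  · have hp : g * na⁻¹ ∈ Pz := mem_Pz.2 ⟨HT.mul_mem hgH (HT.inv_mem na_mem_HT), cj_aux (G := LL) na_conj_z' h1'⟩
    rw [cj_aux2 (G := LL) g na a]
    exact Pz_conj_EE hp (A1T_le_EE (na_conj_A1T ha))
  · have hw : (na * ya)⁻¹ * z * (na * ya) = z * z1 := cj_aux5 (G := LL) na_conj_z' ya_conj_z1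
    have hp : (g * g) * (na * ya)⁻¹ ∈ Pz :=
      mem_Pz.2 ⟨HT.mul_mem (HT.mul_mem hgH hgH) (HT.inv_mem (HT.mul_mem na_mem_HT ya_mem.2)),
        cj_aux (G := LL) hw (cj_aux4 (G := LL) h1' h2')⟩
    rw [cj_aux2 (G := LL) (g * g) (na * ya) a, cj_aux6 (G := LL) na ya a]
    exact Pz_conj_EE hp (A1T_le_EE (na_conj_A1T (UT_conj_A1T ya_mem ha)))

theorem cent_TT_mem {h : LL} (hh : h ∈ HT) (hc : ∀ t ∈ TT, h * t = t * h) : h ∈ TT := by
  rcases cent_ST hh (fun s hs => hc s hs.2) with h1 | h1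
  · rw [h1]; exact TT.one_mem
  · rw [h1]; exact z_mem_TT

theorem cent_A1T_mem {h : LL} (hh : h ∈ HT) (hc : ∀ a ∈ A1T, h * a = a * h) : h ∈ TT :=
  (A1T_le (cent_A1T hh hc)).2

theorem coe_q_T : ((ktTD.q 0 : ↥tdata.T) : LL) = z1 := rfl

/-- **(K5)** for the Tits group -/
theorem k5 : XZero.K5 ktTD :=
  k5_abs tdata ktTD A1T EE (j := jf) (zz := z) (z1 := z1) jf_not_mem jf_mem_HT (fun _ => rfl)
    (fun _ hh hc => cent_TT_mem hh hc) coe_z_T coe_q_T (fun _ he => he) (fun _ ha => (A1T_le ha).2)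
    (fun _ hg h1 h2 _ ha => three_A1T hg h1 h2 ha) (fun _ hh hc => cent_A1T_mem hh hc)

end Model

end Cfsg.Agent.TitsK
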