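import Cfsg.Agent.TitsK.KtWA
import Cfsg.Agent.OddHalf.D7Tits.WDefs
import Cfsg.Agent.OddHalf.D7Tits.WFive

/-!
# K-facts for type W: `KTW K` from the values of `K` (helper795)

* `Vals K φ`: `φ : Y → F₄(2)` is injective with image `HT` and `K` has the values of helper261's instance;
* `ktwOf`: `Vals K φ → KTW K`.
-/

set_option autoImplicit false
set_option Elab.async false
set_option linter.unusedSectionVars false

namespace Cfsg.Agent.TitsK

open Cfsg.Lie Cfsg.Agent.ChevalleyStructure.TwF4.Tables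
open Cfsg.Agent.FourTwo.Base hiding bar bar_lt
open Cfsg.Agent.FourTwo.BN Cfsg.Agent.FourTwo.Comm Cfsg.Agent.FourTwo.Classes
open Cfsg.Agent.FourTwo.UCode (mulU invU conjU lets colW colF force force_eq mem_lets wel_lets wel_mem)
open Cfsg.Agent.OddHalf.D7Tits.Defs Cfsg.Agent.OddHalf.D7Tits.WDefs

universe u

/-! ### conjugation by `ya na` -/

theorem lkE {c e : ℕ} (h : posW [0, 3] c = true) (h2 : conjU 513 (reflW [0, 3] c) = e) :
    ya * na * ec c * (ya * na)⁻¹ = ec e := by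
  have h3 : na * ec c * na⁻¹ = ec (reflW [0, 3] c) := nw_conj_ec (by decide) h
  have e1 : ya * na * ec c * (ya * na)⁻¹ = ya * (na * ec c * na⁻¹) * ya⁻¹ := by group
  rw [e1, h3, ya_eq, ← ec_conjU, h2]

theorem inv_conj_aux {G : Type*} [Group G] {k a b : G} (h : k * a * k⁻¹ = b) : k⁻¹ * b * k = a := by
  rw [← h]
  group

theorem kq_UT (n : ZMod 5) : ya * na * qf n * (ya * na)⁻¹ ∈ UT := by
  have h : ∀ n : ZMod 5, posW [0, 3] (qc n) = true := by decide +kernel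
  have h3 : na * qf n * na⁻¹ = ec (reflW [0, 3] (qc n)) := nw_conj_ec (by decide) (h n)
  have h4 : ec (reflW [0, 3] (qc n)) ∈ UT :=
    ec_mem_UT_of (AA_le_UT (qf_mem n)).2 [0, 3] (by decide) (h n) rfl
  have e1 : ya * na * qf n * (ya * na)⁻¹ = ya * (na * qf n * na⁻¹) * ya⁻¹ := by group
  rw [e1, h3]
  exact UT.mul_mem (UT.mul_mem ya_mem h4) (UT.inv_mem ya_mem)

theorem yana_mem : ya * na ∈ HT := HT.mul_mem ya_mem_HT na_mem_HT

/-! ### conjugation by powers of `xf` -/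

theorem xi_Q8 {e : ℕ} (he : ec e ∈ Q8) : ec (xiE e) ∈ Q8 :=
  xf_conj_Q8' (xf_conj_Q8' (xf_conj_Q8' (xf_conj_Q8' he)))

theorem conj_succ_aux {G : Type*} [Group G] (x a : G) (n : ℕ) :
    (x ^ (n + 1))⁻¹ * a * x ^ (n + 1) = x⁻¹ * ((x ^ n)⁻¹ * a * x ^ n) * x := by
  rw [pow_succ]
  group

theorem xi_pow {e : ℕ} (he : ec e ∈ Q8) : ∀ n : ℕ, (xf ^ n)⁻¹ * ec e * xf ^ n = ec (xiE^[n] e) ∧ ec (xiE^[n] e) ∈ Q8 := by
  intro n
  induction n with
  | zero => exact ⟨by rw [pow_zero, inv_one, one_mul, mul_one]; rfl, he⟩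
  | succ n ih =>
    rw [Function.iterate_succ_apply', conj_succ_aux, ih.1, xi_conj ih.2]
    exact ⟨rfl, xi_Q8 ih.2⟩

/-- codes of the conjugates of `r` -/
def rL : List ℕ := [1463845, 16567428, 5482912, 13495684, 14999173]
/-- codes of the conjugates of `r aw` -/
def rwL : List ℕ := [8537637, 72836, 8563104, 9485700, 8474245]

theorem rL_eq : ((List.range 5).all fun n => Nat.beq (xiE^[n] 1463845) (rL.getD n 0) &&
    Nat.beq (xiE^[n] 8537637) (rwL.getD n 0)) = true := by decide +kernel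

theorem r_Q8 : ec 1463845 ∈ Q8 := QQ_le_Q8 rf_mem

theorem raw_eq : ec 1463845 * ec 9703424 = ec 8537637 := by
  have h : mulU 1463845 9703424 = 8537637 := by decide +kernel
  rw [← h, ec_mulU]

theorem aw_mem : ec 9703424 ∈ AA := ⟨_, by decide, rfl⟩

theorem raw_Q8 : ec 8537637 ∈ Q8 := by
  rw [← raw_eq]
  exact Q8.mul_mem r_Q8 (AA_le_Q8 aw_mem)

theorem r_conj {n : ℕ} (hn : n < 5) : (xf ^ n)⁻¹ * ec 1463845 * xf ^ n = ec (rL.getD n 0) := by
  have h := rL_eq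
  rw [List.all_eq_true] at h
  have h1 := h n (List.mem_range.2 hn)
  rw [Bool.and_eq_true] at h1
  rw [← Nat.eq_of_beq_eq_true h1.1]
  exact (xi_pow r_Q8 n).1

theorem raw_conj {n : ℕ} (hn : n < 5) : (xf ^ n)⁻¹ * (ec 1463845 * ec 9703424) * xf ^ n = ec (rwL.getD n 0) := by
  have h := rL_eq
  rw [List.all_eq_true] at h
  have h1 := h n (List.mem_range.2 hn)
  rw [Bool.and_eq_true] at h1
  rw [raw_eq, ← Nat.eq_of_beq_eq_true h1.2]
  exact (xi_pow raw_Q8 n).1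

theorem RK_mem' : ∀ c ∈ rL, ec c ∈ QQ := by
  have h : ∀ c ∈ rL, c ∈ RK := by decide
  exact fun c hc => RK_mem_QQ c (h c hc)

/-! ### the values -/

/-- `K` has the values of the instance on `²F₄(2)`, `φ : Y → F₄(2)` -/
structure Vals {Y : Type u} [Group Y] (K : KT Y) (φ : Y →* LL) : Prop where
  inj : Function.Injective φ
  sur : ∀ g ∈ HT, ∃ y, φ y = g
  hz : φ K.z = z
  hx : φ K.x = xf
  hs : φ K.s = sf
  hj : φ K.j = jf
  hr : φ K.r = ec 1463845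
  haj : φ K.aj = ec 806912
  haw : φ K.aw = ec 9703424
  hq : ∀ n, φ (K.q n) = qf n
  hU : ∀ y, y ∈ K.U ↔ φ y ∈ UT
  hQ : ∀ y, y ∈ K.Q ↔ φ y ∈ QQ
  hP : ∀ y, y ∈ K.P ↔ φ y ∈ Pz
  hA : ∀ y, y ∈ K.A ↔ φ y ∈ AA

namespace Vals

variable {Y : Type u} [Group Y] {K : KT Y} {φ : Y →* LL} (V : Vals K φ)

include V

theorem jj : K.j * K.j = K.z := V.inj (by rw [map_mul, V.hj, V.hz, jf_sq])

theorem exk : ∃ k : Y, φ k = ya * na := V.sur _ yana_mem

theorem map3 (a b c : Y) : φ (a * b * c⁻¹) = φ a * φ b * (φ c)⁻¹ := by rw [map_mul, map_mul, map_inv]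

theorem map3' (a b c : Y) : φ (a⁻¹ * b * c) = (φ a)⁻¹ * φ b * φ c := by rw [map_mul, map_mul, map_inv]

/-- `k⁻¹ a k` from codes -/
theorem conj_k {k : Y} (hk : φ k = ya * na) {a b : Y} {c e : ℕ} (ha : φ a = ec e) (hb : φ b = ec c)
    (h : (posW [0, 3] c && Nat.beq (conjU 513 (reflW [0, 3] c)) e) = true) : k⁻¹ * a * k = b := by
  rw [Bool.and_eq_true] at h
  apply V.inj
  rw [V.map3', hk, ha, hb]
  exact inv_conj_aux (lkE h.1 (Nat.eq_of_beq_eq_true h.2))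

theorem hq0 : φ (K.q 0) = z1 := V.hq 0

theorem hzq (n : ZMod 5) : φ (K.z * K.q n) = z * qf n := by rw [map_mul, V.hz, V.hq]

theorem r_val {n : ℕ} (hn : n < 5) : φ ((K.x ^ n)⁻¹ * K.r * K.x ^ n) = ec (rL.getD n 0) := by
  rw [V.map3', map_pow, V.hx, V.hr]
  exact r_conj hn

theorem rw_val {n : ℕ} (hn : n < 5) : φ ((K.x ^ n)⁻¹ * (K.r * K.aw) * K.x ^ n) = ec (rwL.getD n 0) := by
  rw [V.map3', map_pow, V.hx, map_mul, V.hr, V.haw]
  exact raw_conj hn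

theorem mem_Mm_iff {y : Y} : y ∈ Mm K ↔ φ y ∈ UT ∧ φ y * z1 = z1 * φ y := by
  rw [mem_Mm, V.hU, ← V.hq0, ← map_mul, ← map_mul]
  exact ⟨fun h => ⟨h.1, by rw [h.2]⟩, fun h => ⟨h.1, V.inj h.2⟩⟩

theorem mem_Qz_iff {y : Y} : y ∈ Qz K ↔ φ y ∈ QQ ∧ φ y * z1 = z1 * φ y := by
  rw [mem_Qz, V.hQ, ← V.hq0, ← map_mul, ← map_mul]
  exact ⟨fun h => ⟨h.1, by rw [h.2]⟩, fun h => ⟨h.1, V.inj h.2⟩⟩

/-- a code with a preimage in `Y` -/
theorem exA {e : ℕ} (he : e ∈ A32) : ∃ a ∈ K.A, φ a = ec e := by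
  have h : ec e ∈ AA := ⟨e, he, rfl⟩
  obtain ⟨a, ha⟩ := V.sur (ec e) (AA_le_UT h).2
  exact ⟨a, (V.hA a).2 (by rw [ha]; exact h), ha⟩

theorem ss_val : φ (K.s * K.s) = ec 9437264 := by
  have h : mulU 1179754 1179754 = 9437264 := by decide +kernel
  rw [map_mul, V.hs, sf_eq, ← ec_mulU, h]

theorem x_conj_Q {n : ℕ} (hn : n < 5) : (K.x ^ n)⁻¹ * K.r * K.x ^ n ∈ K.Q := by
  rw [V.hQ, V.r_val hn]
  apply RK_mem'
  interval_cases n <;> decide

theorem A_le_U {a : Y} (ha : a ∈ K.A) : a ∈ K.U := K.Q_le_U (K.A_le_Q ha)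

theorem ss_U : K.s * K.s ∈ K.U := K.U.mul_mem K.s_U K.s_U

/-- the value of `f` on `a R_m R_n s²` -/
theorem f4 {f : Y → Y} (hf : Psi K f) {a : Y} (ha : a ∈ K.A) {m n : ℕ} (hm : m < 5) (hn : n < 5) :
    f (a * ((K.x ^ m)⁻¹ * K.r * K.x ^ m) * ((K.x ^ n)⁻¹ * K.r * K.x ^ n) * (K.s * K.s)) =
      a * ((K.x ^ m)⁻¹ * (K.r * K.aw) * K.x ^ m) * ((K.x ^ n)⁻¹ * (K.r * K.aw) * K.x ^ n) * (K.s * K.s * K.z) := by
  have h1 := K.Q_le_U (V.x_conj_Q hm)
  have h2 := K.Q_le_U (V.x_conj_Q hn)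
  have h3 := V.A_le_U ha
  rw [hf.mul _ (K.U.mul_mem (K.U.mul_mem h3 h1) h2) _ V.ss_U, hf.mul _ (K.U.mul_mem h3 h1) _ h2, hf.mul _ h3 _ h1,
    hf.fA a ha, hf.fr, hf.fr, hf.fss]

/-- the value of `f` on `a R_n s²` -/
theorem f3 {f : Y → Y} (hf : Psi K f) {a : Y} (ha : a ∈ K.A) {n : ℕ} (hn : n < 5) :
    f (a * ((K.x ^ n)⁻¹ * K.r * K.x ^ n) * (K.s * K.s)) =
      a * ((K.x ^ n)⁻¹ * (K.r * K.aw) * K.x ^ n) * (K.s * K.s * K.z) := by
  have h2 := K.Q_le_U (V.x_conj_Q hn)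
  have h3 := V.A_le_U ha
  rw [hf.mul _ (K.U.mul_mem h3 h2) _ V.ss_U, hf.mul _ h3 _ h2, hf.fA a ha, hf.fr, hf.fss]

theorem zc : z = ec 9437184 := rfl

/-- the fields `k1`, `k4` -/
theorem k_two {k : Y} (hk : φ k = ya * na) {f : Y → Y} (hf : Psi K f) {q b : Y} {qe be ae m n : ℕ}
    (hq : φ q = ec qe) (hb : φ b = ec be) (hae : ae ∈ A32) (hm : m < 5) (hn : n < 5)
    (h1 : (posW [0, 3] qe && Nat.beq (conjU 513 (reflW [0, 3] qe))
      (mulU (mulU (mulU ae (rL.getD m 0)) (rL.getD n 0)) 9437264)) = true)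
    (h2 : (posW [0, 3] be && Nat.beq (conjU 513 (reflW [0, 3] be))
      (mulU (mulU (mulU ae (rwL.getD m 0)) (rwL.getD n 0)) (mulU 9437264 9437184))) = true) :
    k⁻¹ * f (k * q * k⁻¹) * k = b := by
  obtain ⟨a, ha, hae'⟩ := V.exA hae
  rw [Bool.and_eq_true] at h1
  have e1 : k * q * k⁻¹ = a * ((K.x ^ m)⁻¹ * K.r * K.x ^ m) * ((K.x ^ n)⁻¹ * K.r * K.x ^ n) * (K.s * K.s) := by
    apply V.inj
    rw [V.map3, hk, hq, lkE h1.1 (Nat.eq_of_beq_eq_true h1.2), map_mul, map_mul, map_mul, hae', V.r_val hm, V.r_val hn,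
      V.ss_val, ← ec_mulU, ← ec_mulU, ← ec_mulU]
  rw [e1, V.f4 hf ha hm hn]
  refine V.conj_k hk ?_ hb h2
  rw [map_mul, map_mul, map_mul, hae', V.rw_val hm, V.rw_val hn, map_mul, V.ss_val, V.hz, V.zc, ← ec_mulU, ← ec_mulU,
    ← ec_mulU, ← ec_mulU]

/-- the fields `k2`, `k3` -/
theorem k_one {k : Y} (hk : φ k = ya * na) {f : Y → Y} (hf : Psi K f) {q b : Y} {qe be ae n : ℕ}
    (hq : φ q = ec qe) (hb : φ b = ec be) (hae : ae ∈ A32) (hn : n < 5)
    (h1 : (posW [0, 3] qe && Nat.beq (conjU 513 (reflW [0, 3] qe)) (mulU (mulU ae (rL.getD n 0)) 9437264)) = true)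
    (h2 : (posW [0, 3] be && Nat.beq (conjU 513 (reflW [0, 3] be))
      (mulU (mulU ae (rwL.getD n 0)) (mulU 9437264 9437184))) = true) :
    k⁻¹ * f (k * q * k⁻¹) * k = b := by
  obtain ⟨a, ha, hae'⟩ := V.exA hae
  rw [Bool.and_eq_true] at h1
  have e1 : k * q * k⁻¹ = a * ((K.x ^ n)⁻¹ * K.r * K.x ^ n) * (K.s * K.s) := by
    apply V.inj
    rw [V.map3, hk, hq, lkE h1.1 (Nat.eq_of_beq_eq_true h1.2), map_mul, map_mul, hae', V.r_val hn,
      V.ss_val, ← ec_mulU, ← ec_mulU]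
  rw [e1, V.f3 hf ha hn]
  refine V.conj_k hk ?_ hb h2
  rw [map_mul, map_mul, hae', V.rw_val hn, map_mul, V.ss_val, V.hz, V.zc, ← ec_mulU, ← ec_mulU, ← ec_mulU]

theorem hqc (n : ZMod 5) : φ (K.q n) = ec (qc n) := V.hq n

theorem mul_val {a b : Y} {c d e : ℕ} (ha : φ a = ec c) (hb : φ b = ec d) (h : mulU c d = e) : φ (a * b) = ec e := by
  rw [map_mul, ha, hb, ← ec_mulU, h]

theorem conj_val {a b : Y} {c d e : ℕ} (ha : φ a = ec c) (hb : φ b = ec d) (h : conjU c d = e) :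
    φ (a * b * a⁻¹) = ec e := by
  rw [V.map3, ha, hb, ← ec_conjU, h]

theorem hsc : φ K.s = ec 1179754 := by rw [V.hs, sf_eq]

theorem hzc : φ K.z = ec 9437184 := V.hz

/-- `KS₂` -/
theorem KS2 : (K.x ^ 3)⁻¹ * (K.r * K.aw) * K.x ^ 3 * ((K.x ^ 4)⁻¹ * (K.r * K.aw) * K.x ^ 4) * (K.s * K.aw * K.s⁻¹) =
    (K.x ^ 3)⁻¹ * K.r * K.x ^ 3 * ((K.x ^ 4)⁻¹ * K.r * K.x ^ 4) * (K.s * K.aj * K.s⁻¹) := by
  apply V.inj
  have h1 : φ ((K.x ^ 3)⁻¹ * (K.r * K.aw) * K.x ^ 3 * ((K.x ^ 4)⁻¹ * (K.r * K.aw) * K.x ^ 4) *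
      (K.s * K.aw * K.s⁻¹)) = ec 13755137 := by
    refine V.mul_val (V.mul_val (V.rw_val (by norm_num)) (V.rw_val (by norm_num)) rfl)
      (V.conj_val V.hsc V.haw rfl) ?_
    decide +kernel
  have h2 : φ ((K.x ^ 3)⁻¹ * K.r * K.x ^ 3 * ((K.x ^ 4)⁻¹ * K.r * K.x ^ 4) * (K.s * K.aj * K.s⁻¹)) =
      ec 13755137 := by
    refine V.mul_val (V.mul_val (V.r_val (by norm_num)) (V.r_val (by norm_num)) rfl)
      (V.conj_val V.hsc V.haj rfl) ?_
    decide +kernel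
  rw [h1, h2]

theorem q04 : φ (K.q 0 * K.q 4) = ec 2936832 := by
  rw [map_mul, V.hq, V.hq, q0q4_eq]

/-- from the orbit in `LL` to the orbit in `Y` -/
theorem orb {a : Y} (h : ∃ p ∈ Pz, p⁻¹ * ec 2936832 * p = φ a) : ∃ p ∈ K.P, p⁻¹ * (K.q 0 * K.q 4) * p = a := by
  obtain ⟨p, hp, h1⟩ := h
  obtain ⟨p', hp'⟩ := V.sur p (mem_Pz.1 hp).1
  refine ⟨p', (V.hP p').2 (by rw [hp']; exact hp), V.inj ?_⟩
  rw [V.map3', hp', V.q04, h1]

theorem A_cases {a : Y} (ha : a ∈ K.A) : a = 1 ∨ a = K.z ∨ (∃ n, a = K.q n ∨ a = K.z * K.q n) ∨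
    ∃ p ∈ K.P, p⁻¹ * (K.q 0 * K.q 4) * p = a := by
  rcases AA_orb ((V.hA a).1 ha) with h | h | ⟨n, h | h⟩ | h
  · exact Or.inl (V.inj (by rw [h, map_one]))
  · exact Or.inr (Or.inl (V.inj (by rw [h, V.hz])))
  · exact Or.inr (Or.inr (Or.inl ⟨n, Or.inl (V.inj (by rw [h, V.hq]))⟩))
  · exact Or.inr (Or.inr (Or.inl ⟨n, Or.inr (V.inj (by rw [h, V.hzq]))⟩))
  · exact Or.inr (Or.inr (Or.inr (V.orb h)))

/-! ### (F1) -/

theorem F1 (u : Y) (hu : u ∈ K.U) (hM : u ∉ Mm K) (H : Subgroup Y) (hH : H ≤ Qz K) (hc : ∀ h ∈ H, h * u = u * h) :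
    4 * Nat.card H < Nat.card (Qz K) := by
  classical
  have := K.fin
  have hu' : φ u ∈ UT := (V.hU u).1 hu
  have hne : φ u * z1 ≠ z1 * φ u := fun h => hM (V.mem_Mm_iff.2 ⟨hu', h⟩)
  obtain ⟨C, h1, h2, h3⟩ := F1_codes hu' hne
  have hpre : ∀ p ∈ LF1, ∃ y : Y, φ y = ec p.2 := fun p hp => V.sur _ (QQ_le_UT (LF1_spec p hp).1).2
  choose! pre hpre using hpre
  refine Cfsg.Agent.OddHalf.D7Tits.WFive.four_lt_cent hH hc (LF1.map pre) ?_ ?_
  · intro h hh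
    rw [List.mem_map] at hh
    obtain ⟨p, hp, rfl⟩ := hh
    rw [V.mem_Qz_iff, hpre p hp]
    exact ⟨(LF1_spec p hp).1, (LF1_spec p hp).2.1⟩
  · have h5 := five_of_codes (((LF1.map pre).map fun h => h⁻¹ * u * h).reverse) φ C ?_ h2 h3
    · rwa [List.toFinset_reverse] at h5
    · rw [← h1, List.map_reverse, List.map_map, List.map_map]
      refine congrArg List.reverse ?_
      apply List.map_congr_left
      intro p hp
      show φ ((pre p)⁻¹ * u * pre p) = _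
      rw [V.map3', hpre p hp]

/-! ### (F2) -/

theorem Qz_of {y : Y} {c : ℕ} (h : φ y = ec c) (hQ : ec c ∈ QQ)
    (hc : Nat.beq (mulU c 4259840) (mulU 4259840 c) = true) : y ∈ Qz K := by
  rw [V.mem_Qz_iff, h]
  refine ⟨hQ, ?_⟩
  unfold z1
  rw [← ec_mulU, ← ec_mulU, Nat.eq_of_beq_eq_true hc]

theorem twist_val {a fa m : Y} {c c' d : ℕ} (ha : φ a = ec c) (h : Nat.beq (mulU c' c) 0 = true)
    (hfa : φ fa = ec d) : φ (a⁻¹ * m * fa) = ec c' * φ m * ec d := by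
  rw [V.map3', ha, hfa, ec_inv_of h]

theorem F2 (f : Y → Y) (hf : Psi K f) (m : Y) (hm : m ∈ Mm K) (H : Subgroup Y) (hH : H ≤ Qz K)
    (hc : ∀ h ∈ H, m * f h * m⁻¹ = h) : 4 * Nat.card H < Nat.card (Qz K) := by
  classical
  have := K.fin
  have hm' := V.mem_Mm_iff.1 hm
  obtain ⟨C, h1, h2, h3⟩ := F2_codes hm'.1 hm'.2
  have hQU : Qz K ≤ K.U := fun a ha => K.Q_le_U (mem_Qz.1 ha).1
  -- the elements
  obtain ⟨R1, hR1⟩ : ∃ R, R = (K.x ^ 1)⁻¹ * K.r * K.x ^ 1 := ⟨_, rfl⟩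
  obtain ⟨R2, hR2⟩ : ∃ R, R = (K.x ^ 2)⁻¹ * K.r * K.x ^ 2 := ⟨_, rfl⟩
  obtain ⟨R3, hR3⟩ : ∃ R, R = (K.x ^ 3)⁻¹ * K.r * K.x ^ 3 := ⟨_, rfl⟩
  have v1 : φ R1 = ec 16567428 := by rw [hR1]; exact V.r_val (n := 1) (by norm_num)
  have v2 : φ R2 = ec 5482912 := by rw [hR2]; exact V.r_val (n := 2) (by norm_num)
  have v3 : φ R3 = ec 13495684 := by rw [hR3]; exact V.r_val (n := 3) (by norm_num)
  have w1 : φ (f R1) = ec 72836 := by rw [hR1, hf.fr]; exact V.rw_val (n := 1) (by norm_num)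
  have w2 : φ (f R2) = ec 8563104 := by rw [hR2, hf.fr]; exact V.rw_val (n := 2) (by norm_num)
  have w3 : φ (f R3) = ec 9485700 := by rw [hR3, hf.fr]; exact V.rw_val (n := 3) (by norm_num)
  have u1 : R1 ∈ K.U := by rw [hR1]; exact K.Q_le_U (V.x_conj_Q (by norm_num))
  have u2 : R2 ∈ K.U := by rw [hR2]; exact K.Q_le_U (V.x_conj_Q (by norm_num))
  have u3 : R3 ∈ K.U := by rw [hR3]; exact K.Q_le_U (V.x_conj_Q (by norm_num))
  have q1 : ec 16567428 ∈ QQ := RK_mem' _ (by decide)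
  have q2 : ec 5482912 ∈ QQ := RK_mem' _ (by decide)
  have q3 : ec 13495684 ∈ QQ := RK_mem' _ (by decide)
  have v12 : φ (R1 * R2) = ec 14656804 := V.mul_val v1 v2 (by decide +kernel)
  have v13 : φ (R1 * R3) = ec 5583104 := V.mul_val v1 v3 (by decide +kernel)
  have v23 : φ (R2 * R3) = ec 7848996 := V.mul_val v2 v3 (by decide +kernel)
  have w12 : φ (f (R1 * R2)) = ec 14906660 := by rw [hf.mul _ u1 _ u2]; exact V.mul_val w1 w2 (by decide +kernel)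
  have w13 : φ (f (R1 * R3)) = ec 7713024 := by rw [hf.mul _ u1 _ u3]; exact V.mul_val w1 w3 (by decide +kernel)
  have w23 : φ (f (R2 * R3)) = ec 15438884 := by rw [hf.mul _ u2 _ u3]; exact V.mul_val w2 w3 (by decide +kernel)
  have vq : φ (K.q 1) = ec 14503936 := V.hqc 1
  have wq : φ (f (K.q 1)) = ec 14503936 := by rw [hf.fA _ (K.q_A 1)]; exact vq
  have v0 : φ (1 : Y) = ec 0 := by rw [map_one, ec_zero]
  have w0 : φ (f (1 : Y)) = ec 0 := by rw [hf.fA _ K.A.one_mem]; exact v0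
  refine Cfsg.Agent.OddHalf.D7Tits.WFive.four_lt_twist hH (m := m) (f := f)
    (fun a ha b hb => hf.mul a (hQU ha) b (hQU hb)) hc [1, R1, R2, R1 * R2, R1 * R3, R2 * R3, K.q 1] ?_ ?_
  · intro h hh
    simp only [List.mem_cons, List.not_mem_nil, or_false] at hh
    rcases hh with rfl | rfl | rfl | rfl | rfl | rfl | rfl
    · exact Subgroup.one_mem _
    · exact V.Qz_of v1 q1 (by decide +kernel)
    · exact V.Qz_of v2 q2 (by decide +kernel)
    · exact V.Qz_of v12 (by rw [← v12, map_mul, v1, v2]; exact QQ.mul_mem q1 q2) (by decide +kernel)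
    · exact V.Qz_of v13 (by rw [← v13, map_mul, v1, v3]; exact QQ.mul_mem q1 q3) (by decide +kernel)
    · exact V.Qz_of v23 (by rw [← v23, map_mul, v2, v3]; exact QQ.mul_mem q2 q3) (by decide +kernel)
    · exact V.Qz_of vq (by rw [← vq]; exact (V.hQ _).1 (K.A_le_Q (K.q_A 1))) (by decide +kernel)
  · have h5 := five_of_codes (([1, R1, R2, R1 * R2, R1 * R3, R2 * R3, K.q 1].map fun h => h⁻¹ * m * f h).reverse)
      φ C ?_ h2 h3
    · rwa [List.toFinset_reverse] at h5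
    · rw [← h1, List.map_reverse, List.map_map]
      refine congrArg List.reverse ?_
      show [φ (1⁻¹ * m * f 1), φ (R1⁻¹ * m * f R1), φ (R2⁻¹ * m * f R2), φ ((R1 * R2)⁻¹ * m * f (R1 * R2)),
        φ ((R1 * R3)⁻¹ * m * f (R1 * R3)), φ ((R2 * R3)⁻¹ * m * f (R2 * R3)),
        φ ((K.q 1)⁻¹ * m * f (K.q 1))] = [ec 0 * φ m * ec 0, ec 12180612 * φ m * ec 72836,
        ec 14887328 * φ m * ec 8563104, ec 7566628 * φ m * ec 14906660, ec 12923136 * φ m * ec 7713024,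
        ec 8098852 * φ m * ec 15438884, ec 14503936 * φ m * ec 14503936]
      rw [V.twist_val (c' := 0) v0 (by decide +kernel) w0, V.twist_val (c' := 12180612) v1 (by decide +kernel) w1,
        V.twist_val (c' := 14887328) v2 (by decide +kernel) w2, V.twist_val (c' := 7566628) v12 (by decide +kernel) w12,
        V.twist_val (c' := 12923136) v13 (by decide +kernel) w13, V.twist_val (c' := 8098852) v23 (by decide +kernel) w23,
        V.twist_val (c' := 14503936) vq (by decide +kernel) wq]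

/-! ### (F3) -/

theorem F3 (m : Y) (hm : m ∈ Mm K) (hmm : m * m = 1) (H : Subgroup Y) (hH : H ≤ Mm K)
    (hc : ∀ h ∈ H, h * m = m * h) (hcard : Nat.card (Mm K) ≤ 4 * Nat.card H) :
    m = 1 ∨ m = K.z ∨ m = K.q 0 ∨ m = K.z * K.q 0 ∨ ∃ p ∈ K.P, p⁻¹ * (K.q 0 * K.q 4) * p = m := by
  classical
  have := K.fin
  have hm' := V.mem_Mm_iff.1 hm
  rcases F3_codes hm'.1 (by rw [← map_mul, hmm, map_one]) with ⟨e, he, h⟩ | ⟨C, h1, h2, h3⟩
  · have ho : ∀ e ∈ [2129920, 6389760, 11567104, 15826944], φ m = ec e →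
        ∃ p ∈ K.P, p⁻¹ * (K.q 0 * K.q 4) * p = m := by
      intro e he h
      apply V.orb
      rw [h]
      refine O20_spec e ?_
      simp only [List.mem_cons, List.not_mem_nil, or_false] at he
      rcases he with rfl | rfl | rfl | rfl <;> decide
    unfold X8 at he
    simp only [List.mem_cons, List.not_mem_nil, or_false] at he
    rcases he with rfl | rfl | rfl | rfl | rfl | rfl | rfl | rfl
    · exact Or.inl (V.inj (by rw [h, map_one, ec_zero]))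
    · exact Or.inr (Or.inl (V.inj (by rw [h, V.hzc])))
    · exact Or.inr (Or.inr (Or.inl (V.inj (by rw [h, V.hq0]; rfl))))
    · refine Or.inr (Or.inr (Or.inr (Or.inl (V.inj ?_))))
      rw [h, V.mul_val (e := 13697024) V.hzc (V.hqc 0) (by decide +kernel)]
    · exact Or.inr (Or.inr (Or.inr (Or.inr (ho _ (by simp) h))))
    · exact Or.inr (Or.inr (Or.inr (Or.inr (ho _ (by simp) h))))
    · exact Or.inr (Or.inr (Or.inr (Or.inr (ho _ (by simp) h))))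
    · exact Or.inr (Or.inr (Or.inr (Or.inr (ho _ (by simp) h))))
  · exfalso
    have hpre : ∀ p ∈ LF3, ∃ y : Y, φ y = ec p.2 := fun p hp => V.sur _ (LF3_spec p hp).1.2
    choose! pre hpre using hpre
    have h4 := Cfsg.Agent.OddHalf.D7Tits.WFive.four_lt_cent hH hc (LF3.map pre) (by
      intro h hh
      rw [List.mem_map] at hh
      obtain ⟨p, hp, rfl⟩ := hh
      rw [V.mem_Mm_iff, hpre p hp]
      exact ⟨(LF3_spec p hp).1, (LF3_spec p hp).2.1⟩) (by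
      have h5 := five_of_codes (((LF3.map pre).map fun h => h⁻¹ * m * h).reverse) φ C (by
        rw [← h1, List.map_reverse, List.map_map, List.map_map]
        refine congrArg List.reverse ?_
        apply List.map_congr_left
        intro p hp
        show φ ((pre p)⁻¹ * m * pre p) = _
        rw [V.map3', hpre p hp]) h2 h3
      rwa [List.toFinset_reverse] at h5)
    omega

end Vals

/-- **The K-facts for type W.** -/
noncomputable def ktwOf {Y : Type u} [Group Y] {K : KT Y} {φ : Y →* LL} (V : Vals K φ) : KTW K where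
  jj := V.jj
  k := Classical.choose V.exk
  kz := V.conj_k (Classical.choose_spec V.exk) V.hzc (V.hqc 0) (by decide +kernel)
  kq := V.conj_k (Classical.choose_spec V.exk) (V.hqc 0)
    (V.mul_val (e := 13697024) V.hzc (V.hqc 0) (by decide +kernel)) (by decide +kernel)
  kU n := by
    rw [V.hU, V.map3, Classical.choose_spec V.exk, V.hq]
    exact kq_UT n
  k1 f hf := V.k_two (Classical.choose_spec V.exk) hf (V.hqc 1) V.q04 (ae := 2670592) (m := 0) (n := 4) (by decide)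
    (by norm_num) (by norm_num) (by decide +kernel) (by decide +kernel)
  k2 f hf := V.k_one (Classical.choose_spec V.exk) hf (V.hqc 2)
    (V.mul_val (e := 2396160) (V.mul_val (e := 13697024) V.hzc (V.hqc 0) (by decide +kernel)) (V.hqc 2)
      (by decide +kernel)) (ae := 2936832) (n := 2) (by decide) (by norm_num) (by decide +kernel) (by decide +kernel)
  k3 f hf := V.k_one (Classical.choose_spec V.exk) hf (V.hqc 3)
    (V.mul_val (e := 13963264) (V.mul_val (e := 13697024) V.hzc (V.hqc 0) (by decide +kernel)) (V.hqc 3)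
      (by decide +kernel)) (ae := 5066752) (n := 2) (by decide) (by norm_num) (by decide +kernel) (by decide +kernel)
  k4 f hf := V.k_two (Classical.choose_spec V.exk) hf (V.hqc 4)
    (V.mul_val (e := 10244096) (V.hqc 0) (V.hqc 1) (by decide +kernel)) (ae := 14237696) (m := 0) (n := 4) (by decide)
    (by norm_num) (by norm_num) (by decide +kernel) (by decide +kernel)
  KS₂ := V.KS2
  A_cases a ha := V.A_cases ha
  F1 := V.F1
  F2 := V.F2
  F3 := V.F3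

end Cfsg.Agent.TitsK
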