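import Cfsg.Agent.TitsK.KtInst
import Cfsg.Agent.TitsK.KtWB

/-!
# `ktw : KTW ktH`: the K-facts for type W of `²F₄(2)` (helper795)
-/

set_option autoImplicit false

namespace Cfsg.Agent.TitsK

open Cfsg.Lie
open Cfsg.Agent.OddHalf.D7Tits.Defs Cfsg.Agent.OddHalf.D7Tits.WDefs

theorem vals_H : Vals (Y := ↥HT) ktH HT.subtype where
  inj := HT.subtype_injective
  sur := fun g hg => ⟨⟨g, hg⟩, rfl⟩
  hz := rfl
  hx := rfl
  hs := rfl
  hj := rfl
  hr := rfl
  haj := rfl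
  haw := rfl
  hq := fun _ => rfl
  hU := fun _ => Iff.rfl
  hQ := fun _ => Iff.rfl
  hP := fun _ => Iff.rfl
  hA := fun _ => Iff.rfl

/-- **The K-facts for type W of `²F₄(2)`.** -/
noncomputable def ktw : KTW ktH := ktwOf vals_H

end Cfsg.Agent.TitsK
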