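import Cfsg.Agent.TitsK.AutT
import Cfsg.Agent.OddHalf.D4.Spor.Sheet

/-!
The fact sheet of `T` for the abstract data `TData`: `TData.sheet`.
-/

set_option autoImplicit false

namespace Cfsg.Agent.TitsK

open Cfsg.Agent.TitsK.Abs
open Cfsg.Agent.OddHalf.D4.Spor

namespace TData

variable {G : Type*} [Group G] (D : TData G)

/-- conjugation by an element of `H` as an automorphism of `T` -/
def cT (h : ↥D.H) : MulAut ↥D.T where
  toFun t := ⟨h * t * (h : G)⁻¹, D.T_conj h h.2 t t.2⟩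
  invFun t := ⟨(h : G)⁻¹ * t * h, by
    have h1 := D.T_conj (h : G)⁻¹ (D.H.inv_mem h.2) t t.2
    rw [inv_inv] at h1
    exact h1⟩
  left_inv t := by
    apply Subtype.ext
    show (h : G)⁻¹ * (h * t * (h : G)⁻¹) * h = t
    group
  right_inv t := by
    apply Subtype.ext
    show (h : G) * ((h : G)⁻¹ * t * h) * (h : G)⁻¹ = t
    group
  map_mul' a b := by
    apply Subtype.ext
    show (h : G) * (a * b) * (h : G)⁻¹ = (h * a * (h : G)⁻¹) * (h * b * (h : G)⁻¹)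
    group

theorem cT_apply (h : ↥D.H) (t : ↥D.T) : ((D.cT h t : ↥D.T) : G) = h * t * (h : G)⁻¹ := rfl

/-- `H → Aut(T)` -/
def PhiT : ↥D.H →* MulAut ↥D.T where
  toFun := D.cT
  map_one' := by
    ext t
    rw [cT_apply]
    show (1 : G) * t * (1 : G)⁻¹ = t
    group
  map_mul' a b := by
    ext t
    rw [MulAut.mul_apply, cT_apply, cT_apply, cT_apply]
    show (a * b : G) * t * (a * b : G)⁻¹ = a * (b * t * (b : G)⁻¹) * (a : G)⁻¹
    group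

theorem PhiT_apply (h : ↥D.H) (t : ↥D.T) : ((D.PhiT h t : ↥D.T) : G) = h * t * (h : G)⁻¹ := rfl

theorem PhiT_surjective [Finite G] : Function.Surjective D.PhiT := by
  intro α
  have hf : D.Inj (D.T.subtype.comp α.toMonoidHom) :=
    ⟨D.T.subtype_injective.comp α.injective, fun t => (α t).2⟩
  obtain ⟨h, hh, he⟩ := exists_conj hf
  refine ⟨⟨h, hh⟩, ?_⟩
  ext t
  rw [PhiT_apply]
  exact (he t).symm

theorem PhiT_inn (h : ↥D.H) (ht : (h : G) ∈ D.T) : D.PhiT h = MulAut.conj ⟨h, ht⟩ := by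
  ext t
  rw [PhiT_apply, MulAut.conj_apply]
  rfl

theorem range_conj : (MulAut.conj : ↥D.T →* MulAut ↥D.T).range = (D.T.subgroupOf D.H).map D.PhiT := by
  ext α
  constructor
  · rintro ⟨t, rfl⟩
    exact ⟨⟨t, D.T_le t.2⟩, t.2, D.PhiT_inn _ t.2⟩
  · rintro ⟨h, hh, rfl⟩
    exact ⟨⟨h, hh⟩, (D.PhiT_inn h hh).symm⟩

theorem index_inn [Finite G] : (MulAut.conj : ↥D.T →* MulAut ↥D.T).range.index ∣ 2 := by
  rw [range_conj, ← D.relIndex_T]
  exact Subgroup.index_map_dvd _ D.PhiT_surjective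

theorem mul_mem_iff {a b : G} (ha : a ∈ D.H) (hb : b ∈ D.H) : a * b ∈ D.T ↔ (a ∈ D.T ↔ b ∈ D.T) := by
  have h1 := Subgroup.mul_mem_iff_of_index_two (H := D.T.subgroupOf D.H) D.relIndex_T (a := ⟨a, ha⟩) (b := ⟨b, hb⟩)
  simpa [Subgroup.mem_subgroupOf] using h1

/-! ### centralisers -/

theorem cent_S' {h : G} (hh : h ∈ D.H) (hc : ∀ s ∈ D.S, h * s = s * h) : h = 1 ∨ h = D.z := by
  have hU : h ∈ D.U := by
    apply D.cent_V h hh
    · rw [hc _ D.z_mem_S]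
      group
    · rw [hc _ (D.V_le_S D.z1_mem_V)]
      group
  exact D.cent_S h hU hc

theorem cent_T {h : G} (hh : h ∈ D.H) (hc : ∀ t ∈ D.T, h * t = t * h) : h = 1 := by
  rcases D.cent_S' hh (fun s hs => hc s hs.2) with h1 | h1
  · exact h1
  · exfalso
    obtain ⟨t, ht, hne⟩ := D.z_not_central
    apply hne
    rw [← h1, ← hc t ht]
    group

/-! ### 2-central involutions -/

/-- the Sylow 2-subgroup as a Sylow subgroup -/
noncomputable def syl [Finite G] : Sylow 2 ↥D.T :=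
  haveI : Fact (Nat.Prime 2) := ⟨Nat.prime_two⟩
  (D.isPGroup_S.comap_subtype : IsPGroup 2 ↥(D.S.subgroupOf D.T)).toSylow D.odd_S

theorem mem_syl [Finite G] {t : ↥D.T} : t ∈ D.syl ↔ (t : G) ∈ D.S := Iff.rfl

/-- every Sylow 2-subgroup is conjugate to `syl` -/
theorem exists_syl [Finite G] (P : Sylow 2 ↥D.T) : ∃ g : ↥D.T, ∀ t : ↥D.T, t ∈ P ↔ (g⁻¹ * t * g : ↥D.T) ∈ D.syl := by
  have : Fact (Nat.Prime 2) := ⟨Nat.prime_two⟩
  obtain ⟨g, hg⟩ := MulAction.exists_smul_eq ↥D.T D.syl P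
  refine ⟨g, fun t => ?_⟩
  rw [← hg]
  show t ∈ ((g • D.syl : Sylow 2 ↥D.T) : Subgroup ↥D.T) ↔ _
  rw [Sylow.coe_subgroup_smul, Subgroup.mem_pointwise_smul_iff_inv_smul_mem]
  have e : (MulAut.conj g)⁻¹ • t = g⁻¹ * t * g := by
    rw [← map_inv, MulAut.smul_def, MulAut.conj_apply, inv_inv]
  rw [e]
  rfl

theorem cen_of_conj [Finite G] {x : ↥D.T} {t : G} (ht : t ∈ D.T) (h : t * x * t⁻¹ = D.z) : Cen x := by
  have : Fact (Nat.Prime 2) := ⟨Nat.prime_two⟩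
  refine ⟨(⟨t, ht⟩ : ↥D.T)⁻¹ • D.syl, fun s hs => ?_⟩
  have hs : s ∈ (((⟨t, ht⟩ : ↥D.T)⁻¹ • D.syl : Sylow 2 ↥D.T) : Subgroup ↥D.T) := hs
  rw [Sylow.coe_subgroup_smul, Subgroup.mem_pointwise_smul_iff_inv_smul_mem] at hs
  have e : (MulAut.conj (⟨t, ht⟩ : ↥D.T)⁻¹)⁻¹ • s = ⟨t, ht⟩ * s * (⟨t, ht⟩ : ↥D.T)⁻¹ := by
    rw [← map_inv, MulAut.smul_def, MulAut.conj_apply, inv_inv]
  rw [e] at hs
  have h1 : t * s * t⁻¹ ∈ D.S := hs
  have h2 := D.z_central _ h1.1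
  rw [mul_inv_eq_iff_eq_mul] at h2
  apply Subtype.ext
  show (s : G) * x = x * s
  have e1 : (x : G) = t⁻¹ * D.z * t := by
    rw [← h]
    group
  rw [e1]
  have e2 : (s : G) * (t⁻¹ * D.z * t) = t⁻¹ * (t * s * t⁻¹ * D.z) * t := by group
  have e3 : t⁻¹ * D.z * t * (s : G) = t⁻¹ * (D.z * (t * s * t⁻¹)) * t := by group
  rw [e2, e3, h2]

/-- the involutions of `T` are conjugate to `z` or to `d` -/
theorem invol_cases [Finite G] {a : G} (haT : a ∈ D.T) (ha : a * a = 1) (ha1 : a ≠ 1) :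
    (∃ t ∈ D.T, t * a * t⁻¹ = D.z) ∨ (∃ t ∈ D.T, t * a * t⁻¹ = D.d) := by
  have hp : IsPGroup 2 ↥(Subgroup.zpowers a) := by
    have h2 : a ^ 2 = 1 := by rw [pow_two, ha]
    have : Fact (Nat.Prime 2) := ⟨Nat.prime_two⟩
    have ho : orderOf a = 2 := orderOf_eq_prime h2 ha1
    exact IsPGroup.of_card (n := 1) (by rw [Nat.card_zpowers, ho, pow_one])
  obtain ⟨g, hg, h⟩ := exists_conj_sub D.S_le_T D.isPGroup_S D.odd_S
    (Subgroup.zpowers_le.2 haT : Subgroup.zpowers a ≤ D.T) hp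
  have h1 := h a (Subgroup.mem_zpowers a)
  have h2 : g * a * g⁻¹ * (g * a * g⁻¹) = 1 := by
    have e : g * a * g⁻¹ * (g * a * g⁻¹) = g * (a * a) * g⁻¹ := by group
    rw [e, ha]
    group
  have h3 : g * a * g⁻¹ ≠ 1 := by
    intro h4
    apply ha1
    have e : a = g⁻¹ * (g * a * g⁻¹) * g := by group
    rw [e, h4]
    group
  rcases D.invol _ h1 h2 h3 with ⟨t, ht, h4⟩ | ⟨t, ht, h4⟩
  · exact Or.inl ⟨t * g, D.T.mul_mem ht hg, by rw [← h4]; group⟩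
  · exact Or.inr ⟨t * g, D.T.mul_mem ht hg, by rw [← h4]; group⟩

/-! ### the fields of the sheet -/

theorem out [Finite G] : ¬ 4 ∣ (MulAut.conj : ↥D.T →* MulAut ↥D.T).range.index := by
  intro h
  have h1 := h.trans D.index_inn
  norm_num at h1

theorem schreier [Finite G] (P : Subgroup (MulAut ↥D.T)) (hP : ⁅P, P⁆ = P) :
    P ≤ (MulAut.conj : ↥D.T →* MulAut ↥D.T).range := by
  rw [← hP, Subgroup.commutator_le]
  intro α _ β _
  obtain ⟨a, rfl⟩ := D.PhiT_surjective α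
  obtain ⟨b, rfl⟩ := D.PhiT_surjective β
  rw [commutatorElement_def, ← map_mul, ← map_inv, ← map_inv, ← map_mul, ← map_mul]
  have h : ((a * b * a⁻¹ * b⁻¹ : ↥D.H) : G) ∈ D.T := by
    show (a : G) * b * (a : G)⁻¹ * (b : G)⁻¹ ∈ D.T
    rw [mul_assoc, D.mul_mem_iff (D.H.mul_mem a.2 b.2) (D.H.mul_mem (D.H.inv_mem a.2) (D.H.inv_mem b.2)),
      D.mul_mem_iff a.2 b.2, D.mul_mem_iff (D.H.inv_mem a.2) (D.H.inv_mem b.2), inv_mem_iff, inv_mem_iff]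
  rw [D.PhiT_inn _ h]
  exact ⟨_, rfl⟩

theorem sylAut [Finite G] (P : Sylow 2 ↥D.T) (α : MulAut ↥D.T) (hα : ∀ x ∈ P, α x = x) : Inn α := by
  obtain ⟨h, rfl⟩ := D.PhiT_surjective α
  obtain ⟨g, hg⟩ := D.exists_syl P
  have h1 : ∀ s ∈ D.S, ((g : G)⁻¹ * h * g) * s = s * ((g : G)⁻¹ * h * g) := by
    intro s hs
    have h2 : (g * ⟨s, hs.2⟩ * g⁻¹ : ↥D.T) ∈ P := by
      rw [hg, mem_syl]
      show (g : G)⁻¹ * (g * s * (g : G)⁻¹) * g ∈ D.S
      have e : (g : G)⁻¹ * (g * s * (g : G)⁻¹) * g = s := by group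
      rw [e]
      exact hs
    have h3 := congrArg (fun t : ↥D.T => (t : G)) (hα _ h2)
    have h4 : (h : G) * (g * s * (g : G)⁻¹) * (h : G)⁻¹ = g * s * (g : G)⁻¹ := h3
    rw [mul_inv_eq_iff_eq_mul] at h4
    have e1 : ((g : G)⁻¹ * h * g) * s = (g : G)⁻¹ * (h * (g * s * (g : G)⁻¹)) * g := by group
    have e2 : s * ((g : G)⁻¹ * h * g) = (g : G)⁻¹ * (g * s * (g : G)⁻¹ * h) * g := by group
    rw [e1, e2, h4]
  have hgH : (g : G) ∈ D.H := D.T_le g.2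
  have h2 := D.cent_S' (D.H.mul_mem (D.H.mul_mem (D.H.inv_mem hgH) h.2) hgH) h1
  have h3 : (g : G)⁻¹ * h * g ∈ D.T := by
    rcases h2 with h2 | h2
    · rw [h2]; exact D.T.one_mem
    · rw [h2]; exact D.V_le_T D.z_mem_V
  have h4 : (h : G) ∈ D.T := by
    have h5 := D.T_conj g hgH _ h3
    have e : (g : G) * ((g : G)⁻¹ * h * g) * (g : G)⁻¹ = h := by group
    rw [e] at h5
    exact h5
  exact ⟨_, D.PhiT_inn h h4⟩

theorem z_of_central [Finite G] (P : Sylow 2 ↥D.T) {g : ↥D.T} (hg : ∀ t : ↥D.T, t ∈ P ↔ (g⁻¹ * t * g : ↥D.T) ∈ D.syl)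
    {a : ↥D.T} (ha1 : a ≠ 1) (ha : ∀ s ∈ P, s * a = a * s) : (a : G) = g * D.z * (g : G)⁻¹ := by
  have h1 : ∀ s ∈ D.S, ((g : G)⁻¹ * a * g) * s = s * ((g : G)⁻¹ * a * g) := by
    intro s hs
    have h2 : (g * ⟨s, hs.2⟩ * g⁻¹ : ↥D.T) ∈ P := by
      rw [hg, mem_syl]
      show (g : G)⁻¹ * (g * s * (g : G)⁻¹) * g ∈ D.S
      have e : (g : G)⁻¹ * (g * s * (g : G)⁻¹) * g = s := by group
      rw [e]
      exact hs
    have h3 := congrArg (fun t : ↥D.T => (t : G)) (ha _ h2)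
    have h4 : g * s * (g : G)⁻¹ * a = a * (g * s * (g : G)⁻¹) := h3
    have e1 : ((g : G)⁻¹ * a * g) * s = (g : G)⁻¹ * (a * (g * s * (g : G)⁻¹)) * g := by group
    have e2 : s * ((g : G)⁻¹ * a * g) = (g : G)⁻¹ * (g * s * (g : G)⁻¹ * a) * g := by group
    rw [e1, e2, h4]
  have hgH : (g : G) ∈ D.H := D.T_le g.2
  rcases D.cent_S' (D.H.mul_mem (D.H.mul_mem (D.H.inv_mem hgH) (D.T_le a.2)) hgH) h1 with h2 | h2
  · exfalso
    apply ha1
    apply Subtype.ext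
    show (a : G) = 1
    have e : (a : G) = g * ((g : G)⁻¹ * a * g) * (g : G)⁻¹ := by group
    rw [e, h2]
    group
  · rw [← h2]
    group

theorem z1_field [Finite G] (P : Sylow 2 ↥D.T) (a : ↥D.T) (ha1 : a ≠ 1) (ha : ∀ s ∈ P, s * a = a * s)
    (b : ↥D.T) (hb1 : b ≠ 1) (hb : ∀ s ∈ P, s * b = b * s) : a = b := by
  obtain ⟨g, hg⟩ := D.exists_syl P
  apply Subtype.ext
  rw [D.z_of_central P hg ha1 ha, D.z_of_central P hg hb1 hb]

/-- balance, for an involution `a` with a normal 2-subgroup `E ∋ z, z1` of `C_T(a)` -/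
theorem bal_aux [Finite G] {a : G} {E : Subgroup G} (hEU : IsPGroup 2 ↥E) (hET : E ≤ D.T) (hz : D.z ∈ E)
    (hz1 : D.z1 ∈ E) (hEa : ∀ e ∈ E, e * a = a * e) (hn : ∀ g ∈ D.T, g * a = a * g → ∀ e ∈ E, g * e * g⁻¹ ∈ E)
    {I : Subgroup G} (hI : I ≤ D.T) (hIa : ∀ i ∈ I, i * a = a * i)
    (hIn : ∀ c ∈ D.T, c * a = a * c → ∀ i ∈ I, c * i * c⁻¹ ∈ I) (ho : Odd (Nat.card ↥I)) : I = ⊥ := by
  have hd : I ⊓ E = ⊥ := by
    apply eq_bot_of_odd (hEU.to_le inf_le_right)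
    exact Odd.of_dvd_nat ho (Subgroup.card_dvd_of_le inf_le_left)
  have key : ∀ i ∈ I, ∀ e ∈ E, i * e * i⁻¹ = e := by
    intro i hi e he
    have h1 : i * e * i⁻¹ * e⁻¹ ∈ I ⊓ E := by
      refine ⟨?_, E.mul_mem (hn i (hI hi) (hIa i hi) e he) (E.inv_mem he)⟩
      have h2 := I.mul_mem hi (hIn e (hET he) (hEa e he) i⁻¹ (I.inv_mem hi))
      have e1 : i * (e * i⁻¹ * e⁻¹) = i * e * i⁻¹ * e⁻¹ := by group
      rw [e1] at h2
      exact h2
    rw [hd, Subgroup.mem_bot, mul_inv_eq_one] at h1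
    exact h1
  have hIU : I ≤ D.U := fun i hi => D.cent_V i (D.T_le (hI hi)) (key i hi _ hz) (key i hi _ hz1)
  exact eq_bot_of_odd (D.isPGroup_U.to_le hIU) ho

theorem bal_z [Finite G] {I : Subgroup G} (hI : I ≤ D.T) (hIa : ∀ i ∈ I, i * D.z = D.z * i)
    (hIn : ∀ c ∈ D.T, c * D.z = D.z * c → ∀ i ∈ I, c * i * c⁻¹ ∈ I) (ho : Odd (Nat.card ↥I)) : I = ⊥ := by
  refine D.bal_aux (E := D.E) (D.isPGroup_U.to_le D.E_le_U) D.E_le_T D.z_mem_E D.z1_mem_E ?_ ?_ hI hIa hIn ho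
  · intro e he
    have h := D.z_central e (D.E_le_U he)
    rw [mul_inv_eq_iff_eq_mul] at h
    exact h
  · intro g hg hga e he
    exact D.cent_z g (D.T_le hg) (by rw [hga]; group) e he

theorem bal_d [Finite G] {I : Subgroup G} (hI : I ≤ D.T) (hIa : ∀ i ∈ I, i * D.d = D.d * i)
    (hIn : ∀ c ∈ D.T, c * D.d = D.d * c → ∀ i ∈ I, c * i * c⁻¹ ∈ I) (ho : Odd (Nat.card ↥I)) : I = ⊥ := by
  refine D.bal_aux (E := D.V) (D.isPGroup_U.to_le D.V_le_U) D.V_le_T D.z_mem_V D.z1_mem_V D.d_comm ?_ hI hIa hIn ho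
  intro g hg hga e he
  exact D.cent_d g (D.T_le hg) (by rw [hga]; group) e he

/-- transport of `C(a)`-invariant subgroups by conjugation -/
theorem bal_conj [Finite G] {a b t : G} (ht : t ∈ D.T) (hab : t * a * t⁻¹ = b) {I : Subgroup G} (hI : I ≤ D.T)
    (hIa : ∀ i ∈ I, i * a = a * i) (hIn : ∀ c ∈ D.T, c * a = a * c → ∀ i ∈ I, c * i * c⁻¹ ∈ I) :
    cj t I ≤ D.T ∧ (∀ i ∈ cj t I, i * b = b * i) ∧ ∀ c ∈ D.T, c * b = b * c → ∀ i ∈ cj t I, c * i * c⁻¹ ∈ cj t I := by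
  refine ⟨?_, ?_, ?_⟩
  · intro x hx
    have h1 := D.T_conj t (D.T_le ht) _ (hI (mem_cj.1 hx))
    have e : t * (t⁻¹ * x * t) * t⁻¹ = x := by group
    rw [e] at h1
    exact h1
  · intro x hx
    have h1 := hIa _ (mem_cj.1 hx)
    rw [← hab]
    have e1 : x * (t * a * t⁻¹) = t * (t⁻¹ * x * t * a) * t⁻¹ := by group
    have e2 : t * a * t⁻¹ * x = t * (a * (t⁻¹ * x * t)) * t⁻¹ := by group
    rw [e1, e2, h1]
  · intro c hc hcb x hx
    rw [mem_cj] at hx ⊢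
    have hc' : t⁻¹ * c * t ∈ D.T := D.T.mul_mem (D.T.mul_mem (D.T.inv_mem ht) hc) ht
    have h1 := hIn _ hc' (by
      rw [← hab] at hcb
      have e1 : t⁻¹ * c * t * a = t⁻¹ * (c * (t * a * t⁻¹)) * t := by group
      have e2 : a * (t⁻¹ * c * t) = t⁻¹ * (t * a * t⁻¹ * c) * t := by group
      rw [e1, e2, hcb]) _ hx
    have e : t⁻¹ * c * t * (t⁻¹ * x * t) * (t⁻¹ * c * t)⁻¹ = t⁻¹ * (c * x * c⁻¹) * t := by group
    rw [e] at h1
    exact h1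

theorem bal_G [Finite G] {a : G} (haT : a ∈ D.T) (ha : a * a = 1) (ha1 : a ≠ 1) {I : Subgroup G} (hI : I ≤ D.T)
    (hIa : ∀ i ∈ I, i * a = a * i) (hIn : ∀ c ∈ D.T, c * a = a * c → ∀ i ∈ I, c * i * c⁻¹ ∈ I)
    (ho : Odd (Nat.card ↥I)) : I = ⊥ := by
  have key : ∀ t : G, cj t I = ⊥ → I = ⊥ := by
    intro t h
    rw [← Subgroup.card_eq_one, ← card_cj t I, h, Subgroup.card_bot]
  rcases D.invol_cases haT ha ha1 with ⟨t, ht, h⟩ | ⟨t, ht, h⟩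
  · obtain ⟨h1, h2, h3⟩ := D.bal_conj ht h hI hIa hIn
    exact key t (D.bal_z h1 h2 h3 (by rw [card_cj]; exact ho))
  · obtain ⟨h1, h2, h3⟩ := D.bal_conj ht h hI hIa hIn
    exact key t (D.bal_d h1 h2 h3 (by rw [card_cj]; exact ho))

/-- subgroups of `↥T` as subgroups of `G` -/
theorem mem_map_T {I : Subgroup ↥D.T} {g : G} : g ∈ I.map D.T.subtype ↔ ∃ h : g ∈ D.T, (⟨g, h⟩ : ↥D.T) ∈ I := by
  constructor
  · rintro ⟨x, hx, rfl⟩
    exact ⟨x.2, hx⟩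
  · rintro ⟨h, hx⟩
    exact ⟨_, hx, rfl⟩

theorem card_map_T (I : Subgroup ↥D.T) : Nat.card ↥(I.map D.T.subtype) = Nat.card ↥I :=
  Nat.card_congr (I.equivMapOfInjective _ D.T.subtype_injective).symm.toEquiv

theorem bal_field [Finite G] (a : ↥D.T) (ha : a * a = 1) (ha1 : a ≠ 1) (I : Subgroup ↥D.T) (hIa : ∀ i ∈ I, i * a = a * i)
    (hIn : ∀ c : ↥D.T, c * a = a * c → ∀ i ∈ I, c * i * c⁻¹ ∈ I) (ho : Odd (Nat.card ↥I)) : I = ⊥ := by
  have h := D.bal_G a.2 (congrArg (fun t : ↥D.T => (t : G)) ha) (fun h => ha1 (Subtype.ext h)) (I := I.map D.T.subtype)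
    (by rintro _ ⟨x, -, rfl⟩; exact x.2)
    (by rintro _ ⟨x, hx, rfl⟩; exact congrArg (fun t : ↥D.T => (t : G)) (hIa x hx))
    (by
      rintro c hc hca _ ⟨x, hx, rfl⟩
      exact ⟨⟨c, hc⟩ * x * (⟨c, hc⟩ : ↥D.T)⁻¹, hIn ⟨c, hc⟩ (Subtype.ext hca) x hx, rfl⟩)
    (by rw [card_map_T]; exact ho)
  rw [Subgroup.map_eq_bot_iff_of_injective _ D.T.subtype_injective] at h
  exact h

/-- no outer involutions -/
theorem no_outer_aut [Finite G] (α : MulAut ↥D.T) (hα : ¬ Inn α) (h2 : α * α = 1) : False := by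
  obtain ⟨h, rfl⟩ := D.PhiT_surjective α
  have hT : (h : G) ∉ D.T := fun h1 => hα ⟨_, D.PhiT_inn h h1⟩
  have hh : (h : G) * h = 1 := by
    apply D.cent_T (D.H.mul_mem h.2 h.2)
    intro t ht
    have h3 : (D.PhiT h * D.PhiT h) ⟨t, ht⟩ = ⟨t, ht⟩ := by rw [h2]; rfl
    have h4 : (h : G) * (h * t * (h : G)⁻¹) * (h : G)⁻¹ = t := congrArg (fun t : ↥D.T => (t : G)) h3
    have e : (h : G) * h * t = (h * (h * t * (h : G)⁻¹) * (h : G)⁻¹) * (h * h) := by group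
    rw [e, h4]
  have hne : (h : G) ≠ 1 := fun h1 => hT (by rw [h1]; exact D.T.one_mem)
  have hp : IsPGroup 2 ↥(Subgroup.zpowers (h : G)) := by
    have h2 : (h : G) ^ 2 = 1 := by rw [pow_two, hh]
    have : Fact (Nat.Prime 2) := ⟨Nat.prime_two⟩
    have ho : orderOf (h : G) = 2 := orderOf_eq_prime h2 hne
    exact IsPGroup.of_card (n := 1) (by rw [Nat.card_zpowers, ho, pow_one])
  obtain ⟨g, hg, hgc⟩ := exists_conj_sub D.U_le D.isPGroup_U D.odd_U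
    (Subgroup.zpowers_le.2 h.2 : Subgroup.zpowers (h : G) ≤ D.H) hp
  have h3 := hgc h (Subgroup.mem_zpowers _)
  have h4 : g * h * g⁻¹ * (g * h * g⁻¹) = 1 := by
    have e : g * h * g⁻¹ * (g * h * g⁻¹) = g * (h * h) * g⁻¹ := by group
    rw [e, hh]
    group
  have h5 := D.no_outer _ h3 h4
  apply hT
  have h6 := D.T_conj g⁻¹ (D.H.inv_mem hg) _ h5
  have e : g⁻¹ * (g * (h : G) * g⁻¹) * (g⁻¹)⁻¹ = h := by group
  rw [e] at h6
  exact h6

/-! ### `tab` -/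

/-- in `G`: no normal subgroup `N ∋ d` of `C_T(d)`, of order divisible by 4, without conjugates of `z` -/
theorem tab_d [Finite G] {N : Subgroup G} (hN : N ≤ D.T) (hd : D.d ∈ N) (hNd : ∀ n ∈ N, n * D.d = D.d * n)
    (hn : ∀ c ∈ D.T, c * D.d = D.d * c → ∀ n ∈ N, c * n * c⁻¹ ∈ N) (h4 : 4 ∣ Nat.card ↥N)
    (hnon : ∀ x ∈ N, ∀ t ∈ D.T, t * x * t⁻¹ ≠ D.z) : False := by
  have hVN : ∀ v ∈ D.V, v ∈ N → v = 1 := by
    intro v hv hvN
    by_contra h1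
    obtain ⟨t, ht, h2⟩ := D.V_cases v hv h1
    exact hnon v hvN t ht h2
  have key : ∀ n ∈ N, ∀ v ∈ D.V, n * v * n⁻¹ = v := by
    intro n hn' v hv
    have h1 : n * v * n⁻¹ * v⁻¹ ∈ D.V :=
      D.V.mul_mem (D.cent_d n (D.T_le (hN hn')) (by rw [hNd n hn']; group) v hv) (D.V.inv_mem hv)
    have h2 : n * v * n⁻¹ * v⁻¹ ∈ N := by
      have h3 := N.mul_mem hn' (hn v (D.V_le_T hv) (D.d_comm v hv) n⁻¹ (N.inv_mem hn'))
      have e1 : n * (v * n⁻¹ * v⁻¹) = n * v * n⁻¹ * v⁻¹ := by group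
      rw [e1] at h3
      exact h3
    have h3 := hVN _ h1 h2
    rw [mul_inv_eq_one] at h3
    exact h3
  have hNU : ∀ n ∈ N, n ∈ D.U := fun n hn' =>
    D.cent_V n (D.T_le (hN hn')) (key n hn' _ D.z_mem_V) (key n hn' _ D.z1_mem_V)
  by_cases h5 : ∃ n ∈ N, n ≠ 1 ∧ n ≠ D.d
  · obtain ⟨n, hn', hn1, hnd⟩ := h5
    have h6 := key n hn' _ D.z1_mem_V
    rw [mul_inv_eq_iff_eq_mul] at h6
    obtain ⟨x, hx, t, ht, h7⟩ := D.kill n ⟨hNU n hn', hN hn'⟩ h6 (hNd n hn') hn1 hnd N hd hn' hn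
    exact hnon x hx t ht h7
  · push Not at h5
    have hle : Nat.card ↥N ≤ 2 := by
      have h6 : (N : Set G) ⊆ {1, D.d} := by
        intro n hn'
        by_cases h7 : n = 1
        · exact Or.inl h7
        · exact Or.inr (h5 n hn' h7)
      have h7 := Set.ncard_le_ncard h6 (Set.toFinite _)
      have h8 : ({1, D.d} : Set G).ncard ≤ 2 := Set.ncard_insert_le 1 {D.d} |>.trans (by rw [Set.ncard_singleton])
      have h9 : (N : Set G).ncard = Nat.card ↥N := rfl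
      omega
    have := Nat.le_of_dvd Nat.card_pos h4
    omega

theorem not_bad [Finite G] (w : ↥D.T) (N : Subgroup ↥D.T) : ¬ Bad w N := by
  intro hb
  have hwG : (w : G) * w = 1 := congrArg (fun t : ↥D.T => (t : G)) hb.sq
  have hw1 : (w : G) ≠ 1 := fun h => hb.ne (Subtype.ext h)
  rcases D.invol_cases w.2 hwG hw1 with ⟨t, ht, h⟩ | ⟨t, ht, h⟩
  · exact hb.non w hb.mem hb.sq hb.ne (D.cen_of_conj ht h)
  · set M := N.map D.T.subtype with hM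
    have hMT : M ≤ D.T := by rintro _ ⟨x, -, rfl⟩; exact x.2
    have hMw : ∀ n ∈ M, n * (w : G) = w * n := by
      rintro _ ⟨x, hx, rfl⟩
      exact congrArg (fun t : ↥D.T => (t : G)) (hb.le x hx)
    have hMn : ∀ c ∈ D.T, c * (w : G) = w * c → ∀ n ∈ M, c * n * c⁻¹ ∈ M := by
      rintro c hc hcw _ ⟨x, hx, rfl⟩
      exact ⟨⟨c, hc⟩ * x * (⟨c, hc⟩ : ↥D.T)⁻¹, hb.norm ⟨c, hc⟩ (Subtype.ext hcw) x hx, rfl⟩
    obtain ⟨h1, h2, h3⟩ := D.bal_conj ht h hMT hMw hMn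
    refine D.tab_d h1 ?_ h2 h3 ?_ ?_
    · rw [← h]
      exact conj_mem_cj ⟨w, hb.mem, rfl⟩
    · rw [card_cj, hM, card_map_T]
      exact hb.four
    · intro x hx s hs hxs
      obtain ⟨y, hy, hyx⟩ := mem_cj.1 hx
      have hyx : (y : G) = t⁻¹ * x * t := hyx
      have e : (s * t) * (y : G) * (s * t)⁻¹ = D.z := by
        rw [← hxs, hyx]
        group
      have hst : s * t ∈ D.T := D.T.mul_mem hs ht
      have hy1 : y ≠ 1 := by
        rintro rfl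
        apply D.z_ne
        rw [← e]
        show (s * t) * 1 * (s * t)⁻¹ = 1
        group
      have hyy : y * y = 1 := by
        apply Subtype.ext
        show (y : G) * y = 1
        have e2 : (y : G) = (s * t)⁻¹ * D.z * (s * t) := by
          rw [← e]
          group
        have e3 : (y : G) * y = (s * t)⁻¹ * (D.z * D.z) * (s * t) := by
          rw [e2]
          group
        rw [e3, D.z_sq]
        group
      exact hb.non y hy hyy hy1 (D.cen_of_conj hst e)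

/-- **the fact sheet** -/
theorem sheet [Finite G] : Sheet ↥D.T where
  out := D.out
  schreier := D.schreier
  sylAut := fun P α _ h => D.sylAut P α h
  z1 := fun P a _ _ ha1 ha b _ _ hb1 hb => D.z1_field P a ha1 ha b hb1 hb
  bal := D.bal_field
  out2 := fun α hα h2 _ _ _ _ _ _ _ _ _ _ _ => D.no_outer_aut α hα h2
  tab := tab_of_not_bad D.not_bad

end TData

end Cfsg.Agent.TitsK
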