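import Cfsg.Agent.TitsK.Inst
import Cfsg.Agent.TitsK.SheetT
import Cfsg.Agent.OddHalf.D4.Spor.Transport

/-!
The fact sheet of the Tits group: `sheet : Sheet TitsGroup`.
-/

set_option autoImplicit false

namespace Cfsg.Agent.TitsK

open Cfsg.Agent.OddHalf.D4.Spor

theorem TData.sheet_of_equiv {G : Type*} [Group G] [Finite G] (D : TData G) {X : Type*} [Group X]
    (h : Nonempty (X ≃* ↥D.T)) : Sheet X := by
  obtain ⟨e⟩ := h
  exact D.sheet.of_equiv e.symm

/-- **ODD D4, row Tits** -/
theorem sheet : Sheet Cfsg.Lie.TitsGroup := by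
  refine tdata.sheet_of_equiv ?_
  exact exists_equiv

end Cfsg.Agent.TitsK
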