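import Cfsg.Agent.TitsK.KDef

/-!
Check for KThree: (KF) (helper795).
-/

set_option autoImplicit false
set_option Elab.async false

namespace Cfsg.Agent.TitsK

open Cfsg.Lie Cfsg.Agent.ChevalleyStructure.TwF4.Tables
open Cfsg.Agent.FourTwo.Base hiding bar bar_lt
open Cfsg.Agent.FourTwo.BN Cfsg.Agent.FourTwo.Comm Cfsg.Agent.FourTwo.Classes
open Cfsg.Agent.FourTwo.UCode (mulU invU conjU lets colW colF force force_eq mem_lets wel_lets wel_mem)

theorem cnt_KA_0 : cntP pKA gens10 0 = 256 := by decide +kernel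
theorem cnt_KA_1 : cntP pKA gens10 74 = 0 := by decide +kernel
theorem cnt_KA_2 : cntP pKA gens10 513 = 256 := by decide +kernel
theorem cnt_KA_3 : cntP pKA gens10 140875 = 0 := by decide +kernel

theorem cnt_KA : cntP pKA gens12 0 = 512 := cnt_of4 cnt_KA_0 cnt_KA_1 cnt_KA_2 cnt_KA_3 rfl

end Cfsg.Agent.TitsK
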