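import Cfsg.Agent.TitsK.KTwo
import Cfsg.Agent.TitsK.KChkD
import Cfsg.Agent.TitsK.KChkE

/-!
# K-facts of the Tits group by counting codes (helper795)

* `cntP`, `card_le_cnt`: the number of elements of `UT` whose codes satisfy a predicate;
* `KA_one` (KF): `U / A1T` has no elementary abelian subgroup of order 16;
* `KW_one` (KW₁): `|{u : [A1T, u] ≤ ⟨z⟩}| ≤ 2 ^ 8`;
* `mem_UT_of_A1T`, `mem_AA1T_of`: the elements that centralise `A1T` modulo `z`.
-/

set_option autoImplicit false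
set_option Elab.async false

namespace Cfsg.Agent.TitsK

open Cfsg.Lie Cfsg.Agent.ChevalleyStructure.TwF4.Tables
open Cfsg.Agent.FourTwo.Base hiding bar bar_lt
open Cfsg.Agent.FourTwo.BN Cfsg.Agent.FourTwo.Comm Cfsg.Agent.FourTwo.Classes
open Cfsg.Agent.FourTwo.UCode (mulU invU conjU lets colW colF force force_eq mem_lets wel_lets wel_mem)

/-! ### counting -/

theorem countP_lf (p : ℕ → Bool) (gs : List (ℕ × Bool)) (e : ℕ) (b : Bool) :
    ((lf gs e b).filter fun q => p q.1).length = cntP p gs e := by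
  induction gs generalizing e b with
  | nil =>
    rw [lf, cntP_nil]
    cases h : p e <;> simp [List.filter, h]
  | cons g gs ih =>
    rw [lf, List.filter_append, List.length_append, ih, ih, cntP_cons]

/-- a subgroup of `UT` all whose codes satisfy `p` -/
theorem card_le_cnt {B : Subgroup LL} (hB : B ≤ UT) {p : ℕ → Bool}
    (h : ∀ e, e < 2 ^ 24 → (ec e ∈ TT ↔ parB e = false) → ec e ∈ B → p e = true) :
    Nat.card ↥B ≤ cntP p gens12 0 := by
  rw [← countP_lf p gens12 0 false]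
  have h1 := card_le_of_codes (B := B) (L := ((lf gens12 0 false).filter fun q => p q.1).map Prod.fst) ?_
  · rwa [List.length_map] at h1
  · intro b hb
    obtain ⟨q, hq, rfl⟩ := exists_leaf (hB hb)
    refine ⟨q.1, ?_, rfl⟩
    rw [List.mem_map]
    refine ⟨q, ?_, rfl⟩
    rw [List.mem_filter]
    have h2 := leaf_par q hq
    refine ⟨hq, h q.1 h2.2 ?_ hb⟩
    rw [h2.1]
    exact (leaf_mem q hq).2

/-! ### (KF) -/

/-- **(KF)** a subgroup `B` of `ST` all whose squares lie in `A1T` has order less than `2 ^ 9` -/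
theorem KA_one {B : Subgroup LL} (hB : B ≤ UT ⊓ TT) (hsq : ∀ a ∈ B, a * a ∈ A1T) : Nat.card ↥B < 2 ^ 9 := by
  classical
  by_contra hc
  rw [not_lt] at hc
  -- the list of codes
  set L := ((lf gens12 0 false).filter fun q => pKA q.1).map Prod.fst with hL
  have hlen : L.length = 512 := by
    rw [hL, List.length_map, countP_lf, cnt_KA]
  have hp : ∀ e, e < 2 ^ 24 → (ec e ∈ TT ↔ parB e = false) → ec e ∈ B → pKA e = true := by
    intro e he hpar heB
    unfold pKA
    rw [hpar.1 (hB heB).2, cond_false]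
    obtain ⟨f, hf, h1⟩ := mem_A1T.1 (hsq _ heB)
    rw [← ec_mulU] at h1
    rw [ec_inj (mulU_lt he e) (LA1_lt f hf) h1]
    exact memB_of_mem hf
  have hsub : (B : Set LL) ⊆ (((L.map ec).toFinset : Finset LL) : Set LL) := by
    intro g hg
    obtain ⟨q, hq, rfl⟩ := exists_leaf (hB hg).1
    rw [Finset.mem_coe, List.mem_toFinset, List.mem_map]
    refine ⟨q.1, ?_, rfl⟩
    rw [hL, List.mem_map]
    refine ⟨q, ?_, rfl⟩
    rw [List.mem_filter]
    have h2 := leaf_par q hq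
    refine ⟨hq, hp q.1 h2.2 ?_ hg⟩
    rw [h2.1]
    exact (leaf_mem q hq).2
  have hcard : (((L.map ec).toFinset : Finset LL) : Set LL).ncard ≤ (B : Set LL).ncard := by
    have h2 : Nat.card ↥B = (B : Set LL).ncard := rfl
    rw [← h2, Set.ncard_coe_finset]
    refine (List.toFinset_card_le _).trans ?_
    rw [List.length_map, hlen]
    exact hc
  have heq := Set.eq_of_subset_of_ncard_le hsub hcard (Set.toFinite _)
  -- the codes 80 and 513
  have hmem : ∀ e, ec e ∈ UT → e < 2 ^ 24 → pKA e = true → ec e ∈ B := by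
    intro e heU he hpe
    have h1 : ec e ∈ (B : Set LL) := by
      rw [heq, Finset.mem_coe, List.mem_toFinset, List.mem_map]
      refine ⟨e, ?_, rfl⟩
      obtain ⟨q, hq, h3⟩ := exists_leaf heU
      have h4 := leaf_par q hq
      have h5 := ec_inj he h4.2 h3
      rw [hL, List.mem_map]
      refine ⟨q, ?_, h5.symm⟩
      rw [List.mem_filter]
      exact ⟨hq, by rw [← h5]; exact hpe⟩
    exact h1
  have h80 := hmem 80 ec80 (by norm_num) (by decide +kernel)
  have h513 := hmem 513 ec513 (by norm_num) (by decide +kernel)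
  have h6 := hsq _ (B.mul_mem h80 h513)
  rw [← ec_mulU, ← ec_mulU] at h6
  obtain ⟨f, hf, h7⟩ := mem_A1T.1 h6
  have h8 : (Nat.blt (mulU (mulU 80 513) (mulU 80 513)) 16777216 &&
      !memB (mulU (mulU 80 513) (mulU 80 513)) LA1) = true := by decide +kernel
  rw [Bool.and_eq_true, Nat.blt_eq, Bool.not_eq_true', ← Bool.not_eq_true] at h8
  apply h8.2
  rw [ec_inj h8.1 (LA1_lt f hf) h7]
  exact memB_of_mem hf

/-! ### (KW₁) -/

/-- **(KW₁)** -/
theorem KW_one {B : Subgroup LL} (hB : B ≤ UT)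
    (h : ∀ u ∈ B, ∀ a ∈ A1T, a * u * (a⁻¹ * u⁻¹) = 1 ∨ a * u * (a⁻¹ * u⁻¹) = z) : Nat.card ↥B ≤ 2 ^ 8 := by
  refine (card_le_cnt hB (p := pKW) ?_).trans (by rw [cnt_KW]; norm_num)
  intro e he _ heB
  unfold pKW
  rw [List.all_eq_true]
  intro c hc
  have h4 : ∀ c ∈ [8448, 540672, 2129920, 4259840], c ∈ LA1 ∧ c < 2 ^ 24 := by decide
  have h3 := h _ heB _ (mem_A1T.2 ⟨c, (h4 c hc).1, rfl⟩)
  have hlt : commU c e < 2 ^ 24 := mulU_lt (mulU_lt (h4 c hc).2 e) _
  rw [← ec_commU] at h3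
  rw [force_eq, Bool.or_eq_true]
  rcases h3 with h3 | h3
  · left
    rw [← ec_zero] at h3
    rw [ec_inj hlt (by norm_num) h3]
    rfl
  · right
    rw [ec_inj hlt (by norm_num) h3]
    rfl

/-! ### the elements that centralise `A1T` modulo `z` -/

theorem exists_conj_z1 : ∃ u ∈ UT, u * z1 * u⁻¹ = z * z1 := by
  refine ⟨ec 513, ec513, ?_⟩
  have h : conjU 513 4259840 = 13697024 := by decide +kernel
  rw [z_mul_z1, ← h, ec_conjU]
  rfl

theorem mem_UT_of_z_z1 {g : LL} (hg : g ∈ HT) (h : g * z * g⁻¹ = z) (h1 : g * z1 * g⁻¹ = z1 ∨ g * z1 * g⁻¹ = z1 * z) :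
    g ∈ UT := by
  rcases h1 with h1 | h1
  · exact cent_V_le hg h h1
  · obtain ⟨u, hu, h2⟩ := exists_conj_z1
    have hui := UT.inv_mem hu
    have h3 : u⁻¹ * g ∈ UT := by
      apply cent_V_le (HT.mul_mem hui.2 hg)
      · have e : u⁻¹ * g * z * (u⁻¹ * g)⁻¹ = u⁻¹ * (g * z * g⁻¹) * u⁻¹⁻¹ := by group
        rw [e, h, z_central hui]
      · have e : u⁻¹ * g * z1 * (u⁻¹ * g)⁻¹ = u⁻¹ * (g * z1 * g⁻¹) * u := by group
        rw [e, h1, z1_mul_z, ← z_mul_z1, ← h2]
        group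
    have e : g = u * (u⁻¹ * g) := by group
    rw [e]
    exact UT.mul_mem hu h3

/-- an element of `HT` that centralises `A1T` modulo `z` lies in `UT` -/
theorem mem_UT_of_A1T {g : LL} (hg : g ∈ HT) (h : ∀ a ∈ A1T, g * a * g⁻¹ = a ∨ g * a * g⁻¹ = a * z) : g ∈ UT := by
  have hz : z ∈ A1T := ⟨9437184, by decide, rfl⟩
  have hz1 : z1 ∈ A1T := ⟨4259840, by decide, rfl⟩
  refine mem_UT_of_z_z1 hg ?_ (h z1 hz1)
  rcases h z hz with h1 | h1
  · exact h1
  · exfalso
    rw [z_sq] at h1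
    apply z_ne
    have e : z = g⁻¹ * (g * z * g⁻¹) * g := by group
    rw [e, h1]
    group

/-- an element of `TT` that centralises `A1T` modulo `z` lies in `AA A1T` (of order `2 ^ 6`) -/
theorem mem_AA1T_of {g : LL} (hg : g ∈ TT) (h : ∀ a ∈ A1T, g * a * g⁻¹ = a ∨ g * a * g⁻¹ = a * z) : g ∈ AA1T := by
  refine cent_A1T_mod ⟨mem_UT_of_A1T (TT_le hg) h, hg⟩ fun a ha => ?_
  have haz : a * z = z * a := by
    have h1 := z_central (A1T_le ha).1
    rw [mul_inv_eq_iff_eq_mul] at h1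
    exact h1
  have e : a * g * (a⁻¹ * g⁻¹) = a * (g * a * g⁻¹)⁻¹ := by group
  rcases h a ha with h1 | h1
  · left
    rw [e, h1, mul_inv_cancel]
  · right
    rw [e, h1, haz, mul_inv_rev, z_inv, mul_inv_cancel_left]

end Cfsg.Agent.TitsK
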