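import Cfsg.Agent.TitsK.ParC

/-!
The element `rf` of `QQ`, the action of `jf`, irreducibility:

* `rf_q0`, …, `ajf`, `awf`, `tau_QQ`, `tau_rf`;
* `pr_mem`, `KA`, `KS`, `KW`, `xr`, `irr_AA`, `irr_QQ`.
-/

set_option autoImplicit false
set_option Elab.async false

namespace Cfsg.Agent.TitsK

open Cfsg.Lie Cfsg.Agent.ChevalleyStructure.TwF4.Tables
open Cfsg.Agent.FourTwo.Base hiding bar bar_lt
open Cfsg.Agent.FourTwo.BN Cfsg.Agent.FourTwo.Comm Cfsg.Agent.FourTwo.Classes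
open Cfsg.Agent.FourTwo.Par
open Cfsg.Agent.FourTwo.UCode (mulU invU conjU lets letsL letsL_cons lets_eq land_pow_eq_zero colW colF force force_eq
  mem_lets wel_lets wel_mem)
open Cfsg.Agent.TitsK.Abs

theorem rf_eq : rf = ec 1463845 := rfl

theorem inv_conj (a b : ℕ) : (ec a)⁻¹ * ec b * ec a = ec (conjU (invU a) b) := by
  rw [ec_conjU, ec_invU, inv_inv]

/-! ### the action of `rf` on the points -/

theorem rf_q0 : rf⁻¹ * qf 0 * rf = qf 0 * z := by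
  have h : conjU (invU 1463845) (qc 0) = mulU (qc 0) 9437184 := by decide +kernel
  rw [rf_eq]
  unfold qf z
  rw [inv_conj, h, ec_mulU]

theorem rf_q1 : rf⁻¹ * qf 1 * rf = qf 1 * z := by
  have h : conjU (invU 1463845) (qc 1) = mulU (qc 1) 9437184 := by decide +kernel
  rw [rf_eq]
  unfold qf z
  rw [inv_conj, h, ec_mulU]

theorem rf_q2 : rf⁻¹ * qf 2 * rf = qf 2 := by
  have h : conjU (invU 1463845) (qc 2) = qc 2 := by decide +kernel
  rw [rf_eq]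
  unfold qf
  rw [inv_conj, h]

theorem rf_q3 : rf⁻¹ * qf 3 * rf = qf 3 := by
  have h : conjU (invU 1463845) (qc 3) = qc 3 := by decide +kernel
  rw [rf_eq]
  unfold qf
  rw [inv_conj, h]

theorem rf_q4 : rf⁻¹ * qf 4 * rf = qf 4 := by
  have h : conjU (invU 1463845) (qc 4) = qc 4 := by decide +kernel
  rw [rf_eq]
  unfold qf
  rw [inv_conj, h]

/-! ### the action of `jf` -/

/-- `jf rf jf⁻¹ = rf ajf` -/
def ajf : LL := ec 806912
/-- type W -/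
def awf : LL := ec 9703424

theorem ajf_mem : ajf ∈ AA := ⟨806912, by decide, rfl⟩
theorem awf_mem : awf ∈ AA := ⟨9703424, by decide, rfl⟩

theorem tau_rf : jf * rf * jf⁻¹ = rf * ajf := by
  have h : conjU 1179680 1463845 = mulU 1463845 806912 := by decide +kernel
  rw [rf_eq]
  unfold jf ajf
  rw [← ec_conjU, h, ec_mulU]

theorem tau_QQ {a : LL} (ha : a ∈ QQ) : jf * a * jf⁻¹ * a⁻¹ ∈ AA := by
  have h := comm_Q8 jf_mem_Q8 (QQ_le_Q8 ha)
  have e : jf * a * jf⁻¹ * a⁻¹ = jf * a * (jf⁻¹ * a⁻¹) := by group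
  rw [e]
  exact h

theorem tau_AA {a : LL} (ha : a ∈ AA) : jf * a * jf⁻¹ = a := by
  rw [jf_comm_AA ha, mul_inv_cancel_right]

theorem tau_z : jf * z * jf⁻¹ = z := tau_AA z_mem_AA

theorem tau_xf : jf * xf * jf⁻¹ = xf := by rw [jf_comm_xf, mul_inv_cancel_right]

theorem tau_sf : jf * sf * jf⁻¹ = sf := by rw [← sf_comm_jf, mul_inv_cancel_right]

/-! ### conjugation by powers of `xf` -/

/-- code of `xf ^ k a xf ^ (-k)` -/
def xkE : ℕ → ℕ → ℕ
  | 0, e => e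
  | k + 1, e => xfE (xkE k e)

theorem xk_conj {e : ℕ} (he : ec e ∈ Q8) : ∀ k : ℕ, xf ^ k * ec e * (xf ^ k)⁻¹ = ec (xkE k e) ∧ ec (xkE k e) ∈ Q8
  | 0 => ⟨by
      rw [pow_zero, inv_one, one_mul, mul_one]
      rfl, he⟩
  | k + 1 => by
    obtain ⟨h1, h2⟩ := xk_conj he k
    refine ⟨?_, xf_conj_Q8' h2⟩
    have e : xf ^ (k + 1) * ec e * (xf ^ (k + 1))⁻¹ = xf * (xf ^ k * ec e * (xf ^ k)⁻¹) * xf⁻¹ := by
      rw [pow_succ']
      group
    rw [e, h1, xf_conj h2]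
    rfl

theorem xk_conj' {e : ℕ} (he : ec e ∈ Q8) (k : ℕ) : xf ^ k * ec e * (xf ^ k)⁻¹ = ec (xkE k e) := (xk_conj he k).1

theorem xkE_lt {e : ℕ} (he : e < 2 ^ 24) : ∀ k : ℕ, xkE k e < 2 ^ 24
  | 0 => he
  | k + 1 => conjU_lt (by norm_num) _

theorem xfE_lt (e : ℕ) : xfE e < 2 ^ 24 := conjU_lt (by norm_num) _

/-- `(xf ^ 3)⁻¹ a xf ^ 3 = xf ^ 2 a xf ^ (-2)` -/
theorem xf3_inv {e : ℕ} (he : ec e ∈ Q8) : (xf ^ 3)⁻¹ * ec e * xf ^ 3 = ec (xkE 2 e) := by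
  rw [← xk_conj' he 2]
  have h : (xf ^ 3)⁻¹ = xf ^ 2 := by
    rw [inv_eq_iff_mul_eq_one, ← pow_add]
    exact xf_pow5
  have h' : xf ^ 3 = (xf ^ 2)⁻¹ := by rw [← h, inv_inv]
  rw [h, ← h', h']

/-- `(xf ^ 4)⁻¹ a xf ^ 4 = xf a xf⁻¹` -/
theorem xf4_inv {e : ℕ} (he : ec e ∈ Q8) : (xf ^ 4)⁻¹ * ec e * xf ^ 4 = ec (xkE 1 e) := by
  rw [← xk_conj' he 1]
  have h : (xf ^ 4)⁻¹ = xf ^ 1 := by
    rw [inv_eq_iff_mul_eq_one, ← pow_add]
    exact xf_pow5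
  have h' : xf ^ 4 = (xf ^ 1)⁻¹ := by rw [← h, inv_inv]
  rw [h, ← h', h']

theorem rf_mem_Q8 : ec 1463845 ∈ Q8 := QQ_le_Q8 rf_mem

/-! ### `pr` -/

/-- code of the product of the conjugates -/
def prE (e : ℕ) : ℕ := mulU (mulU (mulU (mulU e (xkE 1 e)) (xkE 2 e)) (xkE 3 e)) (xkE 4 e)

theorem pr_eq {e : ℕ} (he : ec e ∈ Q8) : ec e * (xf * ec e * xf⁻¹) * (xf ^ 2 * ec e * (xf ^ 2)⁻¹) *
    (xf ^ 3 * ec e * (xf ^ 3)⁻¹) * (xf ^ 4 * ec e * (xf ^ 4)⁻¹) = ec (prE e) := by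
  have h1 := xk_conj' he 1
  rw [pow_one] at h1
  unfold prE
  rw [h1, xk_conj' he 2, xk_conj' he 3, xk_conj' he 4, ← ec_mulU, ← ec_mulU, ← ec_mulU, ← ec_mulU]

theorem pr_mem : rf * (xf * rf * xf⁻¹) * (xf ^ 2 * rf * (xf ^ 2)⁻¹) * (xf ^ 3 * rf * (xf ^ 3)⁻¹) *
    (xf ^ 4 * rf * (xf ^ 4)⁻¹) ∈ AA := by
  have h : A32.contains (prE 1463845) = true := by decide +kernel
  rw [rf_eq, pr_eq rf_mem_Q8]
  exact ⟨_, List.contains_iff_mem.1 h, rfl⟩

/-! ### `xr` -/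

theorem xr {k : ℕ} (h : xf ^ k * rf * (xf ^ k)⁻¹ * rf⁻¹ ∈ AA) : xf ^ k = 1 := by
  have h1 : xf ^ k = xf ^ (k % 5) := by
    conv_lhs => rw [← Nat.div_add_mod k 5, pow_add, pow_mul, xf_pow5, one_pow, one_mul]
  rw [h1] at h ⊢
  have h2 : k % 5 < 5 := Nat.mod_lt _ (by norm_num)
  generalize k % 5 = m at *
  rw [rf_eq, xk_conj' rf_mem_Q8, ← ec_invU, ← ec_mulU] at h
  obtain ⟨e, he, h3⟩ := h
  have hlt : ∀ e ∈ A32, e < 2 ^ 24 := by decide
  have h4 := ec_inj (mulU_lt (xkE_lt (by norm_num) m) _) (hlt e he) h3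
  have h5 : ∀ m < 5, A32.contains (mulU (xkE m 1463845) (invU 1463845)) = true → m = 0 := by decide +kernel
  have h6 := h5 m h2 (by rw [h4]; exact List.contains_iff_mem.2 he)
  rw [h6, pow_zero]

/-! ### the automorphisms of `EE` -/

theorem KA_ok : (A32.all fun a => [0, 806912, 9703424, 9977856].contains a || !(
    Nat.beq (mulU (mulU 1463845 a) (mulU 1463845 a)) (mulU 1463845 1463845) &&
    (([1, 2, 3, 4].all fun k => Nat.beq (commU (mulU 1463845 a) (xkE k (mulU 1463845 a)))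
      (commU 1463845 (xkE k 1463845))) &&
    Nat.beq (prE (mulU 1463845 a)) (prE 1463845)))) = true := by decide +kernel

theorem KA {a : LL} (ha : a ∈ AA) (h1 : rf * a * (rf * a) = rf * rf)
    (h2 : ∀ k : ℕ, rf * a * (xf ^ k * (rf * a) * (xf ^ k)⁻¹) * ((rf * a)⁻¹ * (xf ^ k * (rf * a) * (xf ^ k)⁻¹)⁻¹) =
      rf * (xf ^ k * rf * (xf ^ k)⁻¹) * (rf⁻¹ * (xf ^ k * rf * (xf ^ k)⁻¹)⁻¹))
    (h3 : rf * a * (xf * (rf * a) * xf⁻¹) * (xf ^ 2 * (rf * a) * (xf ^ 2)⁻¹) *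
      (xf ^ 3 * (rf * a) * (xf ^ 3)⁻¹) * (xf ^ 4 * (rf * a) * (xf ^ 4)⁻¹) =
      rf * (xf * rf * xf⁻¹) * (xf ^ 2 * rf * (xf ^ 2)⁻¹) * (xf ^ 3 * rf * (xf ^ 3)⁻¹) * (xf ^ 4 * rf * (xf ^ 4)⁻¹)) :
    a = 1 ∨ a = ajf ∨ a = awf ∨ a = ajf * awf := by
  have haQ := AA_le_Q8 ha
  obtain ⟨e, he, rfl⟩ := ha
  have hraQ : ec (mulU 1463845 e) ∈ Q8 := by
    rw [ec_mulU]
    exact Q8.mul_mem rf_mem_Q8 haQ
  rw [rf_eq, ← ec_mulU] at h1 h2 h3
  have hlt : mulU 1463845 e < 2 ^ 24 := mulU_lt (by norm_num) _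
  rw [← ec_mulU, ← ec_mulU] at h1
  have k1 := ec_inj (mulU_lt hlt _) (mulU_lt (by norm_num) _) h1
  have k2 : ∀ k : ℕ, commU (mulU 1463845 e) (xkE k (mulU 1463845 e)) = commU 1463845 (xkE k 1463845) := by
    intro k
    have h4 := h2 k
    rw [xk_conj' hraQ, xk_conj' rf_mem_Q8, ← ec_commU, ← ec_commU] at h4
    exact ec_inj (mulU_lt (mulU_lt hlt _) _) (mulU_lt (mulU_lt (by norm_num) _) _) h4
  rw [pr_eq hraQ, pr_eq rf_mem_Q8] at h3
  have k3 : prE (mulU 1463845 e) = prE 1463845 :=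
    ec_inj (mulU_lt (mulU_lt (mulU_lt (mulU_lt hlt _) _) _) _)
      (mulU_lt (mulU_lt (mulU_lt (mulU_lt (by norm_num) _) _) _) _) h3
  have h5 := KA_ok
  rw [List.all_eq_true] at h5
  have h6 := h5 e he
  rw [Bool.or_eq_true] at h6
  rcases h6 with h6 | h6
  · rw [List.contains_iff_mem] at h6
    simp only [List.mem_cons, List.not_mem_nil, or_false] at h6
    rcases h6 with rfl | rfl | rfl | rfl
    · exact Or.inl ec_zero
    · exact Or.inr (Or.inl rfl)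
    · exact Or.inr (Or.inr (Or.inl rfl))
    · right; right; right
      have h : mulU 806912 9703424 = 9977856 := by decide +kernel
      unfold ajf awf
      rw [← ec_mulU, h]
  · exfalso
    rw [Bool.not_eq_true', ← Bool.not_eq_true] at h6
    apply h6
    rw [Bool.and_eq_true, Bool.and_eq_true, List.all_eq_true]
    refine ⟨?_, ?_, ?_⟩
    · rw [k1]
      exact Nat.beq_refl _
    · intro k _
      rw [k2 k]
      exact Nat.beq_refl _
    · rw [k3]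
      exact Nat.beq_refl _

/-- `sf rf sf⁻¹` as a word -/
theorem KS : ∃ a ∈ AA, sf * rf * sf⁻¹ = (xf ^ 3)⁻¹ * rf * xf ^ 3 * ((xf ^ 4)⁻¹ * rf * xf ^ 4) * a := by
  have h : A32.contains (mulU (invU (mulU (xkE 2 1463845) (xkE 1 1463845))) (conjU 1179754 1463845)) = true := by
    decide +kernel
  refine ⟨ec (mulU (invU (mulU (xkE 2 1463845) (xkE 1 1463845))) (conjU 1179754 1463845)),
    ⟨_, List.contains_iff_mem.1 h, rfl⟩, ?_⟩
  rw [rf_eq, xf3_inv rf_mem_Q8, xf4_inv rf_mem_Q8, sf_eq, ← ec_conjU, ec_mulU, ec_invU, ec_mulU]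
  group

theorem KW_ok : ([9703424, 9977856].all fun a => !Nat.beq (conjU 1179754 a)
    (mulU (mulU (mulU (invU (xkE 1 1463845)) (xkE 2 a)) (xkE 1 1463845)) (xkE 1 a))) = true := by decide +kernel

theorem KW {a : LL} (ha : a = awf ∨ a = ajf * awf) :
    sf * a * sf⁻¹ ≠ ((xf ^ 4)⁻¹ * rf * xf ^ 4)⁻¹ * ((xf ^ 3)⁻¹ * a * xf ^ 3) * ((xf ^ 4)⁻¹ * rf * xf ^ 4) *
      ((xf ^ 4)⁻¹ * a * xf ^ 4) := by
  have key : ∀ e ∈ [9703424, 9977856], ec e ∈ AA → sf * ec e * sf⁻¹ ≠ ((xf ^ 4)⁻¹ * rf * xf ^ 4)⁻¹ *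
      ((xf ^ 3)⁻¹ * ec e * xf ^ 3) * ((xf ^ 4)⁻¹ * rf * xf ^ 4) * ((xf ^ 4)⁻¹ * ec e * xf ^ 4) := by
    intro e he hA h
    have hQ := AA_le_Q8 hA
    rw [rf_eq, xf4_inv rf_mem_Q8, xf3_inv hQ, xf4_inv hQ, sf_eq, ← ec_conjU, ← ec_invU, ← ec_mulU, ← ec_mulU,
      ← ec_mulU] at h
    have h1 := ec_inj (conjU_lt (by norm_num) _) (mulU_lt (mulU_lt (mulU_lt (invU_lt _) _) _) _) h
    have h2 := KW_ok
    rw [List.all_eq_true] at h2
    have h3 := h2 e he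
    rw [h1, Bool.not_eq_true', ← Bool.not_eq_true] at h3
    exact h3 (Nat.beq_refl _)
  rcases ha with rfl | rfl
  · exact key 9703424 (by decide) awf_mem
  · have h : mulU 806912 9703424 = 9977856 := by decide +kernel
    have e : ajf * awf = ec 9977856 := by
      unfold ajf awf
      rw [← ec_mulU, h]
    rw [e]
    exact key 9977856 (by decide) ⟨9977856, by decide, rfl⟩

/-! ### irreducibility -/

theorem pow_conj_aux {G : Type*} [Group G] {B : Subgroup G} {x : G} (h5 : x ^ 5 = 1) (h : ∀ b ∈ B, x⁻¹ * b * x ∈ B)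
    {b : G} (hb : b ∈ B) : x * b * x⁻¹ ∈ B := by
  have h1 := h _ (h _ (h _ (h _ hb)))
  have e : x⁻¹ * (x⁻¹ * (x⁻¹ * (x⁻¹ * b * x) * x) * x) * x = (x ^ 4)⁻¹ * b * x ^ 4 := by
    simp only [pow_succ, pow_zero, one_mul, mul_assoc, mul_inv_rev]
  have e4 : x ^ 4 = x⁻¹ := by
    rw [eq_inv_iff_mul_eq_one, ← pow_succ]
    exact h5
  rw [e, e4, inv_inv] at h1
  exact h1

theorem pairs_mem {H : Subgroup LL} {L : List ℕ} (h : ∀ c ∈ L, ec c ∈ H) :
    ∀ g ∈ L.map (fun c => ((c, false) : ℕ × Bool)), ec g.1 ∈ H := by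
  intro g hg
  rw [List.mem_map] at hg
  obtain ⟨c, hc, rfl⟩ := hg
  exact h c hc

theorem lf_mem_of {H : Subgroup LL} {L : List ℕ} (h : ∀ c ∈ L, ec c ∈ H) :
    ∀ q ∈ lf (L.map (fun c => ((c, false) : ℕ × Bool))) 0 false, ec q.1 ∈ H :=
  lf_induct (P := fun g => g ∈ H) (fun _ g hg ha => H.mul_mem ha (pairs_mem h g hg)) (by rw [ec_zero]; exact H.one_mem)

theorem irrA_ok : (A32.all fun e => Nat.beq e 0 || (Nat.beq e 9437184 || gA.all fun g =>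
    ((lf ([9437184, e, xkE 1 e, xkE 2 e, xkE 3 e].map fun c => ((c, false) : ℕ × Bool)) 0 false).map
      Prod.fst).contains g.1)) = true := by decide +kernel

/-- `AA / z` is irreducible under `xf` -/
theorem irr_AA {B : Subgroup LL} (hz : z ∈ B) (hB : B ≤ AA) (hx : ∀ b ∈ B, xf⁻¹ * b * xf ∈ B)
    (hb : ∃ b ∈ B, b ≠ 1 ∧ b ≠ z) : AA ≤ B := by
  obtain ⟨b, hb, h1, h2⟩ := hb
  have hQ := AA_le_Q8 (hB hb)
  obtain ⟨e, he, rfl⟩ := hB hb
  have h3 := irrA_ok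
  rw [List.all_eq_true] at h3
  have h4 := h3 e he
  rw [Bool.or_eq_true, Bool.or_eq_true, List.all_eq_true] at h4
  rcases h4 with h4 | h4 | h4
  · exfalso
    apply h1
    rw [Nat.eq_of_beq_eq_true h4, ec_zero]
  · exfalso
    apply h2
    rw [Nat.eq_of_beq_eq_true h4]
    rfl
  · have hx' : ∀ b ∈ B, xf * b * xf⁻¹ ∈ B := fun b hb => pow_conj_aux (G := LL) (x := xf) xf_pow5 hx hb
    have hk : ∀ k : ℕ, ec (xkE k e) ∈ B := by
      intro k
      induction k with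
      | zero => exact hb
      | succ k ih =>
        have h := hx' _ ih
        rw [xf_conj (xk_conj hQ k).2] at h
        exact h
    refine AA_le_of fun g hg => ?_
    have h5 := h4 g hg
    rw [List.contains_iff_mem, List.mem_map] at h5
    obtain ⟨q, hq, h6⟩ := h5
    rw [← h6]
    refine lf_mem_of (L := [9437184, e, xkE 1 e, xkE 2 e, xkE 3 e]) ?_ q hq
    intro c hc
    rw [List.mem_cons, List.mem_cons, List.mem_cons, List.mem_cons, List.mem_singleton] at hc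
    rcases hc with hc | hc | hc | hc | hc
    · rw [hc]; exact hz
    · rw [hc]; exact hb
    · rw [hc]; exact hk 1
    · rw [hc]; exact hk 2
    · rw [hc]; exact hk 3

/-- the code of an element of `AA`, for codes of `QQ` -/
def aB (e : ℕ) : Bool := Nat.beq (Nat.mod e 4096) 0

theorem aB_ok : allG gQ (fun e => aB e == A32.contains e) = true := by decide +kernel

theorem mem_AA_iff_aB {e : ℕ} (h : ec e ∈ QQ) (he : e < 2 ^ 24) : ec e ∈ AA ↔ aB e = true := by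
  obtain ⟨f, hf, h1, h2⟩ := QQ_allG aB_ok h
  have h3 := ec_inj he hf h1
  subst h3
  rw [beq_iff_eq] at h2
  rw [h2, List.contains_iff_mem]
  constructor
  · rintro ⟨e', he', h4⟩
    have hlt : ∀ e ∈ A32, e < 2 ^ 24 := by decide
    rw [ec_inj he (hlt e' he') h4]
    exact he'
  · exact fun h => ⟨_, h, rfl⟩

theorem irrQ_ok : allG gQ (fun e => cond (aB e) true (force (xfE e) fun e1 => force (xfE e1) fun e2 =>
    force (xfE e2) fun e3 => gQ.all fun g => !allG ([e, e1, e2, e3].map fun c => ((c, false) : ℕ × Bool)) fun p =>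
      !aB (mulU (invU p) g.1))) = true := by decide +kernel

theorem allP_false {p : ℕ → Bool → Bool} {gs : List (ℕ × Bool)} {e : ℕ} {b : Bool} (h : allP p gs e b = false) :
    ∃ q ∈ lf gs e b, p q.1 q.2 = false := by
  induction gs generalizing e b with
  | nil => exact ⟨(e, b), by rw [lf, List.mem_singleton], h⟩
  | cons g gs ih =>
    rw [allP_cons, Bool.and_eq_false_iff] at h
    rcases h with h | h
    · obtain ⟨q, hq, h1⟩ := ih h
      exact ⟨q, by rw [lf, List.mem_append]; exact Or.inl hq, h1⟩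
    · obtain ⟨q, hq, h1⟩ := ih h
      exact ⟨q, by rw [lf, List.mem_append]; exact Or.inr hq, h1⟩

/-- `QQ / AA` is irreducible under `xf` -/
theorem irr_QQ {B : Subgroup LL} (hA : AA ≤ B) (hB : B ≤ QQ) (hx : ∀ b ∈ B, xf⁻¹ * b * xf ∈ B)
    (hb : ∃ b ∈ B, b ∉ AA) : QQ ≤ B := by
  obtain ⟨b, hb, h1⟩ := hb
  have hQQ := hB hb
  have hQ := QQ_le_Q8 hQQ
  obtain ⟨e, he, rfl, h2⟩ := QQ_allG irrQ_ok hQQ
  rw [mem_AA_iff_aB hQQ he, Bool.not_eq_true] at h1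
  rw [h1, cond_false, force_eq, force_eq, force_eq, List.all_eq_true] at h2
  have hx' : ∀ b ∈ B, xf * b * xf⁻¹ ∈ B := fun b hb => pow_conj_aux (G := LL) (x := xf) xf_pow5 hx hb
  have m1 : ec (xfE e) ∈ B := by
    rw [← xf_conj hQ]
    exact hx' _ hb
  have m2 : ec (xfE (xfE e)) ∈ B := by
    rw [← xf_conj (xf_conj_Q8' hQ)]
    exact hx' _ m1
  have m3 : ec (xfE (xfE (xfE e))) ∈ B := by
    rw [← xf_conj (xf_conj_Q8' (xf_conj_Q8' hQ))]
    exact hx' _ m2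
  refine QQ_le_of fun g hg => ?_
  have h3 := h2 g hg
  rw [Bool.not_eq_true'] at h3
  obtain ⟨q, hq, h4⟩ := allP_false h3
  have h5 : aB (mulU (invU q.1) g.1) = true := by
    have h6 : (!aB (mulU (invU q.1) g.1)) = false := h4
    rw [Bool.not_eq_false'] at h6
    exact h6
  have hqB : ec q.1 ∈ B := by
    refine lf_mem_of (L := [e, xfE e, xfE (xfE e), xfE (xfE (xfE e))]) ?_ q hq
    intro c hc
    rw [List.mem_cons, List.mem_cons, List.mem_cons, List.mem_singleton] at hc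
    rcases hc with hc | hc | hc | hc
    · rw [hc]; exact hb
    · rw [hc]; exact m1
    · rw [hc]; exact m2
    · rw [hc]; exact m3
  have h7 : ec (mulU (invU q.1) g.1) ∈ QQ := by
    rw [ec_mulU, ec_invU]
    exact QQ.mul_mem (QQ.inv_mem (hB hqB)) (gQ_mem g hg)
  have h8 := hA ((mem_AA_iff_aB h7 (mulU_lt (invU_lt _) _)).2 h5)
  rw [ec_mulU, ec_invU] at h8
  have h9 := B.mul_mem hqB h8
  rw [mul_inv_cancel_left] at h9
  exact h9

end Cfsg.Agent.TitsK
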