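import Cfsg.Agent.TitsK.KG
import Cfsg.Agent.TitsK.ParD
import Cfsg.Agent.TitsK.KThree

/-!
**The K-facts of the Tits group and of `²F₄(2)`**: `ktT : KT ↥TT`, `ktH : KT ↥HT`.
-/

set_option autoImplicit false
set_option Elab.async false

namespace Cfsg.Agent.TitsK

open Cfsg.Lie Cfsg.Agent.ChevalleyStructure.TwF4.Tables
open Cfsg.Agent.FourTwo.Base hiding bar bar_lt
open Cfsg.Agent.OddHalf.D7Tits.Defs

theorem mem_Pz_iff {y : LL} (hy : y ∈ HT) : y ∈ Pz ↔ y * z = z * y := by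
  rw [mem_Pz, mul_inv_eq_iff_eq_mul]
  exact ⟨fun h => h.2, fun h => ⟨hy, h⟩⟩

/-- the facts which hold for both `TT` and `HT` -/
theorem jf_pow_cases (l : ℕ) : (∃ m : ℕ, jf ^ l = z ^ m) ∨ jf ^ l ∉ TT := by
  obtain ⟨m, rfl | rfl⟩ := l.even_or_odd'
  · left
    refine ⟨m, ?_⟩
    rw [pow_mul, pow_two, jf_sq]
  · right
    intro h
    rw [pow_succ, pow_mul, pow_two, jf_sq] at h
    apply jf_not_mem
    have h1 := TT.mul_mem (TT.inv_mem (TT.pow_mem z_mem_TT m)) h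
    rw [inv_mul_cancel_left] at h1
    exact h1

theorem jf_pow_of_mem {g : LL} (hg : g ∈ TT) {l : ℕ} (h : g * jf ^ l ∈ TT) : ∃ m : ℕ, jf ^ l = z ^ m := by
  rcases jf_pow_cases l with h1 | h1
  · exact h1
  · exfalso
    apply h1
    have h2 := TT.mul_mem (TT.inv_mem hg) h
    rw [inv_mul_cancel_left] at h2
    exact h2

theorem z_pow_mem_QQ (m : ℕ) : z ^ m ∈ QQ := QQ.pow_mem z_mem_QQ m

theorem z_pow_comm {p : LL} (hp : p ∈ Pz) (m : ℕ) : p * z ^ m = z ^ m * p := by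
  induction m with
  | zero => rw [pow_zero, mul_one, one_mul]
  | succ m ih =>
    have h := (mem_Pz_iff (Pz_le_HT hp)).1 hp
    rw [pow_succ, ← mul_assoc, ih, mul_assoc, h, mul_assoc]

theorem Pz_cases_T {p : LL} (hp : p ∈ Pz ⊓ TT) : ∃ e ∈ EE, ∃ k : ℕ, p = e * sf ^ k := by
  obtain ⟨e, he, k, l, h⟩ := Pz_cases hp.1
  have hs := TT.mul_mem (EE_le_TT he) (TT.pow_mem sf_mem_TT k)
  have h1 : e * sf ^ k * jf ^ l ∈ TT := by
    rw [← h]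
    exact hp.2
  obtain ⟨m, hm⟩ := jf_pow_of_mem hs h1
  refine ⟨e * z ^ m, EE.mul_mem he (QQ_le_EE (z_pow_mem_QQ m)), k, ?_⟩
  rw [h, hm, mul_assoc, z_pow_comm (Pz.pow_mem sf_mem_Pz k) m, ← mul_assoc]

theorem UT_cases_T {p : LL} (hp : p ∈ UT ⊓ TT) : ∃ e ∈ QQ, ∃ k : ℕ, p = e * sf ^ k := by
  obtain ⟨e, he, k, l, h⟩ := UT_cases hp.1
  have hs := TT.mul_mem (QQ_le_TT he) (TT.pow_mem sf_mem_TT k)
  have h1 : e * sf ^ k * jf ^ l ∈ TT := by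
    rw [← h]
    exact hp.2
  obtain ⟨m, hm⟩ := jf_pow_of_mem hs h1
  refine ⟨e * z ^ m, QQ.mul_mem he (z_pow_mem_QQ m), k, ?_⟩
  rw [h, hm, mul_assoc, z_pow_comm (Pz.pow_mem sf_mem_Pz k) m, ← mul_assoc]

theorem sq_EE_T {p : LL} (hp : p ∈ Pz ⊓ TT) (hpp : p * p ∈ EE) : ∃ e ∈ EE, p = e ∨ p = e * (sf * sf) := by
  obtain ⟨e, he, l, h⟩ := sq_EE hp.1 hpp
  rcases h with h | h
  · have h1 : e * jf ^ l ∈ TT := by
      rw [← h]
      exact hp.2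
    obtain ⟨m, hm⟩ := jf_pow_of_mem (EE_le_TT he) h1
    refine ⟨e * z ^ m, EE.mul_mem he (QQ_le_EE (z_pow_mem_QQ m)), Or.inl ?_⟩
    rw [h, hm]
  · have hs := TT.mul_mem (EE_le_TT he) (TT.mul_mem sf_mem_TT sf_mem_TT)
    have h1 : e * (sf * sf) * jf ^ l ∈ TT := by
      rw [← h]
      exact hp.2
    obtain ⟨m, hm⟩ := jf_pow_of_mem hs h1
    refine ⟨e * z ^ m, EE.mul_mem he (QQ_le_EE (z_pow_mem_QQ m)), Or.inr ?_⟩
    rw [h, hm, mul_assoc, z_pow_comm (Pz.mul_mem sf_mem_Pz sf_mem_Pz) m, ← mul_assoc]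

theorem cent_xf_T {p : LL} (hp : p ∈ Pz ⊓ TT) (h : p * xf = xf * p) : ∃ k l : ℕ, p = xf ^ k * z ^ l := by
  obtain ⟨k, l, m, h1⟩ := cent_xf hp.1 h
  have hs := TT.mul_mem (TT.pow_mem xf_mem_TT k) (TT.pow_mem z_mem_TT l)
  have h2 : xf ^ k * z ^ l * jf ^ m ∈ TT := by
    rw [← h1]
    exact hp.2
  obtain ⟨n, hn⟩ := jf_pow_of_mem hs h2
  refine ⟨k, l + n, ?_⟩
  rw [h1, hn, mul_assoc, ← pow_add]

theorem cent_AA_T {y : LL} (hy : y ∈ TT) (h : ∀ a ∈ AA, y * a = a * y) : y ∈ AA := by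
  rcases cent_AA (TT_le hy) h with h1 | h1
  · exact h1
  · exfalso
    apply jf_not_mem
    have h2 := TT.mul_mem (AA_le_TT h1) (TT.inv_mem hy)
    rw [mul_inv_cancel_right] at h2
    exact h2

theorem cube_aux {G : Type*} [Group G] {y j : G} (h : j * (j * y) = j * y * j) (h4 : j ^ 4 = 1) :
    y = j * y * j ^ 3 := by
  have h1 : j * y = y * j := by
    have e := congrArg (fun w => j⁻¹ * w) h
    simpa [mul_assoc] using e
  rw [h1, mul_assoc, ← pow_succ', h4, mul_one]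

theorem cent_AA_H {y : LL} (hy : y ∈ HT) (h : ∀ a ∈ AA, y * a = a * y) : ∃ a ∈ AA, ∃ l : ℕ, y = a * jf ^ l := by
  rcases cent_AA hy h with h1 | h1
  · exact ⟨y, h1, 0, by rw [pow_zero, mul_one]⟩
  · refine ⟨jf * y, h1, 3, ?_⟩
    have h2 := jf_comm_AA h1
    exact cube_aux (G := LL) (y := y) (j := jf) h2 jf_pow4

theorem EE_le_closure_T : EE ≤ Subgroup.closure {p | p ∈ Pz ⊓ TT ∧ p ^ 5 = 1} := by
  refine EE_le_closure.trans (Subgroup.closure_mono ?_)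
  rintro p ⟨h1, h2⟩
  exact ⟨⟨h1, EE_le_TT (mem_EE_of_pow5 h1 h2)⟩, h2⟩

theorem A1T_conj {a : LL} (ha : a ∈ A1T) : ∃ g ∈ TT, g⁻¹ * a * g ∈ AA := by
  obtain ⟨t, ht, h⟩ := conj_AA (A1T_le ha) (sq_A1T ha)
  refine ⟨t⁻¹, TT.inv_mem ht, ?_⟩
  rw [inv_inv]
  exact h

theorem comm_A1T_aux {a u : LL} (h : a * u * a⁻¹ * u⁻¹ = 1 ∨ a * u * a⁻¹ * u⁻¹ = z) :
    a * u * (a⁻¹ * u⁻¹) = 1 ∨ a * u * (a⁻¹ * u⁻¹) = z := by
  rw [← mul_assoc]
  exact h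

theorem jf_conj_inv {y : LL} (hy : y ∈ HT) : jf⁻¹ * y * jf ∈ HT :=
  HT.mul_mem (HT.mul_mem (HT.inv_mem jf_mem_HT) hy) jf_mem_HT

theorem jf_conj_inv_T {y : LL} (hy : y ∈ TT) : jf⁻¹ * y * jf ∈ TT := by
  have h := TT_conj (HT.inv_mem jf_mem_HT) hy
  rw [inv_inv] at h
  exact h

theorem ST_isPGroup : IsPGroup 2 ↥(UT ⊓ TT : Subgroup LL) := isPGroup_UT.to_le inf_le_left

theorem sf_conj' : sf⁻¹ * xf * sf = xf * xf := by
  rw [sf_conj, pow_two]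

theorem KA' {a : LL} (ha : a ∈ AA) (h1 : rf * a * (rf * a) = rf * rf)
    (h2 : ∀ k : ℕ, rf * a * (xf ^ k * (rf * a) * (xf ^ k)⁻¹) * (rf * a)⁻¹ * (xf ^ k * (rf * a) * (xf ^ k)⁻¹)⁻¹ =
      rf * (xf ^ k * rf * (xf ^ k)⁻¹) * rf⁻¹ * (xf ^ k * rf * (xf ^ k)⁻¹)⁻¹)
    (h3 : rf * a * (xf * (rf * a) * xf⁻¹) * (xf ^ 2 * (rf * a) * (xf ^ 2)⁻¹) *
      (xf ^ 3 * (rf * a) * (xf ^ 3)⁻¹) * (xf ^ 4 * (rf * a) * (xf ^ 4)⁻¹) =
      rf * (xf * rf * xf⁻¹) * (xf ^ 2 * rf * (xf ^ 2)⁻¹) * (xf ^ 3 * rf * (xf ^ 3)⁻¹) * (xf ^ 4 * rf * (xf ^ 4)⁻¹)) :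
    a = 1 ∨ a = ajf ∨ a = awf ∨ a = ajf * awf := by
  refine KA ha h1 (fun k => ?_) h3
  have h4 := h2 k
  rw [mul_assoc (rf * a * (xf ^ k * (rf * a) * (xf ^ k)⁻¹)) (rf * a)⁻¹,
    mul_assoc (rf * (xf ^ k * rf * (xf ^ k)⁻¹)) rf⁻¹] at h4
  exact h4

theorem tau_jf : jf * jf * jf⁻¹ = jf := by rw [mul_inv_cancel_right]

/-- the K-facts of the Tits group in `F₄(2)` -/
noncomputable def kgT : KG (G := LL) TT where
  z := z
  x := xf
  s := sf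
  j := 1
  q := qf
  r := rf
  aj := ajf
  aw := awf
  t := jf
  U := UT ⊓ TT
  P := Pz ⊓ TT
  Q := QQ
  A := AA
  E := EE
  A₁ := A1T
  fin := inferInstance
  P_le := inf_le_right
  t_conj := fun y hy => TT_conj jf_mem_HT hy
  t_conj' := fun y hy => jf_conj_inv_T hy
  zz := z_sq
  z1 := z_ne
  mem_P := fun y hy => by
    rw [Subgroup.mem_inf, mem_Pz_iff (TT_le hy)]
    exact ⟨fun h => h.1, fun h => ⟨h, hy⟩⟩
  z_A := z_mem_AA
  A_le_Q := AA_le_QQ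
  Q_le_E := QQ_le_EE
  E_le_P := le_inf EE_le_Pz EE_le_TT
  Q_le_U := le_inf QQ_le_UT QQ_le_TT
  U_le_P := inf_le_inf_right _ UT_le_Pz
  x_E := xf_mem_EE
  s_U := ⟨sf_mem, sf_mem_TT⟩
  j_U := Subgroup.one_mem _
  r_Q := rf_mem
  q_A := qf_mem
  card_A := card_AA
  card_Q := card_QQ
  sq_A := fun _ ha => AA_sq ha
  x5 := xf_pow5
  x1 := xf_ne
  s4 := sf_pow4
  x_s := sf_conj'
  j_or := Or.inl rfl
  nor_A := fun _ hp _ ha => Pz_conj_AA hp.1 ha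
  nor_Q := fun _ hp _ ha => Pz_conj_QQ hp.1 ha
  nor_E := fun _ hp _ ha => Pz_conj_EE hp.1 ha
  E_cases := fun _ he => EE_cases he
  P_cases := fun p hp => by
    obtain ⟨e, he, k, h⟩ := Pz_cases_T hp
    exact ⟨e, he, k, 0, by rw [pow_zero, mul_one]; exact h⟩
  U_cases := fun p hp => by
    obtain ⟨e, he, k, h⟩ := UT_cases_T hp
    exact ⟨e, he, k, 0, by rw [pow_zero, mul_one]; exact h⟩
  sq_E := fun p hp hpp => by
    obtain ⟨e, he, h⟩ := sq_EE_T hp hpp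
    exact ⟨e, he, 0, by rw [pow_zero, mul_one, mul_one]; exact h⟩
  E_mem := fun _ hp h => mem_EE_of_pow5 hp.1 h
  E_le := EE_le_closure_T
  Q_mem := fun _ he h => mem_QQ_of_pow4 he h
  Q_pow := fun _ he => QQ_pow4 he
  comm_Q := comm_QQ
  E_gen := EE_gen
  syl5 := fun _ hg h5 _ => syl5 hg h5
  cent_x := fun p hp h => by
    obtain ⟨k, l, h1⟩ := cent_xf_T hp h
    exact ⟨k, l, 0, by rw [pow_zero, mul_one]; exact h1⟩
  cent_A_x := fun _ ha h => cent_AA_xf ha h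
  cent_Q := fun _ hy h => cent_QQ (TT_le hy) h
  cent_A := fun y hy h => ⟨y, cent_AA_T hy h, 0, by rw [pow_zero, mul_one]⟩
  norm_A := fun y hy h => ⟨norm_AA (TT_le hy) h, hy⟩
  tx := tau_xf
  ts := tau_sf
  tj := by rw [mul_one, mul_inv_cancel]
  tA := fun _ ha => tau_AA ha
  tQ := fun _ ha => tau_QQ ha
  tt := jf_sq
  tr := tau_rf
  aj_A := ajf_mem
  aw_A := awf_mem
  KA := fun _ ha h1 h2 h3 => KA' ha h1 h2 h3
  pr_A := pr_mem
  xr := fun _ h => xr h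
  irr_A := fun _ hz hB hx hb => irr_AA hz hB hx hb
  irr_Q := fun _ hA hB hx hb => irr_QQ hA hB hx hb
  KS := KS
  KW := fun _ ha => KW ha
  q_x := qf_conj_xf
  q_s := qf_conj_sf
  q_prod := qf_prod
  A_gen := AA_gen
  q_Q := fun _ hu k => qf_conj_QQ hu k
  Q_ker := fun _ hu h => QQ_ker hu h
  r0 := rf_q0
  r1 := rf_q1
  r2 := rf_q2
  r3 := rf_q3
  r4 := rf_q4
  pt := pt
  pt' := pt'
  sym := fun _ hg h => sym (TT_le hg) h
  line := line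
  U_p := ST_isPGroup
  U_odd := odd_ST
  A₁_le := A1T_le_QQ
  A₁_ne := A1T_ne
  A₁_card := card_A1T
  A₁_sq := fun _ ha => sq_A1T ha
  A₁_nor := fun _ hu _ ha => UT_conj_A1T hu.1 ha
  cent_A₁ := fun _ hy h => cent_A1T (TT_le hy.2) h
  A₁_conj := fun _ ha _ => A1T_conj ha
  K2 := fun _ hB hsq hn hc => two_normal (hB.trans inf_le_left) hsq hn hc
  KF := fun _ _ hB hsq => KA_one hB hsq
  KW₁ := fun _ hB h => KW_one (hB.trans inf_le_left) fun u hu a ha => comm_A1T_aux (h u hu a ha)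
  K3 := fun _ hB hsq => card_elem (hB.trans TT_le) hsq
  K4 := fun _ hy h => ⟨norm_ST (TT_le hy) fun s hs => (h s hs).1, hy⟩
  cent_U := fun _ hy h => cent_ST (TT_le hy) h
  pts := fun _ hg h => pts (TT_le hg) h

/-- the K-facts of `²F₄(2)` in `F₄(2)` -/
noncomputable def kgH : KG (G := LL) HT where
  z := z
  x := xf
  s := sf
  j := jf
  q := qf
  r := rf
  aj := ajf
  aw := awf
  t := jf
  U := UT
  P := Pz
  Q := QQ
  A := AA
  E := EE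
  A₁ := A1T
  fin := inferInstance
  P_le := fun _ h => Pz_le_HT h
  t_conj := fun y hy => HT.mul_mem (HT.mul_mem jf_mem_HT hy) (HT.inv_mem jf_mem_HT)
  t_conj' := fun y hy => jf_conj_inv hy
  zz := z_sq
  z1 := z_ne
  mem_P := fun y hy => mem_Pz_iff hy
  z_A := z_mem_AA
  A_le_Q := AA_le_QQ
  Q_le_E := QQ_le_EE
  E_le_P := EE_le_Pz
  Q_le_U := QQ_le_UT
  U_le_P := UT_le_Pz
  x_E := xf_mem_EE
  s_U := sf_mem
  j_U := jf_mem
  r_Q := rf_mem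
  q_A := qf_mem
  card_A := card_AA
  card_Q := card_QQ
  sq_A := fun _ ha => AA_sq ha
  x5 := xf_pow5
  x1 := xf_ne
  s4 := sf_pow4
  x_s := sf_conj'
  j_or := Or.inr ⟨jf_sq, rfl⟩
  nor_A := fun _ hp _ ha => Pz_conj_AA hp ha
  nor_Q := fun _ hp _ ha => Pz_conj_QQ hp ha
  nor_E := fun _ hp _ ha => Pz_conj_EE hp ha
  E_cases := fun _ he => EE_cases he
  P_cases := fun _ hp => Pz_cases hp
  U_cases := fun _ hp => UT_cases hp
  sq_E := fun _ hp hpp => sq_EE hp hpp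
  E_mem := fun _ hp h => mem_EE_of_pow5 hp h
  E_le := EE_le_closure
  Q_mem := fun _ he h => mem_QQ_of_pow4 he h
  Q_pow := fun _ he => QQ_pow4 he
  comm_Q := comm_QQ
  E_gen := EE_gen
  syl5 := fun _ hg h5 _ => syl5 hg h5
  cent_x := fun _ hp h => cent_xf hp h
  cent_A_x := fun _ ha h => cent_AA_xf ha h
  cent_Q := fun _ hy h => cent_QQ hy h
  cent_A := fun _ hy h => cent_AA_H hy h
  norm_A := fun _ hy h => norm_AA hy h
  tx := tau_xf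
  ts := tau_sf
  tj := tau_jf
  tA := fun _ ha => tau_AA ha
  tQ := fun _ ha => tau_QQ ha
  tt := jf_sq
  tr := tau_rf
  aj_A := ajf_mem
  aw_A := awf_mem
  KA := kgT.KA
  pr_A := pr_mem
  xr := kgT.xr
  irr_A := kgT.irr_A
  irr_Q := kgT.irr_Q
  KS := KS
  KW := kgT.KW
  q_x := qf_conj_xf
  q_s := qf_conj_sf
  q_prod := qf_prod
  A_gen := AA_gen
  q_Q := fun _ hu k => qf_conj_QQ hu k
  Q_ker := fun _ hu h => QQ_ker hu h
  r0 := rf_q0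
  r1 := rf_q1
  r2 := rf_q2
  r3 := rf_q3
  r4 := rf_q4
  pt := fun k => by
    obtain ⟨g, hg, h⟩ := pt k
    exact ⟨g, TT_le hg, h⟩
  pt' := fun k => by
    obtain ⟨g, hg, h⟩ := pt' k
    exact ⟨g, TT_le hg, h⟩
  sym := fun _ hg h => sym hg h
  line := by
    obtain ⟨g, hg, h⟩ := line
    exact ⟨g, TT_le hg, h⟩
  U_p := isPGroup_UT
  U_odd := odd_UT
  A₁_le := A1T_le_QQ
  A₁_ne := A1T_ne
  A₁_card := card_A1T
  A₁_sq := fun _ ha => sq_A1T ha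
  A₁_nor := fun _ hu _ ha => UT_conj_A1T hu ha
  cent_A₁ := fun _ hy h => cent_A1T hy.2 h
  A₁_conj := fun _ ha _ => by
    obtain ⟨g, hg, h⟩ := A1T_conj ha
    exact ⟨g, TT_le hg, h⟩
  K2 := fun _ hB hsq hn hc => two_normal hB hsq (fun u hu => hn u hu.1) hc
  KF := fun h => by
    exfalso
    apply jf_not_mem
    rw [h]
    exact TT.one_mem
  KW₁ := fun _ hB h => KW_one hB fun u hu a ha => comm_A1T_aux (h u hu a ha)
  K3 := fun _ hB hsq => card_elem hB hsq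
  K4 := fun _ hy h => norm_ST hy fun s hs => h s hs.1
  cent_U := fun _ hy h => cent_ST hy fun s hs => h s hs.1
  pts := fun _ hg h => pts hg h

/-- **the K-facts of the Tits group** -/
noncomputable def ktT : KT ↥TT := kgT.kt

/-- **the K-facts of `²F₄(2)`** -/
noncomputable def ktH : KT ↥HT := kgH.kt

end Cfsg.Agent.TitsK
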