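import Cfsg.Agent.OddHalf.D7Tits.PosOf
import Cfsg.Agent.TitsK.KtInst

/-!
The hypotheses `PosOf.Pair` for `ktT`, `ktH`: `pair`, and the position in the group `G` for `K` of Tits type: `pos0`.
-/

set_option autoImplicit false

namespace Cfsg.Agent.TitsK

open Cfsg.Agent.OddHalf.D7Tits Cfsg.Agent.OddHalf.D7Tits.Defs
open Cfsg.Agent.FourTwo.Base hiding bar bar_lt

/-- `ktT`, on `tdata` -/
noncomputable def ktTD : KT ↥tdata.T := ktT

/-- `ktH`, on `tdata` -/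
noncomputable def ktHD : KT ↥tdata.H := ktH

theorem ktTD_j : ktTD.j = 1 := rfl

theorem coe_z_T : ((ktTD.z : ↥tdata.T) : LL) = z := rfl
theorem coe_z_H : ((ktHD.z : ↥tdata.H) : LL) = z := rfl
theorem coe_j_H : ((ktHD.j : ↥tdata.H) : LL) = jf := rfl

theorem ktHD_j : ktHD.j * ktHD.j = ktHD.z := by
  apply Subtype.ext
  exact jf_sq

theorem ktHD_jT : ((ktHD.j : ↥tdata.H) : LL) ∉ tdata.T := jf_not_mem

theorem ktHD_z : ((ktHD.z : ↥tdata.H) : LL) = ((ktTD.z : ↥tdata.T) : LL) := coe_z_H.trans coe_z_T.symm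

theorem ktHD_E : ∀ e ∈ ktHD.E, ((e : ↥tdata.H) : LL) ∈ tdata.T := fun _ he => EE_le_TT he

theorem ktHD_s : ((ktHD.s : ↥tdata.H) : LL) ∈ tdata.T := sf_mem_TT

/-- the compatibility of `ktT`, `ktH` -/
theorem pair : PosOf.Pair tdata ktTD ktHD where
  jC := ktTD_j
  jO := ktHD_j
  jT := ktHD_jT
  zz := ktHD_z
  EK := ktHD_E
  sK := ktHD_s

/-- groups of Tits type -/
theorem nonempty_equiv {X : Type*} [Group X] (h : Cfsg.Lie.IsoTits X) : Nonempty (X ≃* ↥tdata.T) := by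
  obtain ⟨e⟩ := h
  obtain ⟨e'⟩ := exists_equiv
  exact ⟨e.trans e'⟩

/-- `Pos0` from an isomorphism with the Tits group -/
theorem pos0_abs {G' : Type} [Group G'] [Finite G'] (D : TData G') (KC : KT ↥D.T) (KO : KT ↥D.H)
    (H : PosOf.Pair D KC KO) {G : Type*} [Group G] {K : Subgroup G} (C : Cfsg.Agent.OddHalf.Iface.Ctx G)
    (S : Cfsg.Agent.OddHalf.Iface.Std G K) (hcyc : Cfsg.Agent.OddHalf.Iface.Cyc K) (h : Nonempty (↥K ≃* ↥D.T)) :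
    (∃ (i₀ : ↥(⊤ : Subgroup ↥D.T) →* G) (t : G), Pos0 KC ⊤ i₀ t 1) ∨
      ∃ (i₀ : ↥(D.T.subgroupOf D.H) →* G) (t f : G), Pos0 KO (D.T.subgroupOf D.H) i₀ t f := by
  obtain ⟨e⟩ := h
  exact PosOf.pos0_of C S hcyc D KC KO H e

/-- **`Pos0` for `K` of Tits type** -/
theorem pos0 {G : Type*} [Group G] {K : Subgroup G} (C : Cfsg.Agent.OddHalf.Iface.Ctx G)
    (S : Cfsg.Agent.OddHalf.Iface.Std G K) (hcyc : Cfsg.Agent.OddHalf.Iface.Cyc K) (h : Cfsg.Lie.IsoTits ↥K) :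
    (∃ (i₀ : ↥(⊤ : Subgroup ↥tdata.T) →* G) (t : G), Pos0 ktTD ⊤ i₀ t 1) ∨
      ∃ (i₀ : ↥(tdata.T.subgroupOf tdata.H) →* G) (t f : G), Pos0 ktHD (tdata.T.subgroupOf tdata.H) i₀ t f :=
  pos0_abs tdata ktTD ktHD pair C S hcyc (nonempty_equiv h)

end Cfsg.Agent.TitsK
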