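import Mathlib

/-!
General lemmas on subgroups of a finite group, in relative form.
-/

set_option autoImplicit false

namespace Cfsg.Agent.TitsK.Abs

variable {G : Type*} [Group G]

/-- the order of a subgroup `Y ≤ P` with `Y ⊓ Q = 1`, `Q` normal in `P` -/
theorem card_dvd {P Q B Y : Subgroup G} (hQB : Q ≤ B) (hBP : B ≤ P) (hYP : Y ≤ P)
    (hn : ∀ p ∈ P, ∀ q ∈ Q, p * q * p⁻¹ ∈ Q) (hYQ : ∀ y ∈ Y, y ∈ Q → y = 1) :
    Nat.card ↥Y ∣ Q.relIndex B * B.relIndex P := by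
  have hQP : Q ≤ P := hQB.trans hBP
  rw [Subgroup.relIndex_mul_relIndex Q B P hQB hBP]
  have : (Q.subgroupOf P).Normal := ⟨fun q hq p => hn p p.2 q hq⟩
  have h1 := Subgroup.relIndex_dvd_index_of_normal (Q.subgroupOf P) (Y.subgroupOf P)
  have h2 : (Q.subgroupOf P).relIndex (Y.subgroupOf P) = Nat.card ↥Y := by
    rw [← Subgroup.inf_relIndex_right]
    have h3 : Q.subgroupOf P ⊓ Y.subgroupOf P = ⊥ := by
      rw [eq_bot_iff]
      rintro x ⟨hx1, hx2⟩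
      exact Subgroup.mem_bot.2 (Subtype.ext (hYQ x hx2 hx1))
    rw [h3, Subgroup.relIndex_bot_left]
    exact Nat.card_congr (Subgroup.subgroupOfEquivOfLe hYP).toEquiv
  rw [h2] at h1
  exact h1

/-- index of a normal subgroup with cyclic quotient -/
theorem relIndex_dvd_of_cyclic {Q B : Subgroup G} (hn : ∀ b ∈ B, ∀ q ∈ Q, b * q * b⁻¹ ∈ Q) {y : G} (hy : y ∈ B)
    {n : ℕ} (hyn : y ^ n ∈ Q) (h : ∀ b ∈ B, ∃ i : ℕ, ∃ q ∈ Q, b = y ^ i * q) : Q.relIndex B ∣ n := by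
  have hN : (Q.subgroupOf B).Normal := ⟨fun q hq p => hn p p.2 q hq⟩
  let Y : ↥B := ⟨y, hy⟩
  let π := QuotientGroup.mk' (Q.subgroupOf B)
  have hgen : ∀ q : ↥B ⧸ Q.subgroupOf B, q ∈ Subgroup.zpowers (π Y) := by
    intro q
    obtain ⟨b, rfl⟩ := QuotientGroup.mk'_surjective (Q.subgroupOf B) q
    obtain ⟨i, q, hq, hb⟩ := h b b.2
    have hqB : q ∈ B := by
      have e : q = (y ^ i)⁻¹ * b := by rw [hb]; group
      rw [e]
      exact B.mul_mem (B.inv_mem (B.pow_mem hy i)) b.2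
    have e : b = Y ^ i * ⟨q, hqB⟩ := Subtype.ext hb
    have e2 : π b = π Y ^ i := by
      rw [e, map_mul, map_pow]
      have e3 : π ⟨q, hqB⟩ = 1 := (QuotientGroup.eq_one_iff _).2 hq
      rw [e3, mul_one]
    show π b ∈ _
    rw [e2]
    exact ⟨i, by simp⟩
  have h1 : Nat.card (↥B ⧸ Q.subgroupOf B) = orderOf (π Y) := by
    rw [← Nat.card_zpowers]
    refine Nat.card_congr ⟨fun q => ⟨q, hgen q⟩, fun q => q.1, fun q => rfl, fun q => rfl⟩
  rw [Subgroup.relIndex, Subgroup.index, h1]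
  apply orderOf_dvd_of_pow_eq_one
  rw [← map_pow]
  exact (QuotientGroup.eq_one_iff _).2 hyn

/-- `⟨y⟩ D` for `y` normalising `D` -/
def mulSub (D : Subgroup G) (y : G) (hy : y ∈ Subgroup.normalizer (D : Set G)) : Subgroup G where
  carrier := {h | ∃ i : ℤ, ∃ q ∈ D, h = y ^ i * q}
  one_mem' := ⟨0, 1, D.one_mem, by group⟩
  mul_mem' := by
    rintro _ _ ⟨i, q, hq, rfl⟩ ⟨j, q', hq', rfl⟩
    have h1 := (Subgroup.mem_normalizer_iff.1 (Subgroup.zpow_mem _ hy (-j)) q).1 hq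
    refine ⟨i + j, _, D.mul_mem h1 hq', ?_⟩
    group
  inv_mem' := by
    rintro _ ⟨i, q, hq, rfl⟩
    have h1 := (Subgroup.mem_normalizer_iff.1 (Subgroup.zpow_mem _ hy i) q⁻¹).1 (D.inv_mem hq)
    refine ⟨-i, _, h1, ?_⟩
    group

theorem mem_mulSub {D : Subgroup G} {y : G} (hy : y ∈ Subgroup.normalizer (D : Set G)) {h : G} :
    h ∈ mulSub D y hy ↔ ∃ i : ℤ, ∃ q ∈ D, h = y ^ i * q := Iff.rfl

/-- `H = ⟨y⟩ D` with `D` normal: the index of `D` divides `n` if `yⁿ ∈ D` -/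
theorem relIndex_dvd_of_mulSub {D H : Subgroup G} {y : G} (hy : y ∈ Subgroup.normalizer (D : Set G)) (hyH : y ∈ H)
    (hDH : ∀ b ∈ H, ∀ q ∈ D, b * q * b⁻¹ ∈ D) {n : ℕ} (hn : y ^ n ∈ D) (h : H ≤ mulSub D y hy) :
    D.relIndex H ∣ n := by
  have hN : (D.subgroupOf H).Normal := ⟨fun q hq p => hDH p p.2 q hq⟩
  let Y : ↥H := ⟨y, hyH⟩
  let π := QuotientGroup.mk' (D.subgroupOf H)
  have hgen : ∀ q : ↥H ⧸ D.subgroupOf H, q ∈ Subgroup.zpowers (π Y) := by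
    intro q
    obtain ⟨b, rfl⟩ := QuotientGroup.mk'_surjective (D.subgroupOf H) q
    obtain ⟨i, q, hq, hb⟩ := (mem_mulSub hy).1 (h b.2)
    have hqB : q ∈ H := by
      have e : q = (y ^ i)⁻¹ * b := by rw [hb]; group
      rw [e]
      exact H.mul_mem (H.inv_mem (H.zpow_mem hyH i)) b.2
    have e : b = Y ^ i * ⟨q, hqB⟩ := Subtype.ext hb
    have e2 : π b = π Y ^ i := by
      rw [e, map_mul, map_zpow]
      have e3 : π ⟨q, hqB⟩ = 1 := (QuotientGroup.eq_one_iff _).2 hq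
      rw [e3, mul_one]
    show π b ∈ _
    rw [e2]
    exact ⟨i, by simp⟩
  have h1 : Nat.card (↥H ⧸ D.subgroupOf H) = orderOf (π Y) := by
    rw [← Nat.card_zpowers]
    refine Nat.card_congr ⟨fun q => ⟨q, hgen q⟩, fun q => q.1, fun q => rfl, fun q => rfl⟩
  rw [Subgroup.relIndex, Subgroup.index, h1]
  apply orderOf_dvd_of_pow_eq_one
  rw [← map_pow]
  exact (QuotientGroup.eq_one_iff _).2 hn

/-- a 2-subgroup of a finite group `H` is conjugate in `H` into a 2-subgroup of odd index -/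
theorem exists_conj_sub [Finite G] {H S T : Subgroup G} (hSH : S ≤ H) (hS : IsPGroup 2 S) (hi : ¬ 2 ∣ S.relIndex H)
    (hTH : T ≤ H) (hT : IsPGroup 2 T) : ∃ g ∈ H, ∀ t ∈ T, g * t * g⁻¹ ∈ S := by
  have : Fact (Nat.Prime 2) := ⟨Nat.prime_two⟩
  have hS' : IsPGroup 2 (S.subgroupOf H) := hS.of_equiv (Subgroup.subgroupOfEquivOfLe hSH).symm
  have hT' : IsPGroup 2 (T.subgroupOf H) := hT.of_equiv (Subgroup.subgroupOfEquivOfLe hTH).symm
  obtain ⟨Q, hQ⟩ := hT'.exists_le_sylow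
  obtain ⟨g, hg⟩ := MulAction.exists_smul_eq H (hS'.toSylow hi) Q
  refine ⟨(g⁻¹ : ↥H), (g⁻¹).2, fun t ht => ?_⟩
  have h1 : (⟨t, hTH ht⟩ : ↥H) ∈ (Q : Subgroup ↥H) := hQ ht
  rw [← hg, Sylow.coe_subgroup_smul, Subgroup.mem_pointwise_smul_iff_inv_smul_mem] at h1
  have e : (MulAut.conj g)⁻¹ • (⟨t, hTH ht⟩ : ↥H) = g⁻¹ * ⟨t, hTH ht⟩ * g := by
    rw [← map_inv, MulAut.smul_def, MulAut.conj_apply, inv_inv]
  rw [e] at h1
  have h2 : ((g⁻¹ * ⟨t, hTH ht⟩ * g : ↥H) : G) ∈ S := h1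
  have e2 : ((g⁻¹ : ↥H) : G) * t * ((g⁻¹ : ↥H) : G)⁻¹ = ((g⁻¹ * ⟨t, hTH ht⟩ * g : ↥H) : G) := by
    simp
  rw [e2]
  exact h2

/-- an element of a 2-group centralised by ... : an odd order 2-subgroup is trivial -/
theorem eq_bot_of_odd [Finite G] {I : Subgroup G} (hI : IsPGroup 2 I) (h : Odd (Nat.card ↥I)) : I = ⊥ := by
  have : Fact (Nat.Prime 2) := ⟨Nat.prime_two⟩
  obtain ⟨n, hn⟩ := IsPGroup.iff_card.1 hI
  rw [hn] at h
  cases n with
  | zero => exact Subgroup.card_eq_one.1 (by rw [hn, pow_zero])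
  | succ n =>
    exfalso
    rw [pow_succ] at h
    exact (Nat.not_odd_iff_even.2 (even_two.mul_left _)) h

/-! ### cyclic groups of order 2 and 4 -/

theorem zpowers_two {y g : G} (hy : y * y = 1) (hg : g ∈ Subgroup.zpowers y) : g = 1 ∨ g = y := by
  obtain ⟨k, hk⟩ := Subgroup.mem_zpowers_iff.1 hg
  have e : y ^ (2 : ℤ) = 1 := by rw [zpow_two, hy]
  obtain ⟨j, rfl | rfl⟩ := k.even_or_odd'
  · left
    rw [← hk, zpow_mul, e, one_zpow]
  · right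
    rw [← hk, zpow_add, zpow_mul, e, one_zpow, one_mul, zpow_one]

theorem zpowers_four {T : Subgroup G} {y g : G} (hy : y * y * (y * y) = 1) (hyT : y ∉ T) (hyT' : y * y ∈ T)
    (hg : g ∈ Subgroup.zpowers y) (hgT : g ∈ T) : g = 1 ∨ g = y * y := by
  obtain ⟨k, hk⟩ := Subgroup.mem_zpowers_iff.1 hg
  obtain ⟨j, rfl | rfl⟩ := k.even_or_odd'
  · rw [zpow_mul, zpow_two] at hk
    exact zpowers_two hy (Subgroup.mem_zpowers_iff.2 ⟨j, hk⟩)
  · exfalso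
    apply hyT
    rw [zpow_add, zpow_mul, zpow_two, zpow_one] at hk
    have e : y = ((y * y) ^ j)⁻¹ * g := by
      rw [← hk]
      group
    rw [e]
    exact T.mul_mem (T.inv_mem (T.zpow_mem hyT' j)) hgT

theorem conj_pow_aux (w y : G) (n : ℕ) : (w * y * w⁻¹) ^ n = w * y ^ n * w⁻¹ := conj_pow

/-! ### conjugate subgroups -/

/-- `w S w⁻¹` -/
def cj (w : G) (S : Subgroup G) : Subgroup G where
  carrier := {g | w⁻¹ * g * w ∈ S}
  one_mem' := by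
    show w⁻¹ * 1 * w ∈ S
    rw [mul_one, inv_mul_cancel]
    exact S.one_mem
  mul_mem' := by
    intro a b ha hb
    have h := S.mul_mem ha hb
    have e : w⁻¹ * a * w * (w⁻¹ * b * w) = w⁻¹ * (a * b) * w := by group
    rw [e] at h
    exact h
  inv_mem' := by
    intro a ha
    have h := S.inv_mem ha
    have e : (w⁻¹ * a * w)⁻¹ = w⁻¹ * a⁻¹ * w := by group
    rw [e] at h
    exact h

theorem mem_cj {w : G} {S : Subgroup G} {g : G} : g ∈ cj w S ↔ w⁻¹ * g * w ∈ S := Iff.rfl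

theorem conj_mem_cj {w : G} {S : Subgroup G} {s : G} (hs : s ∈ S) : w * s * w⁻¹ ∈ cj w S := by
  rw [mem_cj]
  have e : w⁻¹ * (w * s * w⁻¹) * w = s := by group
  rw [e]
  exact hs

theorem card_cj (w : G) (S : Subgroup G) : Nat.card ↥(cj w S) = Nat.card ↥S := by
  refine Nat.card_congr ⟨fun g => ⟨w⁻¹ * g * w, g.2⟩, fun s => ⟨w * s * w⁻¹, conj_mem_cj s.2⟩, fun g => ?_, fun s => ?_⟩
  · apply Subtype.ext
    show w * (w⁻¹ * g * w) * w⁻¹ = g
    group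
  · apply Subtype.ext
    show w⁻¹ * (w * s * w⁻¹) * w = s
    group

end Cfsg.Agent.TitsK.Abs
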