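import Cfsg.Agent.TitsK.Model

/-!
Codes for the Sylow 2-subgroup `UT` of `²F₄(2)` (as a subgroup of `F₄(2)`):

* `reflW`, `posW`, `nw_conj_ec`: conjugation of a code by a Weyl group word;
* `gens12`, `allP`, `allU`, `allS`: enumeration of the 4096 codes of `UT` by a binary tree;
* `UT_all`, `ST_all`: the kernel checks.
-/

set_option autoImplicit false
set_option Elab.async false

namespace Cfsg.Agent.TitsK

open Cfsg.Lie Cfsg.Agent.ChevalleyStructure.TwF4.Tables
open Cfsg.Agent.FourTwo.Base hiding bar bar_lt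
open Cfsg.Agent.FourTwo.BN Cfsg.Agent.FourTwo.Comm Cfsg.Agent.FourTwo.Classes
open Cfsg.Agent.FourTwo.UCode (mulU invU conjU lets colW colF force force_eq mem_lets wel_lets wel_mem)
open Cfsg.Agent.FourTwo.UMod (mulU_mod)

/-! ### conjugation by Weyl group words -/

/-- all letters of `e` stay positive under `w` -/
def posW (w : List ℕ) (e : ℕ) : Bool := (lets e).all fun j => decide (24 ≤ act w (24 + j))

/-- the code of the conjugate -/
def reflW (w : List ℕ) (e : ℕ) : ℕ := colW ((lets e).map fun j => act w (24 + j) - 24)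

theorem ec_eq_wd (e : ℕ) : ec e = wd ((lets e).map fun j => 24 + j) := by
  apply Subtype.ext
  rw [coe_wd_eq_wel, wel_lets]
  rfl

theorem nw_conj_wd {w : List ℕ} (hw : ∀ i ∈ w, i < 4) {l : List ℕ} (hl : ∀ r ∈ l, r < 48) :
    nw w * wd l * (nw w)⁻¹ = wd (l.map (act w)) := by
  induction l with
  | nil => simp
  | cons r l ih =>
    rw [List.map_cons, wd_cons, wd_cons, ← ih fun s hs => hl s (List.mem_cons_of_mem _ hs),
      ← nw_conj hw (hl r List.mem_cons_self)]
    group

theorem nw_conj_ec {w : List ℕ} (hw : ∀ i ∈ w, i < 4) {e : ℕ} (h : posW w e = true) :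
    nw w * ec e * (nw w)⁻¹ = ec (reflW w e) := by
  unfold posW at h
  rw [List.all_eq_true] at h
  have hl : ∀ c ∈ lets e, 24 ≤ act w (24 + c) ∧ act w (24 + c) < 48 := fun c hc =>
    ⟨of_decide_eq_true (h c hc), act_lt hw (by have := (mem_lets.1 hc).1; omega)⟩
  rw [ec_eq_wd, nw_conj_wd hw]
  · unfold reflW
    rw [← wd_eq_ec]
    · congr 1
      rw [List.map_map, List.map_map]
      apply List.map_congr_left
      intro c hc
      have := (hl c hc).1
      show act w (24 + c) = 24 + (act w (24 + c) - 24)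
      omega
    · intro c hc
      rw [List.mem_map] at hc
      obtain ⟨j, hj, rfl⟩ := hc
      have := hl j hj
      omega
  · intro r hr
    rw [List.mem_map] at hr
    obtain ⟨j, hj, rfl⟩ := hr
    have := (mem_lets.1 hj).1
    omega

/-! ### the enumeration -/

/-- the leaves of the tree: all products `e g₀^{b₀} g₁^{b₁} ⋯`, with the parity -/
def lf : List (ℕ × Bool) → ℕ → Bool → List (ℕ × Bool)
  | [], e, b => [(e, b)]
  | g :: gs, e, b => lf gs e b ++ lf gs (mulU e g.1) (b ^^ g.2)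

/-- check of a predicate at all leaves -/
def allP (p : ℕ → Bool → Bool) (gs : List (ℕ × Bool)) (e : ℕ) (b : Bool) : Bool :=
  List.rec (motive := fun _ => ℕ → Bool → Bool) (fun e b => p e b)
    (fun g _ ih e b => cond (ih e b) (force (mulU e g.1) fun e' => ih e' (b ^^ g.2)) false) gs e b

theorem allP_nil (p : ℕ → Bool → Bool) (e : ℕ) (b : Bool) : allP p [] e b = p e b := rfl

theorem allP_cons (p : ℕ → Bool → Bool) (g : ℕ × Bool) (gs : List (ℕ × Bool)) (e : ℕ) (b : Bool) :
    allP p (g :: gs) e b = (allP p gs e b && allP p gs (mulU e g.1) (b ^^ g.2)) := by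
  show cond (allP p gs e b) (force (mulU e g.1) fun e' => allP p gs e' (b ^^ g.2)) false = _
  rw [force_eq]
  cases allP p gs e b <;> rfl

theorem allP_spec {p : ℕ → Bool → Bool} {gs : List (ℕ × Bool)} {e : ℕ} {b : Bool} (h : allP p gs e b = true) :
    ∀ q ∈ lf gs e b, p q.1 q.2 = true := by
  induction gs generalizing e b with
  | nil =>
    intro q hq
    rw [lf, List.mem_singleton] at hq
    rw [hq]
    exact h
  | cons g gs ih =>
    rw [allP_cons, Bool.and_eq_true] at h
    intro q hq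
    rw [lf, List.mem_append] at hq
    rcases hq with hq | hq
    · exact ih h.1 q hq
    · exact ih h.2 q hq

theorem length_lf (gs : List (ℕ × Bool)) (e : ℕ) (b : Bool) : (lf gs e b).length = 2 ^ gs.length := by
  induction gs generalizing e b with
  | nil => rfl
  | cons g gs ih =>
    rw [lf, List.length_append, ih, ih, List.length_cons, pow_succ]
    ring

/-- check that the generators are in echelon form: `(k, g) : g % 2 ^ k = 0`, and at each node the two subtrees are
separated by the residues modulo `2 ^ (k + 1)` -/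
def sepP (ks : List ℕ) (gs : List (ℕ × Bool)) (e : ℕ) : Bool :=
  List.rec (motive := fun _ => List (ℕ × Bool) → ℕ → Bool) (fun gs _ => gs.isEmpty)
    (fun k _ ih gs e => match gs with
      | [] => false
      | g :: gs => cond (ih gs e) (force (mulU e g.1) fun e' =>
        cond (ih gs e') (gs.all (fun g' => Nat.beq (g'.1 % 2 ^ k) 0) && !(Nat.beq (e % 2 ^ k) (e' % 2 ^ k))) false) false)
    ks gs e

theorem sepP_nil (gs : List (ℕ × Bool)) (e : ℕ) : sepP [] gs e = gs.isEmpty := rfl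

theorem sepP_cons_nil (k : ℕ) (ks : List ℕ) (e : ℕ) : sepP (k :: ks) [] e = false := rfl

theorem sepP_cons (k : ℕ) (ks : List ℕ) (g : ℕ × Bool) (gs : List (ℕ × Bool)) (e : ℕ) :
    sepP (k :: ks) (g :: gs) e = (sepP ks gs e && (sepP ks gs (mulU e g.1) &&
      (gs.all (fun g' => Nat.beq (g'.1 % 2 ^ k) 0) && !(Nat.beq (e % 2 ^ k) (mulU e g.1 % 2 ^ k))))) := by
  show cond (sepP ks gs e) (force (mulU e g.1) fun e' =>
        cond (sepP ks gs e') (gs.all (fun g' => Nat.beq (g'.1 % 2 ^ k) 0) && !(Nat.beq (e % 2 ^ k) (e' % 2 ^ k))) false) false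
        = _
  rw [force_eq]
  cases sepP ks gs e <;> cases sepP ks gs (mulU e g.1) <;> rfl

theorem mulU_zero (e : ℕ) : mulU e 0 = e := rfl

theorem lf_mod {k : ℕ} (hk : k ≤ 24) {gs : List (ℕ × Bool)} (h : ∀ g ∈ gs, g.1 % 2 ^ k = 0) {e : ℕ} {b : Bool} :
    ∀ q ∈ lf gs e b, q.1 % 2 ^ k = e % 2 ^ k := by
  induction gs generalizing e b with
  | nil =>
    intro q hq
    rw [lf, List.mem_singleton] at hq
    rw [hq]
  | cons g gs ih =>
    have h1 := fun g' hg' => h g' (List.mem_cons_of_mem g hg')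
    intro q hq
    rw [lf, List.mem_append] at hq
    rcases hq with hq | hq
    · exact ih h1 q hq
    · rw [ih h1 q hq]
      have h2 : mulU e g.1 % 2 ^ k = mulU e 0 % 2 ^ k :=
        mulU_mod hk rfl (by rw [h g List.mem_cons_self, Nat.zero_mod])
      rw [h2, mulU_zero]

theorem nodup_lf {ks : List ℕ} (hks : ∀ k ∈ ks, k ≤ 24) {gs : List (ℕ × Bool)} {e : ℕ} {b : Bool}
    (h : sepP ks gs e = true) : ((lf gs e b).map Prod.fst).Nodup := by
  induction ks generalizing gs e b with
  | nil =>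
    rw [sepP_nil, List.isEmpty_iff] at h
    subst h
    simp [lf]
  | cons k ks ih =>
    cases gs with
    | nil => rw [sepP_cons_nil] at h; exact absurd h (by decide)
    | cons g gs =>
      rw [sepP_cons, Bool.and_eq_true, Bool.and_eq_true, Bool.and_eq_true] at h
      obtain ⟨h1, h2, h3, h4⟩ := h
      have hk := hks k List.mem_cons_self
      have hks' := fun k' hk' => hks k' (List.mem_cons_of_mem k hk')
      rw [lf, List.map_append, List.nodup_append]
      refine ⟨ih hks' h1, ih hks' h2, ?_⟩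
      intro a ha a' ha' haa
      rw [List.mem_map] at ha ha'
      obtain ⟨q, hq, rfl⟩ := ha
      obtain ⟨q', hq', rfl⟩ := ha'
      rw [List.all_eq_true] at h3
      have h5 : ∀ g' ∈ gs, g'.1 % 2 ^ k = 0 := fun g' hg' => Nat.eq_of_beq_eq_true (h3 g' hg')
      have e1 := lf_mod hk h5 q hq
      have e2 := lf_mod hk h5 q' hq'
      rw [haa, e2] at e1
      rw [Bool.not_eq_true', ← Bool.not_eq_true] at h4
      apply h4
      rw [e1]
      exact Nat.beq_refl _

/-- the 12 generators of `UT` (`true`: outside `TT`) -/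
def gens12 : List (ℕ × Bool) := [(513, false), (74, true), (263172, true), (80, false), (1179680, true),
  (4196480, true), (8448, false), (266240, false), (540672, false), (2129920, false), (4259840, false),
  (9437184, false)]

theorem sep12 : sepP [1, 2, 3, 5, 6, 8, 9, 13, 15, 16, 17, 21] gens12 0 = true := by decide +kernel

/-- the parity -/
def parB (e : ℕ) : Bool := (e.testBit 1 ^^ e.testBit 2) ^^ (e.testBit 5 ^^ e.testBit 7)

theorem par12 : allP (fun e b => (parB e == b) && Nat.blt e 16777216) gens12 0 false = true := by decide +kernel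

/-! ### membership of the generators -/

theorem ya_eq : ya = ec 513 := wd_eq_ec' _ (by decide) _ (by decide +kernel)
theorem yb_eq : yb = ec 74 := wd_eq_ec' _ (by decide) _ (by decide +kernel)

/-- `zb = yb²` -/
def zb : LL := wd [28, 30]
/-- `zbm = ybm²` -/
def zbm : LL := wd [19, 17]

theorem zb_eq : zb = ec 80 := wd_eq_ec' _ (by decide) _ (by decide +kernel)

theorem yb_sq : yb * yb = zb := by
  have h : mulU 74 74 = 80 := by decide +kernel
  rw [yb_eq, zb_eq, ← ec_mulU, h]

theorem nw_mem_HT {w : List ℕ} (hw : w ∈ W16) : nw w ∈ HT := by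
  have key : ∀ n : ℕ, ∀ b : Bool, nw (alt b n) ∈ HT := by
    intro n
    induction n with
    | zero => intro b; cases b <;> exact one_mem _
    | succ n ih =>
      intro b
      cases b
      · show nw ([1, 2, 1, 2] ++ alt true n) ∈ HT
        rw [nw_append]
        exact mul_mem nb_mem_HT (ih true)
      · show nw ([0, 3] ++ alt false n) ∈ HT
        rw [nw_append]
        exact mul_mem na_mem_HT (ih false)
  unfold W16 at hw
  rw [List.mem_append, List.mem_map, List.mem_map] at hw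
  rcases hw with ⟨k, -, rfl⟩ | ⟨k, -, rfl⟩
  · exact key _ _
  · exact key _ _

theorem mem_UT {g : LL} : g ∈ UT ↔ g ∈ U ∧ g ∈ HT := Iff.rfl

theorem ec_mem_U (e : ℕ) : ec e ∈ U := ec_mem_UL e

theorem ec_mem_UT_of {r e : ℕ} (hr : ec r ∈ HT) (w : List ℕ) (hw : w ∈ W16) (hp : posW w r = true)
    (he : reflW w r = e) : ec e ∈ UT := by
  refine ⟨ec_mem_U e, ?_⟩
  rw [← he, ← nw_conj_ec (lt_of_mem_W16 hw) hp]
  exact HT.mul_mem (HT.mul_mem (nw_mem_HT hw) hr) (HT.inv_mem (nw_mem_HT hw))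

theorem ec513 : ec 513 ∈ UT := by rw [← ya_eq]; exact ya_mem
theorem ec74 : ec 74 ∈ UT := by rw [← yb_eq]; exact yb_mem
theorem ec80 : ec 80 ∈ UT := by rw [← zb_eq, ← yb_sq]; exact mul_mem yb_mem yb_mem

theorem ec8448 : ec 8448 ∈ UT := ec_mem_UT_of ec513.2 [1, 2, 1, 2] (by decide) (by decide +kernel) (by decide +kernel)
theorem ec540672 : ec 540672 ∈ UT :=
  ec_mem_UT_of ec513.2 [0, 3, 1, 2, 1, 2] (by decide) (by decide +kernel) (by decide +kernel)
theorem ec2129920 : ec 2129920 ∈ UT :=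
  ec_mem_UT_of ec513.2 [1, 2, 1, 2, 0, 3, 1, 2, 1, 2] (by decide) (by decide +kernel) (by decide +kernel)
theorem ec266240 : ec 266240 ∈ UT := ec_mem_UT_of ec80.2 [0, 3] (by decide) (by decide +kernel) (by decide +kernel)
theorem ec4259840 : ec 4259840 ∈ UT :=
  ec_mem_UT_of ec80.2 [1, 2, 1, 2, 0, 3] (by decide) (by decide +kernel) (by decide +kernel)
theorem ec9437184 : ec 9437184 ∈ UT :=
  ec_mem_UT_of ec80.2 [0, 3, 1, 2, 1, 2, 0, 3] (by decide) (by decide +kernel) (by decide +kernel)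
theorem ec263172 : ec 263172 ∈ UT := ec_mem_UT_of ec74.2 [0, 3] (by decide) (by decide +kernel) (by decide +kernel)
theorem ec4196480 : ec 4196480 ∈ UT :=
  ec_mem_UT_of ec74.2 [1, 2, 1, 2, 0, 3] (by decide) (by decide +kernel) (by decide +kernel)
theorem ec1179680 : ec 1179680 ∈ UT :=
  ec_mem_UT_of ec74.2 [0, 3, 1, 2, 1, 2, 0, 3] (by decide) (by decide +kernel) (by decide +kernel)

theorem gens_mem : ∀ g ∈ gens12, ec g.1 ∈ UT := by
  intro g hg
  simp only [gens12, List.mem_cons, List.not_mem_nil, or_false] at hg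
  rcases hg with rfl | rfl | rfl | rfl | rfl | rfl | rfl | rfl | rfl | rfl | rfl | rfl
  · exact ec513
  · exact ec74
  · exact ec263172
  · exact ec80
  · exact ec1179680
  · exact ec4196480
  · exact ec8448
  · exact ec266240
  · exact ec540672
  · exact ec2129920
  · exact ec4259840
  · exact ec9437184

/-! ### membership in `TT` -/

theorem comm_mem_aux {G : Type*} [Group G] (H : Subgroup G) {a b : G} (ha : a ∈ H) (hb : b ∈ H) :
    a * b * (a⁻¹ * b⁻¹) ∈ (⁅H, H⁆ : Subgroup G) := by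
  have h := Subgroup.commutator_mem_commutator ha hb
  rw [commutatorElement_def, mul_assoc] at h
  exact h

theorem conj_mem_aux {G : Type*} [Group G] (H : Subgroup G) {h g : G} (hh : h ∈ H) (hg : g ∈ (⁅H, H⁆ : Subgroup G)) :
    h * g * h⁻¹ ∈ (⁅H, H⁆ : Subgroup G) := by
  have h1 := comm_mem_aux H hh (comm_le_aux H hg)
  have h2 : h * g * h⁻¹ = h * g * (h⁻¹ * g⁻¹) * g := by group
  rw [h2]
  exact mul_mem h1 hg

theorem conj_mem_aux_iff {G : Type*} [Group G] (H : Subgroup G) {h g : G} (hh : h ∈ H) :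
    h * g * h⁻¹ ∈ (⁅H, H⁆ : Subgroup G) ↔ g ∈ (⁅H, H⁆ : Subgroup G) := by
  constructor
  · intro h1
    have h2 := conj_mem_aux H (inv_mem hh) h1
    have e : h⁻¹ * (h * g * h⁻¹) * (h⁻¹)⁻¹ = g := by group
    rwa [e] at h2
  · exact conj_mem_aux H hh

/-- `TT` is normal in `HT` -/
theorem TT_conj {h g : LL} (hh : h ∈ HT) (hg : g ∈ TT) : h * g * h⁻¹ ∈ TT := conj_mem_aux HT hh hg

theorem TT_conj_iff {h g : LL} (hh : h ∈ HT) : h * g * h⁻¹ ∈ TT ↔ g ∈ TT := conj_mem_aux_iff HT hh

theorem TT_comm {a b : LL} (ha : a ∈ HT) (hb : b ∈ HT) : a * b * (a⁻¹ * b⁻¹) ∈ TT := comm_mem_aux HT ha hb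

theorem ec_conj_TT {r e : ℕ} (w : List ℕ) (hw : w ∈ W16) (hp : posW w r = true)
    (he : reflW w r = e) : ec e ∈ TT ↔ ec r ∈ TT := by
  rw [← he, ← nw_conj_ec (lt_of_mem_W16 hw) hp]
  exact TT_conj_iff (nw_mem_HT hw)

/-- code of the commutator `a b a⁻¹ b⁻¹` -/
def commU (a b : ℕ) : ℕ := mulU (mulU a b) (mulU (invU a) (invU b))

theorem ec_commU (a b : ℕ) : ec (commU a b) = ec a * ec b * ((ec a)⁻¹ * (ec b)⁻¹) := by
  unfold commU
  rw [ec_mulU, ec_mulU, ec_mulU, ec_invU, ec_invU]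

theorem t540672 : ec 540672 ∈ TT := by
  have h : commU 263172 1179680 = 540672 := by decide +kernel
  rw [← h, ec_commU]
  exact TT_comm ec263172.2 ec1179680.2

theorem t9437184 : ec 9437184 ∈ TT := by
  have h : commU 513 4259840 = 9437184 := by decide +kernel
  rw [← h, ec_commU]
  exact TT_comm ec513.2 ec4259840.2

theorem t513 : ec 513 ∈ TT :=
  (ec_conj_TT [0, 3, 1, 2, 1, 2] (by decide) (by decide +kernel) (by decide +kernel)).1 t540672
theorem t80 : ec 80 ∈ TT :=
  (ec_conj_TT [0, 3, 1, 2, 1, 2, 0, 3] (by decide) (by decide +kernel) (by decide +kernel)).1 t9437184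
theorem t8448 : ec 8448 ∈ TT :=
  (ec_conj_TT [1, 2, 1, 2] (by decide) (by decide +kernel) (by decide +kernel)).2 t513
theorem t2129920 : ec 2129920 ∈ TT :=
  (ec_conj_TT [1, 2, 1, 2, 0, 3, 1, 2, 1, 2] (by decide) (by decide +kernel) (by decide +kernel)).2 t513
theorem t266240 : ec 266240 ∈ TT := (ec_conj_TT [0, 3] (by decide) (by decide +kernel) (by decide +kernel)).2 t80
theorem t4259840 : ec 4259840 ∈ TT :=
  (ec_conj_TT [1, 2, 1, 2, 0, 3] (by decide) (by decide +kernel) (by decide +kernel)).2 t80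

theorem ya_mem_TT : ya ∈ TT := by rw [ya_eq]; exact t513
theorem zb_mem_TT : zb ∈ TT := by rw [zb_eq]; exact t80

theorem na_conj_ya : na * ya * na⁻¹ = yam := by
  have h := nw_conj_wd (w := [0, 3]) (by decide) (l := [33, 24]) (by decide)
  have e : ([33, 24].map (act [0, 3])) = [14, 23] := by decide
  rw [e] at h
  exact h

theorem nb_conj_yb : nb * yb * nb⁻¹ = ybm := by
  have h := nw_conj_wd (w := [1, 2, 1, 2]) (by decide) (l := [27, 25, 28]) (by decide)
  have e : ([27, 25, 28].map (act [1, 2, 1, 2])) = [20, 22, 19] := by decide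
  rw [e] at h
  exact h

theorem nb_conj_zb : nb * zb * nb⁻¹ = zbm := by
  have h := nw_conj_wd (w := [1, 2, 1, 2]) (by decide) (l := [28, 30]) (by decide)
  have e : ([28, 30].map (act [1, 2, 1, 2])) = [19, 17] := by decide
  rw [e] at h
  exact h

theorem yam_mem_TT : yam ∈ TT := by
  rw [← na_conj_ya]
  exact TT_conj na_mem_HT ya_mem_TT

theorem zbm_mem_TT : zbm ∈ TT := by
  rw [← nb_conj_zb]
  exact TT_conj nb_mem_HT zb_mem_TT

theorem na_eq : na = ya * yam * ya := by
  have h1 : na = wd [33, 14, 33, 24, 23, 24] := by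
    have e0 : n 0 = wd [33, 14, 33] := n_eq_wd 0
    have e3 : n 3 = wd [24, 23, 24] := n_eq_wd 3
    show nw [0, 3] = _
    have h2 : nw [0, 3] = n 0 * n 3 := by simp [nw]
    rw [h2, e0, e3, ← wd_append]
    rfl
  have h2 : ya * yam * ya = wd [33, 24, 14, 23, 33, 24] := by
    unfold ya yam
    rw [← wd_append, ← wd_append]
    rfl
  rw [h1, h2]
  exact wd_eq _ _ (by decide +kernel)

theorem nb_eq : nb = zb * zbm * zb * zbm * zb := by
  have h1 : nb = wd [27, 20, 27, 25, 22, 25, 27, 20, 27, 25, 22, 25] := by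
    have e0 : n 1 = wd [27, 20, 27] := n_eq_wd 1
    have e3 : n 2 = wd [25, 22, 25] := n_eq_wd 2
    show nw [1, 2, 1, 2] = _
    have h2 : nw [1, 2, 1, 2] = n 1 * n 2 * (n 1 * n 2) := by simp [nw, mul_assoc]
    rw [h2, e0, e3, ← wd_append, ← wd_append]
    rfl
  have h2 : zb * zbm * zb * zbm * zb = wd [28, 30, 19, 17, 28, 30, 19, 17, 28, 30] := by
    unfold zb zbm
    rw [← wd_append, ← wd_append, ← wd_append, ← wd_append]
    rfl
  rw [h1, h2]
  exact wd_eq _ _ (by decide +kernel)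

theorem yb_conj_zbm : yb * zbm * yb⁻¹ = zb * zbm * zb * zbm * zb := by
  have h3 : yb⁻¹ = wd [28, 25, 27] := by
    rw [inv_eq_iff_mul_eq_one]
    unfold yb
    rw [← wd_append, ← wd_nil]
    exact wd_eq _ _ (by decide +kernel)
  have h2 : zb * zbm * zb * zbm * zb = wd [28, 30, 19, 17, 28, 30, 19, 17, 28, 30] := by
    unfold zb zbm
    rw [← wd_append, ← wd_append, ← wd_append, ← wd_append]
    rfl
  rw [h3, h2]
  unfold yb zbm
  rw [← wd_append, ← wd_append]
  exact wd_eq _ _ (by decide +kernel)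

theorem na_mem_TT : na ∈ TT := by
  rw [na_eq]
  exact mul_mem (mul_mem ya_mem_TT yam_mem_TT) ya_mem_TT

theorem nb_mem_TT : nb ∈ TT := by
  rw [nb_eq]
  exact mul_mem (mul_mem (mul_mem (mul_mem zb_mem_TT zbm_mem_TT) zb_mem_TT) zbm_mem_TT) zb_mem_TT

theorem yb_not_mem_TT : yb ∉ TT := by
  intro h
  have h1 : ybm ∈ TT := by
    rw [← nb_conj_yb]
    exact TT_conj nb_mem_HT h
  have h2 : HT ≤ TT := HT_le ya_mem_TT yam_mem_TT h h1
  have h3 : TT.relIndex HT = 1 := Subgroup.relIndex_eq_one.2 h2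
  rw [relIndex_TT] at h3
  exact absurd h3 (by decide)

theorem mul_mem_iff_aux {G : Type*} [Group G] {A B : Subgroup G} (h : A.relIndex B = 2) {a b : G} (ha : a ∈ B)
    (hb : b ∈ B) : a * b ∈ A ↔ (a ∈ A ↔ b ∈ A) := by
  have h1 := Subgroup.mul_mem_iff_of_index_two (H := A.subgroupOf B) h (a := ⟨a, ha⟩) (b := ⟨b, hb⟩)
  simpa [Subgroup.mem_subgroupOf] using h1

theorem TT_mul_iff {a b : LL} (ha : a ∈ HT) (hb : b ∈ HT) : a * b ∈ TT ↔ (a ∈ TT ↔ b ∈ TT) :=
  mul_mem_iff_aux relIndex_TT ha hb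

theorem t74 : ec 74 ∉ TT := by
  rw [← yb_eq]
  exact yb_not_mem_TT
theorem t263172 : ec 263172 ∉ TT := fun h =>
  t74 ((ec_conj_TT [0, 3] (by decide) (by decide +kernel) (by decide +kernel)).1 h)
theorem t4196480 : ec 4196480 ∉ TT := fun h =>
  t74 ((ec_conj_TT [1, 2, 1, 2, 0, 3] (by decide) (by decide +kernel) (by decide +kernel)).1 h)
theorem t1179680 : ec 1179680 ∉ TT := fun h =>
  t74 ((ec_conj_TT [0, 3, 1, 2, 1, 2, 0, 3] (by decide) (by decide +kernel) (by decide +kernel)).1 h)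

theorem gens_par : ∀ g ∈ gens12, (ec g.1 ∈ TT ↔ g.2 = false) := by
  intro g hg
  simp only [gens12, List.mem_cons, List.not_mem_nil, or_false] at hg
  rcases hg with rfl | rfl | rfl | rfl | rfl | rfl | rfl | rfl | rfl | rfl | rfl | rfl
  · exact iff_of_true t513 rfl
  · exact iff_of_false t74 (by decide)
  · exact iff_of_false t263172 (by decide)
  · exact iff_of_true t80 rfl
  · exact iff_of_false t1179680 (by decide)
  · exact iff_of_false t4196480 (by decide)
  · exact iff_of_true t8448 rfl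
  · exact iff_of_true t266240 rfl
  · exact iff_of_true t540672 rfl
  · exact iff_of_true t2129920 rfl
  · exact iff_of_true t4259840 rfl
  · exact iff_of_true t9437184 rfl

theorem lf_mem {gs : List (ℕ × Bool)} (h : ∀ g ∈ gs, ec g.1 ∈ UT) (h' : ∀ g ∈ gs, (ec g.1 ∈ TT ↔ g.2 = false))
    {e : ℕ} {b : Bool} (he : ec e ∈ UT) (hb : ec e ∈ TT ↔ b = false) :
    ∀ q ∈ lf gs e b, ec q.1 ∈ UT ∧ (ec q.1 ∈ TT ↔ q.2 = false) := by
  induction gs generalizing e b with
  | nil =>
    intro q hq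
    rw [lf, List.mem_singleton] at hq
    rw [hq]
    exact ⟨he, hb⟩
  | cons g gs ih =>
    have ih' := fun {e : ℕ} {b : Bool} => ih (fun g' hg' => h g' (List.mem_cons_of_mem _ hg'))
      (fun g' hg' => h' g' (List.mem_cons_of_mem _ hg')) (e := e) (b := b)
    intro q hq
    rw [lf, List.mem_append] at hq
    have hg := h g List.mem_cons_self
    have hg' := h' g List.mem_cons_self
    rcases hq with hq | hq
    · exact ih' he hb q hq
    · refine ih' ?_ ?_ q hq
      · rw [ec_mulU]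
        exact UT.mul_mem he hg
      · rw [ec_mulU, TT_mul_iff he.2 hg.2, hb, hg']
        cases b <;> cases g.2 <;> simp

theorem leaf_mem : ∀ q ∈ lf gens12 0 false, ec q.1 ∈ UT ∧ (ec q.1 ∈ TT ↔ q.2 = false) :=
  lf_mem gens_mem gens_par (by rw [ec_zero]; exact one_mem _) (by rw [ec_zero]; exact iff_of_true (one_mem _) rfl)

theorem leaf_par : ∀ q ∈ lf gens12 0 false, parB q.1 = q.2 ∧ q.1 < 2 ^ 24 := by
  intro q hq
  have h := allP_spec par12 q hq
  rw [Bool.and_eq_true, beq_iff_eq] at h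
  refine ⟨h.1, ?_⟩
  have h2 : q.1 < 16777216 := by
    have h3 := h.2
    rw [Nat.blt_eq] at h3
    exact h3
  exact h2

theorem exists_leaf {g : LL} (hg : g ∈ UT) : ∃ q ∈ lf gens12 0 false, g = ec q.1 := by
  classical
  set L := (lf gens12 0 false).map Prod.fst with hL
  have h1 : L.Nodup := nodup_lf (by decide) sep12
  have h2 : ∀ e ∈ L, e < 2 ^ 24 ∧ ec e ∈ UT := by
    intro e he
    rw [hL, List.mem_map] at he
    obtain ⟨q, hq, rfl⟩ := he
    exact ⟨(leaf_par q hq).2, (leaf_mem q hq).1⟩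
  have h3 : (L.map ec).Nodup := h1.map_on fun a ha b hb hab => ec_inj (h2 a ha).1 (h2 b hb).1 hab
  have h4 : (L.map ec).length = 2 ^ 12 := by
    rw [List.length_map, hL, List.length_map, length_lf]
    rfl
  have h5 : (L.map ec).toFinset.card = 2 ^ 12 := by
    rw [List.toFinset_card_of_nodup h3, h4]
  have h6 : (((L.map ec).toFinset : Finset LL) : Set LL) ⊆ (UT : Set LL) := by
    intro g hg
    rw [Finset.mem_coe, List.mem_toFinset, List.mem_map] at hg
    obtain ⟨e, he, rfl⟩ := hg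
    exact (h2 e he).2
  have h7 : (UT : Set LL).ncard = 2 ^ 12 := by
    rw [← card_UT]
    rfl
  have h8 := Set.eq_of_subset_of_ncard_le h6 (by rw [h7, Set.ncard_coe_finset, h5]) (Set.toFinite _)
  have h9 : g ∈ (((L.map ec).toFinset : Finset LL) : Set LL) := by
    rw [h8]
    exact hg
  rw [Finset.mem_coe, List.mem_toFinset, List.mem_map] at h9
  obtain ⟨e, he, rfl⟩ := h9
  rw [hL, List.mem_map] at he
  obtain ⟨q, hq, rfl⟩ := he
  exact ⟨q, hq, rfl⟩

/-- check at all codes of `UT` -/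
def allU (p : ℕ → Bool) : Bool := allP (fun e _ => p e) gens12 0 false

/-- check at all codes of `UT ⊓ TT` -/
def allS (p : ℕ → Bool) : Bool := allU fun e => cond (parB e) true (p e)

theorem UT_all {p : ℕ → Bool} (h : allU p = true) {g : LL} (hg : g ∈ UT) :
    ∃ e, e < 2 ^ 24 ∧ g = ec e ∧ (g ∈ TT ↔ parB e = false) ∧ p e = true := by
  obtain ⟨q, hq, rfl⟩ := exists_leaf hg
  have h1 := leaf_par q hq
  refine ⟨q.1, h1.2, rfl, ?_, allP_spec h q hq⟩
  rw [h1.1]
  exact (leaf_mem q hq).2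

theorem ST_all {p : ℕ → Bool} (h : allS p = true) {g : LL} (hg : g ∈ UT) (hg' : g ∈ TT) :
    ∃ e, e < 2 ^ 24 ∧ g = ec e ∧ parB e = false ∧ p e = true := by
  obtain ⟨e, he, h1, h2, h3⟩ := UT_all h hg
  have h4 := h2.1 hg'
  refine ⟨e, he, h1, h4, ?_⟩
  rw [h4] at h3
  exact h3

end Cfsg.Agent.TitsK
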