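import Cfsg.Agent.TitsK.Table
import Cfsg.Agent.TitsK.Bound

/-!
Kernel enumerations in `UT`: `no_outer_invol` (no involutions in `UT` outside `TT`), `invol_ST` (the involutions of
`UT ⊓ TT` are conjugate to `z` or to `d`).
-/

set_option autoImplicit false
set_option Elab.async false

namespace Cfsg.Agent.TitsK

open Cfsg.Lie Cfsg.Agent.ChevalleyStructure.TwF4.Tables
open Cfsg.Agent.FourTwo.Base hiding bar bar_lt
open Cfsg.Agent.FourTwo.BN Cfsg.Agent.FourTwo.Comm Cfsg.Agent.FourTwo.Classes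
open Cfsg.Agent.FourTwo.UCode (mulU invU conjU lets colW colF force force_eq mem_lets wel_lets wel_mem)

theorem chk_outer : allU (fun e => cond (parB e) (!Nat.beq (mulU e e) 0) true) = true := by decide +kernel

/-- no involutions in `UT` outside `TT` -/
theorem no_outer_invol {u : LL} (hu : u ∈ UT) (h : u * u = 1) : u ∈ TT := by
  obtain ⟨e, he, rfl, h1, h2⟩ := UT_all chk_outer hu
  rw [h1]
  by_contra h3
  rw [Bool.not_eq_false] at h3
  rw [h3, cond_true, Bool.not_eq_true', ← Bool.not_eq_true] at h2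
  apply h2
  have h4 : ec (mulU e e) = ec 0 := by rw [ec_mulU, h, ec_zero]
  rw [ec_inj (mulU_lt he e) (by norm_num) h4]
  rfl

theorem chk_invol : allS (fun e => cond (Nat.beq (mulU e e) 0) (Nat.beq e 0 || memB e LA || memB e LB) true) = true := by
  decide +kernel

/-- the involutions of `ST` are conjugate in `TT` to `z` or to `d` -/
theorem invol_ST {u : LL} (hu : u ∈ UT) (hT : u ∈ TT) (h : u * u = 1) (h1 : u ≠ 1) :
    (∃ t ∈ TT, t * u * t⁻¹ = z) ∨ (∃ t ∈ TT, t * u * t⁻¹ = d) := by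
  obtain ⟨e, he, rfl, -, h2⟩ := ST_all chk_invol hu hT
  have h4 : ec (mulU e e) = ec 0 := by rw [ec_mulU, h, ec_zero]
  have h5 : mulU e e = 0 := ec_inj (mulU_lt he e) (by norm_num) h4
  have h6 : Nat.beq (mulU e e) 0 = true := by rw [h5]; rfl
  rw [h6, cond_true, Bool.or_eq_true, Bool.or_eq_true] at h2
  rcases h2 with (h2 | h2) | h2
  · exfalso
    rw [Nat.eq_of_beq_eq_true h2, ec_zero] at h1
    exact h1 rfl
  · exact Or.inl (LA_spec e (memB_spec h2))
  · exact Or.inr (LB_spec e (memB_spec h2))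

end Cfsg.Agent.TitsK
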