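import Cfsg.Agent.TitsK.Codes

/-!
Facts about `UT`, `ST = UT ⊓ TT` from codes:

* `UT_le`, `UT_conj_list`: checks on the generators;
* `z`, `z1`, `d`; `z_central`, `conj_z1`, `conj_d`;
* `badW`: an element carried by a Weyl word outside a list;
* `cent_z_cases`, `cent_V_le`, `cent_d_cases`: centralisers in `HT` of `z`, `V`, `d`;
* `invol_cases`: the involutions of `ST`, `conj_z_of_mem`, `conj_d_of_mem`.
-/

set_option autoImplicit false
set_option Elab.async false

namespace Cfsg.Agent.TitsK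

open Cfsg.Lie Cfsg.Agent.ChevalleyStructure.TwF4.Tables
open Cfsg.Agent.FourTwo.Base hiding bar bar_lt
open Cfsg.Agent.FourTwo.BN Cfsg.Agent.FourTwo.Comm Cfsg.Agent.FourTwo.Classes
open Cfsg.Agent.FourTwo.UCode (mulU invU conjU lets colW colF force force_eq mem_lets wel_lets wel_mem)

/-- the 2-central involution of `ST` -/
def z : LL := ec 9437184
/-- the second involution of `Z_2(ST)` -/
def z1 : LL := ec 4259840
/-- an involution which is not 2-central -/
def d : LL := ec 2129920

theorem z_mem : z ∈ UT := ec9437184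
theorem z1_mem : z1 ∈ UT := ec4259840
theorem d_mem : d ∈ UT := ec2129920
theorem z_mem_TT : z ∈ TT := t9437184
theorem z1_mem_TT : z1 ∈ TT := t4259840
theorem d_mem_TT : d ∈ TT := t2129920

theorem z_sq : z * z = 1 := by
  have h : mulU 9437184 9437184 = 0 := by decide +kernel
  unfold z
  rw [← ec_mulU, h, ec_zero]

theorem z1_sq : z1 * z1 = 1 := by
  have h : mulU 4259840 4259840 = 0 := by decide +kernel
  unfold z1
  rw [← ec_mulU, h, ec_zero]

theorem d_sq : d * d = 1 := by
  have h : mulU 2129920 2129920 = 0 := by decide +kernel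
  unfold d
  rw [← ec_mulU, h, ec_zero]

theorem ec_ne_one {e : ℕ} (h : e < 2 ^ 24) (h0 : e ≠ 0) : ec e ≠ 1 := by
  rw [← ec_zero]
  exact fun h1 => h0 (ec_inj h (by norm_num) h1)

theorem z_ne : z ≠ 1 := ec_ne_one (by norm_num) (by norm_num)
theorem z1_ne : z1 ≠ 1 := ec_ne_one (by norm_num) (by norm_num)
theorem d_ne : d ≠ 1 := ec_ne_one (by norm_num) (by norm_num)

theorem z_mul_z1 : z * z1 = ec 13697024 := by
  have h : mulU 9437184 4259840 = 13697024 := by decide +kernel
  unfold z z1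
  rw [← ec_mulU, h]

theorem z1_mul_z : z1 * z = ec 13697024 := by
  have h : mulU 4259840 9437184 = 13697024 := by decide +kernel
  unfold z z1
  rw [← ec_mulU, h]

/-! ### checks on the generators -/

theorem UT_induct {P : LL → Prop} (h1 : P 1) (h2 : ∀ a, ∀ g ∈ gens12, P a → P (a * ec g.1)) {u : LL} (hu : u ∈ UT) :
    P u := by
  have key : ∀ gs : List (ℕ × Bool), (∀ g ∈ gs, g ∈ gens12) → ∀ e b, P (ec e) → ∀ q ∈ lf gs e b, P (ec q.1) := by
    intro gs
    induction gs with
    | nil =>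
      intro _ e b he q hq
      rw [lf, List.mem_singleton] at hq
      rw [hq]
      exact he
    | cons g gs ih =>
      intro hgs e b he q hq
      have hgs' := fun g' hg' => hgs g' (List.mem_cons_of_mem _ hg')
      rw [lf, List.mem_append] at hq
      rcases hq with hq | hq
      · exact ih hgs' e b he q hq
      · refine ih hgs' _ _ ?_ q hq
        rw [ec_mulU]
        exact h2 _ g (hgs g List.mem_cons_self) he
  obtain ⟨q, hq, rfl⟩ := exists_leaf hu
  exact key gens12 (fun _ h => h) 0 false (by rw [ec_zero]; exact h1) q hq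

theorem UT_le {H : Subgroup LL} (h : ∀ g ∈ gens12, ec g.1 ∈ H) : UT ≤ H := by
  intro u hu
  exact UT_induct (P := fun u => u ∈ H) H.one_mem (fun a g hg ha => H.mul_mem ha (h g hg)) hu

theorem UT_conj_list {L : List ℕ} (h : (gens12.all fun g => L.all fun e => L.contains (conjU g.1 e)) = true) {u : LL}
    (hu : u ∈ UT) : ∀ e ∈ L, ∃ e' ∈ L, u * ec e * u⁻¹ = ec e' := by
  refine UT_induct (P := fun u => ∀ e ∈ L, ∃ e' ∈ L, u * ec e * u⁻¹ = ec e') ?_ ?_ hu
  · exact fun e he => ⟨e, he, by group⟩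
  · intro a g hg ha e he
    rw [List.all_eq_true] at h
    have h1 := h g hg
    rw [List.all_eq_true] at h1
    have h2 := h1 e he
    rw [List.contains_iff_mem] at h2
    obtain ⟨e', he', h3⟩ := ha _ h2
    refine ⟨e', he', ?_⟩
    rw [← h3, ec_conjU]
    group

theorem z_central {u : LL} (hu : u ∈ UT) : u * z * u⁻¹ = z := by
  obtain ⟨e, he, h⟩ := UT_conj_list (L := [9437184]) (by decide +kernel) hu 9437184 (by simp)
  rw [List.mem_singleton] at he
  rw [he] at h
  exact h

theorem conj_z1 {u : LL} (hu : u ∈ UT) : u * z1 * u⁻¹ = z1 ∨ u * z1 * u⁻¹ = z * z1 := by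
  obtain ⟨e, he, h⟩ := UT_conj_list (L := [4259840, 13697024]) (by decide +kernel) hu 4259840 (by simp)
  simp only [List.mem_cons, List.not_mem_nil, or_false] at he
  rw [z_mul_z1]
  rcases he with he | he
  · left
    rw [he] at h
    exact h
  · right
    rw [he] at h
    exact h

/-- the conjugates of `d` -/
def D4 : List ℕ := [2129920, 6389760, 11567104, 15826944]

theorem conj_D4 {u : LL} (hu : u ∈ UT) : ∀ e ∈ D4, ∃ e' ∈ D4, u * ec e * u⁻¹ = ec e' :=
  UT_conj_list (by decide +kernel) hu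

/-! ### Weyl words -/

/-- the letters of `e` which stay positive -/
def posP (w : List ℕ) (e : ℕ) : List ℕ := (lets e).filter fun j => decide (24 ≤ act w (24 + j))
/-- the letters of `e` which become negative -/
def negP (w : List ℕ) (e : ℕ) : List ℕ := (lets e).filter fun j => !decide (24 ≤ act w (24 + j))

/-- `w` carries `ec e` outside `U` -/
def outW (w : List ℕ) (e : ℕ) : Bool :=
  Nat.beq (colW (posP w e ++ negP w e)) e && !Nat.beq (colW (negP w e)) 0 && Nat.blt (colW (negP w e)) 16777216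

/-- `w` does not carry `ec e` to an element of the list -/
def badW (w : List ℕ) (e : ℕ) (L : List ℕ) : Bool :=
  outW w e || (posW w e && Nat.blt (reflW w e) 16777216 && !L.contains (reflW w e))

theorem not_mem_U {w : List ℕ} (hw : ∀ i ∈ w, i < 4) {e : ℕ} (h : outW w e = true) :
    nw w * ec e * (nw w)⁻¹ ∉ U := by
  unfold outW at h
  rw [Bool.and_eq_true, Bool.and_eq_true] at h
  obtain ⟨⟨h1, h2⟩, h3⟩ := h
  have h1 := Nat.eq_of_beq_eq_true h1
  have h3 : colW (negP w e) < 16777216 := by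
    rw [Nat.blt_eq] at h3
    exact h3
  have h2 : colW (negP w e) ≠ 0 := by
    intro h4
    rw [h4] at h2
    exact absurd h2 (by decide)
  have hp : ∀ c ∈ posP w e, c < 24 ∧ 24 ≤ act w (24 + c) := by
    intro c hc
    unfold posP at hc
    rw [List.mem_filter] at hc
    exact ⟨(mem_lets.1 hc.1).1, of_decide_eq_true hc.2⟩
  have hn : ∀ c ∈ negP w e, c < 24 ∧ act w (24 + c) < 24 := by
    intro c hc
    unfold negP at hc
    rw [List.mem_filter, Bool.not_eq_true', decide_eq_false_iff_not] at hc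
    exact ⟨(mem_lets.1 hc.1).1, by omega⟩
  intro hU
  have hp' : ∀ c ∈ posP w e, c < 24 := fun c hc => (hp c hc).1
  have hn' : ∀ c ∈ negP w e, c < 24 := fun c hc => (hn c hc).1
  have e1 : ec e = wd ((posP w e).map fun j => 24 + j) * wd ((negP w e).map fun j => 24 + j) := by
    rw [← wd_append, ← List.map_append, wd_eq_ec, h1]
    intro c hc
    rw [List.mem_append] at hc
    rcases hc with hc | hc
    · exact hp' c hc
    · exact hn' c hc
  set a := nw w * wd ((posP w e).map fun j => 24 + j) * (nw w)⁻¹ with ha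
  set b := nw w * wd ((negP w e).map fun j => 24 + j) * (nw w)⁻¹ with hb
  have hpl : ∀ r ∈ (posP w e).map (fun j => 24 + j), r < 48 := by
    intro r hr
    rw [List.mem_map] at hr
    obtain ⟨j, hj, rfl⟩ := hr
    have := hp' j hj
    omega
  have hnl : ∀ r ∈ (negP w e).map (fun j => 24 + j), r < 48 := by
    intro r hr
    rw [List.mem_map] at hr
    obtain ⟨j, hj, rfl⟩ := hr
    have := hn' j hj
    omega
  have e2 : nw w * ec e * (nw w)⁻¹ = a * b := by
    rw [e1, ha, hb]
    group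
  have haU : a ∈ U := by
    rw [ha, nw_conj_wd hw hpl]
    refine wd_mem_U fun r hr => ?_
    rw [List.mem_map] at hr
    obtain ⟨s, hs, rfl⟩ := hr
    refine ⟨?_, act_lt hw (hpl s hs)⟩
    rw [List.mem_map] at hs
    obtain ⟨j, hj, rfl⟩ := hs
    exact (hp j hj).2
  have hbV : b ∈ V := by
    rw [hb, nw_conj_wd hw hnl]
    refine wd_mem fun r hr => ?_
    rw [List.mem_map] at hr
    obtain ⟨s, hs, rfl⟩ := hr
    apply x_mem_V
    rw [List.mem_map] at hs
    obtain ⟨j, hj, rfl⟩ := hs
    exact (hn j hj).2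
  rw [e2] at hU
  have hbU : b ∈ U := by
    have h5 := U.mul_mem (U.inv_mem haU) hU
    rw [inv_mul_cancel_left] at h5
    exact h5
  have h6 : b ∈ U ⊓ V := ⟨hbU, hbV⟩
  rw [U_inf_V, Subgroup.mem_bot, hb] at h6
  have h7 : wd ((negP w e).map fun j => 24 + j) = 1 := by
    have h8 : wd ((negP w e).map fun j => 24 + j) =
        (nw w)⁻¹ * (nw w * wd ((negP w e).map fun j => 24 + j) * (nw w)⁻¹) * nw w := by group
    rw [h8, h6]
    group
  rw [wd_eq_ec _ hn', ← ec_zero] at h7
  exact h2 (ec_inj h3 (by norm_num) h7)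

theorem not_mem_of_badW {w : List ℕ} (hw : ∀ i ∈ w, i < 4) {e : ℕ} {L : List ℕ} (hL : ∀ e' ∈ L, e' < 2 ^ 24)
    (h : badW w e L = true) {e' : ℕ} (he' : e' ∈ L) : nw w * ec e * (nw w)⁻¹ ≠ ec e' := by
  intro h1
  unfold badW at h
  rw [Bool.or_eq_true, Bool.and_eq_true, Bool.and_eq_true] at h
  rcases h with h | ⟨⟨h2, h3⟩, h4⟩
  · apply not_mem_U hw h
    rw [h1]
    exact ec_mem_U e'
  · rw [nw_conj_ec hw h2] at h1
    rw [Nat.blt_eq] at h3
    have h5 := ec_inj h3 (hL e' he') h1
    rw [h5, Bool.not_eq_true', ← Bool.not_eq_true] at h4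
    exact h4 (List.contains_iff_mem.2 he')

/-! ### the centraliser of `z` -/

theorem W_z : (W16.all fun w => w == [] || w == [1, 2, 1, 2] || badW w 9437184 [9437184]) = true := by decide +kernel

theorem cent_z_cases {g : LL} (hg : g ∈ HT) (h : g * z * g⁻¹ = z) :
    ∃ u ∈ UT, ∃ v ∈ UT, g = u * v ∨ g = u * nb * v := by
  obtain ⟨u, hu, w, hw, v, hv, rfl⟩ := bruhat_HT hg
  refine ⟨u, hu, v, hv, ?_⟩
  have h1 : nw w * z * (nw w)⁻¹ = z := by
    have e : nw w * z * (nw w)⁻¹ = u⁻¹ * (u * nw w * v * (v⁻¹ * z * (v⁻¹)⁻¹) * (u * nw w * v)⁻¹) * (u⁻¹)⁻¹ := by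
      group
    rw [e, z_central (inv_mem hv), h, z_central (inv_mem hu)]
  have h2 := W_z
  rw [List.all_eq_true] at h2
  have h3 := h2 w hw
  rw [Bool.or_eq_true, Bool.or_eq_true, beq_iff_eq, beq_iff_eq] at h3
  rcases h3 with (h3 | h3) | h3
  · left
    rw [h3]
    show u * 1 * v = u * v
    rw [mul_one]
  · right
    rw [h3]
    rfl
  · exact absurd h1 (not_mem_of_badW (lt_of_mem_W16 hw) (by simp) h3 (List.mem_singleton.2 rfl))

/-- `nb` fixes `z` -/
theorem nb_conj_z : nb * z * nb⁻¹ = z := by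
  have h := nw_conj_ec (w := [1, 2, 1, 2]) (e := 9437184) (by decide) (by decide +kernel)
  have e : reflW [1, 2, 1, 2] 9437184 = 9437184 := by decide +kernel
  rw [e] at h
  exact h

theorem nb_conj_z1 : nb * z1 * nb⁻¹ = ec 266240 := by
  have h := nw_conj_ec (w := [1, 2, 1, 2]) (e := 4259840) (by decide) (by decide +kernel)
  have e : reflW [1, 2, 1, 2] 4259840 = 266240 := by decide +kernel
  rw [e] at h
  exact h

theorem na_conj_z : na * z * na⁻¹ = z1 := by
  have h := nw_conj_ec (w := [0, 3]) (e := 9437184) (by decide) (by decide +kernel)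
  have e : reflW [0, 3] 9437184 = 4259840 := by decide +kernel
  rw [e] at h
  exact h

theorem na_conj_z1 : na * z1 * na⁻¹ = z := by
  have h := nw_conj_ec (w := [0, 3]) (e := 4259840) (by decide) (by decide +kernel)
  have e : reflW [0, 3] 4259840 = 9437184 := by decide +kernel
  rw [e] at h
  exact h

/-- the centraliser of `V = ⟨z, z1⟩` lies in `UT` -/
theorem cent_V_le {g : LL} (hg : g ∈ HT) (h : g * z * g⁻¹ = z) (h1 : g * z1 * g⁻¹ = z1) : g ∈ UT := by
  obtain ⟨u, hu, v, hv, rfl | rfl⟩ := cent_z_cases hg h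
  · exact UT.mul_mem hu hv
  · exfalso
    have h2 : nb * (v * z1 * v⁻¹) * nb⁻¹ = u⁻¹ * z1 * (u⁻¹)⁻¹ := by
      have e : nb * (v * z1 * v⁻¹) * nb⁻¹ = u⁻¹ * (u * nb * v * z1 * (u * nb * v)⁻¹) * (u⁻¹)⁻¹ := by group
      rw [e, h1]
    have h3 : nb * (z * z1) * nb⁻¹ = z * ec 266240 := by
      have e : nb * (z * z1) * nb⁻¹ = nb * z * nb⁻¹ * (nb * z1 * nb⁻¹) := by group
      rw [e, nb_conj_z, nb_conj_z1]
    have h4 : z * ec 266240 = ec 9703424 := by
      have h5 : mulU 9437184 266240 = 9703424 := by decide +kernel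
      unfold z
      rw [← ec_mulU, h5]
    have key : ∀ a b : ℕ, a < 2 ^ 24 → b < 2 ^ 24 → a ≠ b → ec a = ec b → False := fun a b ha hb hab he =>
      hab (ec_inj ha hb he)
    rcases conj_z1 hv with e1 | e1 <;> rcases conj_z1 (inv_mem hu) with e2 | e2
    · rw [e1, e2, nb_conj_z1] at h2
      exact key 266240 4259840 (by norm_num) (by norm_num) (by norm_num) h2
    · rw [e1, e2, nb_conj_z1, z_mul_z1] at h2
      exact key 266240 13697024 (by norm_num) (by norm_num) (by norm_num) h2
    · rw [e1, e2, h3, h4] at h2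
      exact key 9703424 4259840 (by norm_num) (by norm_num) (by norm_num) h2
    · rw [e1, e2, h3, h4, z_mul_z1] at h2
      exact key 9703424 13697024 (by norm_num) (by norm_num) (by norm_num) h2

/-! ### the centraliser of `d` -/

theorem W_d : (W16.all fun w => w == [] || w == [0, 3] || D4.all fun e => badW w e D4) = true := by decide +kernel

theorem cent_d_cases {g : LL} (hg : g ∈ HT) (h : g * d * g⁻¹ = d) :
    ∃ u ∈ UT, ∃ v ∈ UT, g = u * v ∨ g = u * na * v := by
  obtain ⟨u, hu, w, hw, v, hv, rfl⟩ := bruhat_HT hg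
  refine ⟨u, hu, v, hv, ?_⟩
  obtain ⟨e, he, h1⟩ := conj_D4 hv 2129920 (by decide)
  obtain ⟨e', he', h1'⟩ := conj_D4 (inv_mem hu) 2129920 (by decide)
  have h4 : nw w * ec e * (nw w)⁻¹ = ec e' := by
    rw [← h1, ← h1']
    have e : nw w * (v * ec 2129920 * v⁻¹) * (nw w)⁻¹ = u⁻¹ * (u * nw w * v * d * (u * nw w * v)⁻¹) * (u⁻¹)⁻¹ := by
      unfold d
      group
    rw [e, h]
    rfl
  have h2 := W_d
  rw [List.all_eq_true] at h2
  have h3 := h2 w hw
  rw [Bool.or_eq_true, Bool.or_eq_true, beq_iff_eq, beq_iff_eq] at h3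
  rcases h3 with (h3 | h3) | h3
  · left
    rw [h3]
    show u * 1 * v = u * v
    rw [mul_one]
  · right
    rw [h3]
    rfl
  · rw [List.all_eq_true] at h3
    exact absurd h4 (not_mem_of_badW (lt_of_mem_W16 hw) (by decide) (h3 e he) he')

end Cfsg.Agent.TitsK
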