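import Mathlib

/-!
# Relative lemmas for the K-facts of the Tits group (helper795)

Everything in an abstract group `G`.
-/

set_option autoImplicit false

namespace Cfsg.Agent.TitsK.KAbs

variable {G : Type*} [Group G]

/-- a 2-subgroup of `H` is conjugate to a subgroup of `U`, `|H : U|` odd -/
theorem exists_conj_le [Finite G] {U H B : Subgroup G} (hodd : ¬ 2 ∣ U.relIndex H) (hBH : B ≤ H)
    (hB : IsPGroup 2 ↥B) : ∃ h ∈ H, ∀ b ∈ B, h⁻¹ * b * h ∈ U := by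
  have : Fact (Nat.Prime 2) := ⟨Nat.prime_two⟩
  let f : ↥B →* ↥H := Subgroup.inclusion hBH
  let _ : MulAction ↥B (↥H ⧸ U.subgroupOf H) := MulAction.compHom _ f
  have hc : ¬ 2 ∣ Nat.card (↥H ⧸ U.subgroupOf H) := hodd
  obtain ⟨q, hq⟩ := hB.nonempty_fixed_point_of_prime_not_dvd_card (↥H ⧸ U.subgroupOf H) hc
  obtain ⟨h, rfl⟩ := QuotientGroup.mk_surjective q
  refine ⟨h, h.2, fun b hb => ?_⟩
  have h1 : (⟨b, hb⟩ : ↥B) • ((h : ↥H) : ↥H ⧸ U.subgroupOf H) = (h : ↥H ⧸ U.subgroupOf H) := hq ⟨b, hb⟩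
  have h2 : ((f ⟨b, hb⟩ * h : ↥H) : ↥H ⧸ U.subgroupOf H) = (h : ↥H ⧸ U.subgroupOf H) := h1
  rw [eq_comm, QuotientGroup.eq, Subgroup.mem_subgroupOf] at h2
  have e : (((h : ↥H)⁻¹ * (f ⟨b, hb⟩ * h) : ↥H) : G) = (h : G)⁻¹ * b * h := by
    show (h : G)⁻¹ * (b * h) = _
    group
  rw [e] at h2
  exact h2

/-- bounds for the order of elementary abelian subgroups pass to conjugates -/
theorem card_le_of_conj {U B : Subgroup G} {n : ℕ}
    (hU : ∀ B' : Subgroup G, B' ≤ U → (∀ a ∈ B', a * a = 1) → Nat.card ↥B' ≤ n) (hsq : ∀ a ∈ B, a * a = 1) {h : G}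
    (h2 : ∀ b ∈ B, h⁻¹ * b * h ∈ U) : Nat.card ↥B ≤ n := by
  have h3 : Nat.card ↥(B.map (MulAut.conj h⁻¹).toMonoidHom) = Nat.card ↥B :=
    (Nat.card_congr (B.equivMapOfInjective _ (MulAut.conj h⁻¹).injective).toEquiv).symm
  rw [← h3]
  apply hU
  · rintro _ ⟨b, hb, rfl⟩
    show h⁻¹ * b * h⁻¹⁻¹ ∈ U
    rw [inv_inv]
    exact h2 b hb
  · rintro _ ⟨b, hb, rfl⟩
    rw [← map_mul, hsq b hb, map_one]

/-- an elementary abelian subgroup which lies in the union of two subgroups of order `n` -/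
theorem eq_or_eq [Finite G] {B A A1 : Subgroup G} (h : ∀ b ∈ B, b ∈ A ∨ b ∈ A1) {n : ℕ} (hA : Nat.card ↥A = n)
    (hA1 : Nat.card ↥A1 = n) (hn : n ≤ Nat.card ↥B) : B = A ∨ B = A1 := by
  have h1 : B ≤ A ∨ B ≤ A1 := by
    by_contra hc
    rw [not_or, SetLike.not_le_iff_exists, SetLike.not_le_iff_exists] at hc
    obtain ⟨⟨a, ha, ha'⟩, b, hb, hb'⟩ := hc
    have ha1 := (h a ha).resolve_left ha'
    have hb1 := (h b hb).resolve_right hb'
    rcases h _ (mul_mem ha hb) with h2 | h2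
    · apply ha'
      have e : a = a * b * b⁻¹ := by group
      rw [e]
      exact mul_mem h2 (inv_mem hb1)
    · apply hb'
      have e : b = a⁻¹ * (a * b) := by group
      rw [e]
      exact mul_mem (inv_mem ha1) h2
  rcases h1 with h1 | h1
  · left
    exact Subgroup.eq_of_le_of_card_ge h1 (by rw [hA]; exact hn)
  · right
    exact Subgroup.eq_of_le_of_card_ge h1 (by rw [hA1]; exact hn)

/-! ### passage to a subgroup `S` -/

theorem card_map {S : Subgroup G} (B : Subgroup ↥S) : Nat.card ↥(B.map S.subtype) = Nat.card ↥B :=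
  (Nat.card_congr (B.equivMapOfInjective S.subtype S.subtype_injective).toEquiv).symm

theorem eq_subgroupOf {S : Subgroup G} {B : Subgroup ↥S} {A : Subgroup G} (h : B.map S.subtype = A) :
    B = A.subgroupOf S := by
  rw [← h, Subgroup.subgroupOf, Subgroup.comap_map_eq_self_of_injective S.subtype_injective]

/-- (K2) in the group `↥S` -/
theorem two_sub {S U A A1 : Subgroup G} {n : ℕ} (h : ∀ B : Subgroup G, B ≤ U → (∀ a ∈ B, a * a = 1) →
      (∀ u ∈ U ⊓ S, ∀ a ∈ B, u * a * u⁻¹ ∈ B) → n ≤ Nat.card ↥B → B = A ∨ B = A1)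
    (B : Subgroup ↥S) (hB : B ≤ U.subgroupOf S) (hsq : ∀ a ∈ B, a * a = 1)
    (hn : ∀ u ∈ U.subgroupOf S, ∀ a ∈ B, u * a * u⁻¹ ∈ B) (hc : n ≤ Nat.card ↥B) :
    B = A.subgroupOf S ∨ B = A1.subgroupOf S := by
  have h1 := h (B.map S.subtype) ?_ ?_ ?_ ?_
  · rcases h1 with h1 | h1
    · exact Or.inl (eq_subgroupOf h1)
    · exact Or.inr (eq_subgroupOf h1)
  · rintro _ ⟨b, hb, rfl⟩
    exact hB hb
  · rintro _ ⟨b, hb, rfl⟩
    rw [← map_mul, hsq b hb, map_one]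
  · rintro u hu _ ⟨b, hb, rfl⟩
    exact ⟨_, hn ⟨u, hu.2⟩ hu.1 b hb, rfl⟩
  · rw [card_map]
    exact hc

/-- (K3) in the group `↥S` -/
theorem three_sub {S : Subgroup G} {n : ℕ} (h : ∀ B : Subgroup G, B ≤ S → (∀ a ∈ B, a * a = 1) → Nat.card ↥B ≤ n)
    (B : Subgroup ↥S) (hsq : ∀ a ∈ B, a * a = 1) : Nat.card ↥B ≤ n := by
  rw [← card_map]
  apply h
  · rintro _ ⟨b, hb, rfl⟩
    exact b.2
  · rintro _ ⟨b, hb, rfl⟩
    rw [← map_mul, hsq b hb, map_one]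

/-- (K4) in the group `↥S` -/
theorem four_sub {S U : Subgroup G} (h : ∀ y ∈ S, (∀ u ∈ U ⊓ S, y * u * y⁻¹ ∈ U) → y ∈ U) (y : ↥S)
    (hy : ∀ u ∈ U.subgroupOf S, y * u * y⁻¹ ∈ U.subgroupOf S) : y ∈ U.subgroupOf S :=
  h y y.2 fun u hu => hy ⟨u, hu.2⟩ hu.1

/-- `C(U)` in the group `↥S` -/
theorem cent_sub {S U : Subgroup G} {z : G} (hz : z ∈ S)
    (h : ∀ y ∈ S, (∀ u ∈ U ⊓ S, y * u = u * y) → y = 1 ∨ y = z) (y : ↥S)
    (hy : ∀ u ∈ U.subgroupOf S, y * u = u * y) : y = 1 ∨ y = ⟨z, hz⟩ := by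
  rcases h y y.2 fun u hu => congrArg Subtype.val (hy ⟨u, hu.2⟩ hu.1) with h1 | h1
  · exact Or.inl (Subtype.ext h1)
  · exact Or.inr (Subtype.ext h1)

theorem isPGroup_sub {S U : Subgroup G} (h : IsPGroup 2 ↥U) : IsPGroup 2 ↥(U.subgroupOf S) :=
  h.comap_of_injective S.subtype S.subtype_injective

end Cfsg.Agent.TitsK.KAbs
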