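import Cfsg.Agent.TitsK.KDef

/-!
Checks for KTwo: (K1), `C(A1T)` (helper795).
-/

set_option autoImplicit false
set_option Elab.async false

namespace Cfsg.Agent.TitsK

open Cfsg.Lie Cfsg.Agent.ChevalleyStructure.TwF4.Tables
open Cfsg.Agent.FourTwo.Base hiding bar bar_lt
open Cfsg.Agent.FourTwo.BN Cfsg.Agent.FourTwo.Comm Cfsg.Agent.FourTwo.Classes
open Cfsg.Agent.FourTwo.UCode (mulU invU conjU lets colW colF force force_eq mem_lets wel_lets wel_mem)

/-- the predicate of `chk_zeeU` -/
def p_chk_zeeU : ℕ → Bool := fun e => memB e [0, 9437184, 4259840, 13697024] ||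
    !(Sg.all fun c => force (commU e c) fun f => Nat.beq f 0 || Nat.beq f 9437184)

theorem chk_zeeU_0 : sub4 p_chk_zeeU 0 false = true := by decide +kernel
theorem chk_zeeU_1 : sub4 p_chk_zeeU 74 true = true := by decide +kernel
theorem chk_zeeU_2 : sub4 p_chk_zeeU 513 false = true := by decide +kernel
theorem chk_zeeU_3 : sub4 p_chk_zeeU 140875 true = true := by decide +kernel

theorem chk_zeeU : allU (fun e => memB e [0, 9437184, 4259840, 13697024] ||
    !(Sg.all fun c => force (commU e c) fun f => Nat.beq f 0 || Nat.beq f 9437184)) = true :=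
  allU_of4 (p := p_chk_zeeU) chk_zeeU_0 chk_zeeU_1 chk_zeeU_2 chk_zeeU_3

/-- the predicate of `chk_cent_A1` -/
def p_chk_cent_A1 : ℕ → Bool := fun e => memB e LA1 ||
    !([8448, 540672, 2129920, 4259840, 9437184].all fun c => Nat.beq (mulU e c) (mulU c e))

theorem chk_cent_A1_0 : sub4 p_chk_cent_A1 0 false = true := by decide +kernel
theorem chk_cent_A1_1 : sub4 p_chk_cent_A1 74 true = true := by decide +kernel
theorem chk_cent_A1_2 : sub4 p_chk_cent_A1 513 false = true := by decide +kernel
theorem chk_cent_A1_3 : sub4 p_chk_cent_A1 140875 true = true := by decide +kernel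

theorem chk_cent_A1 : allU (fun e => memB e LA1 ||
    !([8448, 540672, 2129920, 4259840, 9437184].all fun c => Nat.beq (mulU e c) (mulU c e))) = true :=
  allU_of4 (p := p_chk_cent_A1) chk_cent_A1_0 chk_cent_A1_1 chk_cent_A1_2 chk_cent_A1_3

end Cfsg.Agent.TitsK
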