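import Cfsg.Agent.TitsK.KDef

/-!
Check for KTwo: (K2) (helper795).
-/

set_option autoImplicit false
set_option Elab.async false

namespace Cfsg.Agent.TitsK

open Cfsg.Lie Cfsg.Agent.ChevalleyStructure.TwF4.Tables
open Cfsg.Agent.FourTwo.Base hiding bar bar_lt
open Cfsg.Agent.FourTwo.BN Cfsg.Agent.FourTwo.Comm Cfsg.Agent.FourTwo.Classes
open Cfsg.Agent.FourTwo.UCode (mulU invU conjU lets colW colF force force_eq mem_lets wel_lets wel_mem)

/-- the predicate of `chk_two` -/
def p_chk_two : ℕ → Bool := fun e => cond (Nat.beq (mulU e e) 0) (memB e A32 || memB e LA1 ||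
    Sg.any fun c => force (conjU c e) fun f => !Nat.beq (mulU e f) (mulU f e)) true

theorem chk_two_0 : sub4S p_chk_two 0 false = true := by decide +kernel
theorem chk_two_1 : sub4S p_chk_two 74 true = true := by decide +kernel
theorem chk_two_2 : sub4S p_chk_two 513 false = true := by decide +kernel
theorem chk_two_3 : sub4S p_chk_two 140875 true = true := by decide +kernel

theorem chk_two : allS (fun e => cond (Nat.beq (mulU e e) 0) (memB e A32 || memB e LA1 ||
    Sg.any fun c => force (conjU c e) fun f => !Nat.beq (mulU e f) (mulU f e)) true) = true :=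
  allS_of4 (p := p_chk_two) chk_two_0 chk_two_1 chk_two_2 chk_two_3

end Cfsg.Agent.TitsK
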