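import Cfsg.Agent.TitsK.KDef

/-!
Checks for KTwo: `C(A0T)`, `C(A1T)` modulo `z` (helper795).
-/

set_option autoImplicit false
set_option Elab.async false

namespace Cfsg.Agent.TitsK

open Cfsg.Lie Cfsg.Agent.ChevalleyStructure.TwF4.Tables
open Cfsg.Agent.FourTwo.Base hiding bar bar_lt
open Cfsg.Agent.FourTwo.BN Cfsg.Agent.FourTwo.Comm Cfsg.Agent.FourTwo.Classes
open Cfsg.Agent.FourTwo.UCode (mulU invU conjU lets colW colF force force_eq mem_lets wel_lets wel_mem)

/-- the predicate of `chk_cent_A0` -/
def p_chk_cent_A0 : ℕ → Bool := fun e => memB e LAA1 || !(g0.all fun c => Nat.beq (mulU e c) (mulU c e))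

theorem chk_cent_A0_0 : sub4S p_chk_cent_A0 0 false = true := by decide +kernel
theorem chk_cent_A0_1 : sub4S p_chk_cent_A0 74 true = true := by decide +kernel
theorem chk_cent_A0_2 : sub4S p_chk_cent_A0 513 false = true := by decide +kernel
theorem chk_cent_A0_3 : sub4S p_chk_cent_A0 140875 true = true := by decide +kernel

theorem chk_cent_A0 : allS (fun e => memB e LAA1 || !(g0.all fun c => Nat.beq (mulU e c) (mulU c e))) = true :=
  allS_of4 (p := p_chk_cent_A0) chk_cent_A0_0 chk_cent_A0_1 chk_cent_A0_2 chk_cent_A0_3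

/-- the predicate of `chk_A1z` -/
def p_chk_A1z : ℕ → Bool := fun e => memB e LAA1 ||
    !([8448, 540672, 2129920, 4259840].all fun c => force (commU c e) fun f => Nat.beq f 0 || Nat.beq f 9437184)

theorem chk_A1z_0 : sub4S p_chk_A1z 0 false = true := by decide +kernel
theorem chk_A1z_1 : sub4S p_chk_A1z 74 true = true := by decide +kernel
theorem chk_A1z_2 : sub4S p_chk_A1z 513 false = true := by decide +kernel
theorem chk_A1z_3 : sub4S p_chk_A1z 140875 true = true := by decide +kernel

theorem chk_A1z : allS (fun e => memB e LAA1 ||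
    !([8448, 540672, 2129920, 4259840].all fun c => force (commU c e) fun f => Nat.beq f 0 || Nat.beq f 9437184)) = true :=
  allS_of4 (p := p_chk_A1z) chk_A1z_0 chk_A1z_1 chk_A1z_2 chk_A1z_3

end Cfsg.Agent.TitsK
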