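import Cfsg.Agent.TitsK.ParA

/-!
# Definitions and cuts for the checks of KTwo, KThree (helper795)

* `allU_of4`, `allS_of4`, `cnt_of4`: the check over the 4096 codes as four checks over 1024 codes.
-/

set_option autoImplicit false
set_option Elab.async false

namespace Cfsg.Agent.TitsK

open Cfsg.Lie Cfsg.Agent.ChevalleyStructure.TwF4.Tables
open Cfsg.Agent.FourTwo.Base hiding bar bar_lt
open Cfsg.Agent.FourTwo.BN Cfsg.Agent.FourTwo.Comm Cfsg.Agent.FourTwo.Classes
open Cfsg.Agent.FourTwo.UCode (mulU invU conjU lets colW colF force force_eq mem_lets wel_lets wel_mem)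

/-- codes of the second subgroup -/
def LA1 : List ℕ := [0, 8448, 540672, 549120, 2129920, 2138368, 2670592, 2679040, 4259840, 4268288, 4800512,
  4808960, 6389760, 6398208, 6930432, 6938880, 9437184, 9445632, 9977856, 9986304, 11567104, 11575552, 12107776,
  12116224, 13697024, 13705472, 14237696, 14246144, 15826944, 15835392, 16367616, 16376064]

/-- codes of `AA A1T` -/
def LAA1 : List ℕ := [0, 8448, 266240, 540672, 549120, 806912, 1323264, 1863936, 2129920, 2138368, 2396160, 2670592,
  2679040, 2936832, 3453184, 3993856, 4259840, 4268288, 4526080, 4800512, 4808960, 5066752, 5583104, 6123776, 6389760,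
  6398208, 6656000, 6930432, 6938880, 7196672, 7713024, 8253696, 8663296, 9203968, 9437184, 9445632, 9703424, 9977856,
  9986304, 10244096, 10793216, 11333888, 11567104, 11575552, 11833344, 12107776, 12116224, 12374016, 12923136,
  13463808, 13697024, 13705472, 13963264, 14237696, 14246144, 14503936, 15053056, 15593728, 15826944, 15835392,
  16093184, 16367616, 16376064, 16633856]

/-- generators of `AA ⊓ A1T` -/
def g0 : List ℕ := [540672, 2129920, 4259840, 9437184]

/-! ### counting -/

/-- the number of leaves with `p` -/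
def cntP (p : ℕ → Bool) (gs : List (ℕ × Bool)) (e : ℕ) : ℕ :=
  List.rec (motive := fun _ => ℕ → ℕ) (fun e => cond (p e) 1 0)
    (fun g _ ih e => Nat.add (ih e) (force (mulU e g.1) ih)) gs e

theorem cntP_nil (p : ℕ → Bool) (e : ℕ) : cntP p [] e = cond (p e) 1 0 := rfl

theorem cntP_cons (p : ℕ → Bool) (g : ℕ × Bool) (gs : List (ℕ × Bool)) (e : ℕ) :
    cntP p (g :: gs) e = cntP p gs e + cntP p gs (mulU e g.1) := by
  show Nat.add (cntP p gs e) (force (mulU e g.1) (cntP p gs)) = _
  rw [force_eq]
  rfl

/-- the elements of `ST` with square in `A1T` -/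
def pKA (e : ℕ) : Bool := cond (parB e) false (memB (mulU e e) LA1)

/-- `[a, e] ∈ ⟨z⟩` for the generators of `A1T` -/
def pKW (e : ℕ) : Bool :=
  [8448, 540672, 2129920, 4259840].all fun c => force (commU c e) fun f => Nat.beq f 0 || Nat.beq f 9437184

/-! ### cuts -/

/-- the generators without the first two -/
def gens10 : List (ℕ × Bool) := [(263172, true), (80, false), (1179680, true), (4196480, true), (8448, false),
  (266240, false), (540672, false), (2129920, false), (4259840, false), (9437184, false)]

theorem gens12_eq : gens12 = (513, false) :: (74, true) :: gens10 := rfl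

theorem mulU_0_74 : mulU 0 74 = 74 := by decide +kernel
theorem mulU_0_513 : mulU 0 513 = 513 := by decide +kernel
theorem mulU_513_74 : mulU 513 74 = 140875 := by decide +kernel

/-- the check at the 1024 codes below `e` -/
def sub4 (p : ℕ → Bool) (e : ℕ) (b : Bool) : Bool := allP (fun e _ => p e) gens10 e b

theorem allU_of4 {p : ℕ → Bool} (h0 : sub4 p 0 false = true) (h1 : sub4 p 74 true = true)
    (h2 : sub4 p 513 false = true) (h3 : sub4 p 140875 true = true) : allU p = true := by
  unfold allU
  rw [gens12_eq, allP_cons, allP_cons, allP_cons, mulU_0_74, mulU_0_513, mulU_513_74]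
  unfold sub4 at h0 h1 h2 h3
  show ((allP (fun e _ => p e) gens10 0 false && allP (fun e _ => p e) gens10 74 true) &&
    (allP (fun e _ => p e) gens10 513 false && allP (fun e _ => p e) gens10 140875 true)) = true
  rw [h0, h1, h2, h3]
  rfl

/-- the check at the codes of `ST` below `e` -/
def sub4S (p : ℕ → Bool) (e : ℕ) (b : Bool) : Bool := sub4 (fun e => cond (parB e) true (p e)) e b

theorem allS_of4 {p : ℕ → Bool} (h0 : sub4S p 0 false = true) (h1 : sub4S p 74 true = true)
    (h2 : sub4S p 513 false = true) (h3 : sub4S p 140875 true = true) : allS p = true :=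
  allU_of4 h0 h1 h2 h3

theorem cnt_of4 {p : ℕ → Bool} {a b c d n : ℕ} (h0 : cntP p gens10 0 = a) (h1 : cntP p gens10 74 = b)
    (h2 : cntP p gens10 513 = c) (h3 : cntP p gens10 140875 = d) (hn : a + b + (c + d) = n) :
    cntP p gens12 0 = n := by
  rw [gens12_eq, cntP_cons, cntP_cons, cntP_cons, mulU_0_74, mulU_0_513, mulU_513_74, h0, h1, h2, h3, hn]

end Cfsg.Agent.TitsK
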