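import Cfsg.Agent.OddHalf.D7Tits.Defs
import Cfsg.Agent.TitsK.KAbs

/-!
`KG L` : the K-facts `Defs.KT` for a subgroup `L` of a group `G`, in terms of elements of `G`; `KG.kt : KT ↥L`.
-/

set_option autoImplicit false

namespace Cfsg.Agent.TitsK

open Cfsg.Agent.OddHalf.D7Tits.Defs
open scoped commutatorElement

/-- the K-facts for the subgroup `L` -/
structure KG {G : Type*} [Group G] (L : Subgroup G) where
  z : G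
  x : G
  s : G
  j : G
  q : ZMod 5 → G
  r : G
  aj : G
  aw : G
  t : G
  U : Subgroup G
  P : Subgroup G
  Q : Subgroup G
  A : Subgroup G
  E : Subgroup G
  A₁ : Subgroup G
  fin : Finite ↥L
  P_le : P ≤ L
  t_conj : ∀ y ∈ L, t * y * t⁻¹ ∈ L
  t_conj' : ∀ y ∈ L, t⁻¹ * y * t ∈ L
  zz : z * z = 1
  z1 : z ≠ 1
  mem_P : ∀ y ∈ L, (y ∈ P ↔ y * z = z * y)
  z_A : z ∈ A
  A_le_Q : A ≤ Q
  Q_le_E : Q ≤ E
  E_le_P : E ≤ P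
  Q_le_U : Q ≤ U
  U_le_P : U ≤ P
  x_E : x ∈ E
  s_U : s ∈ U
  j_U : j ∈ U
  r_Q : r ∈ Q
  q_A : ∀ k, q k ∈ A
  card_A : Nat.card ↥A = 2 ^ 5
  card_Q : Nat.card ↥Q = 2 ^ 9
  sq_A : ∀ a ∈ A, a * a = 1
  x5 : x ^ 5 = 1
  x1 : x ≠ 1
  s4 : s ^ 4 = 1
  x_s : s⁻¹ * x * s = x * x
  j_or : j = 1 ∨ (j * j = z ∧ t = j)
  nor_A : ∀ p ∈ P, ∀ a ∈ A, p * a * p⁻¹ ∈ A
  nor_Q : ∀ p ∈ P, ∀ a ∈ Q, p * a * p⁻¹ ∈ Q
  nor_E : ∀ p ∈ P, ∀ a ∈ E, p * a * p⁻¹ ∈ E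
  E_cases : ∀ e ∈ E, ∃ u ∈ Q, ∃ k : ℕ, e = u * x ^ k
  P_cases : ∀ p ∈ P, ∃ e ∈ E, ∃ k l : ℕ, p = e * s ^ k * j ^ l
  U_cases : ∀ p ∈ U, ∃ u ∈ Q, ∃ k l : ℕ, p = u * s ^ k * j ^ l
  sq_E : ∀ p ∈ P, p * p ∈ E → ∃ e ∈ E, ∃ l : ℕ, p = e * j ^ l ∨ p = e * (s * s) * j ^ l
  E_mem : ∀ p ∈ P, p ^ 5 = 1 → p ∈ E
  E_le : E ≤ Subgroup.closure {p | p ∈ P ∧ p ^ 5 = 1}
  Q_mem : ∀ e ∈ E, e ^ 4 = 1 → e ∈ Q
  Q_pow : ∀ e ∈ Q, e ^ 4 = 1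
  comm_Q : (⁅Q, Q⁆ : Subgroup G) = A
  E_gen : E ≤ Subgroup.closure {r, x}
  syl5 : ∀ g ∈ E, g ^ 5 = 1 → g ≠ 1 → ∃ u ∈ Q, ∃ k : ℕ, g = u * x ^ k * u⁻¹
  cent_x : ∀ p ∈ P, p * x = x * p → ∃ k l m : ℕ, p = x ^ k * z ^ l * j ^ m
  cent_A_x : ∀ a ∈ A, a * x = x * a → a = 1 ∨ a = z
  cent_Q : ∀ y ∈ L, (∀ e ∈ Q, y * e = e * y) → y = 1 ∨ y = z
  cent_A : ∀ y ∈ L, (∀ a ∈ A, y * a = a * y) → ∃ a ∈ A, ∃ l : ℕ, y = a * j ^ l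
  norm_A : ∀ y ∈ L, (∀ a ∈ A, y * a * y⁻¹ ∈ A) → y ∈ P
  tx : t * x * t⁻¹ = x
  ts : t * s * t⁻¹ = s
  tj : t * j * t⁻¹ = j
  tA : ∀ a ∈ A, t * a * t⁻¹ = a
  tQ : ∀ a ∈ Q, t * a * t⁻¹ * a⁻¹ ∈ A
  tt : t * t = z
  tr : t * r * t⁻¹ = r * aj
  aj_A : aj ∈ A
  aw_A : aw ∈ A
  KA : ∀ a ∈ A, r * a * (r * a) = r * r →
    (∀ k : ℕ, r * a * (x ^ k * (r * a) * (x ^ k)⁻¹) * (r * a)⁻¹ * (x ^ k * (r * a) * (x ^ k)⁻¹)⁻¹ =
      r * (x ^ k * r * (x ^ k)⁻¹) * r⁻¹ * (x ^ k * r * (x ^ k)⁻¹)⁻¹) →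
    r * a * (x * (r * a) * x⁻¹) * (x ^ 2 * (r * a) * (x ^ 2)⁻¹) * (x ^ 3 * (r * a) * (x ^ 3)⁻¹) *
        (x ^ 4 * (r * a) * (x ^ 4)⁻¹) =
      r * (x * r * x⁻¹) * (x ^ 2 * r * (x ^ 2)⁻¹) * (x ^ 3 * r * (x ^ 3)⁻¹) * (x ^ 4 * r * (x ^ 4)⁻¹) →
    a = 1 ∨ a = aj ∨ a = aw ∨ a = aj * aw
  pr_A : r * (x * r * x⁻¹) * (x ^ 2 * r * (x ^ 2)⁻¹) * (x ^ 3 * r * (x ^ 3)⁻¹) * (x ^ 4 * r * (x ^ 4)⁻¹) ∈ A
  xr : ∀ k : ℕ, x ^ k * r * (x ^ k)⁻¹ * r⁻¹ ∈ A → x ^ k = 1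
  irr_A : ∀ B : Subgroup G, z ∈ B → B ≤ A → (∀ b ∈ B, x⁻¹ * b * x ∈ B) → (∃ b ∈ B, b ≠ 1 ∧ b ≠ z) → A ≤ B
  irr_Q : ∀ B : Subgroup G, A ≤ B → B ≤ Q → (∀ b ∈ B, x⁻¹ * b * x ∈ B) → (∃ b ∈ B, b ∉ A) → Q ≤ B
  KS : ∃ a ∈ A, s * r * s⁻¹ = (x ^ 3)⁻¹ * r * x ^ 3 * ((x ^ 4)⁻¹ * r * x ^ 4) * a
  KW : ∀ a, a = aw ∨ a = aj * aw →
    s * a * s⁻¹ ≠ ((x ^ 4)⁻¹ * r * x ^ 4)⁻¹ * ((x ^ 3)⁻¹ * a * x ^ 3) * ((x ^ 4)⁻¹ * r * x ^ 4) * ((x ^ 4)⁻¹ * a * x ^ 4)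
  q_x : ∀ k, x⁻¹ * q k * x = q (k + 1)
  q_s : ∀ k, s⁻¹ * q k * s = q (2 * k)
  q_prod : q 0 * q 1 * q 2 * q 3 * q 4 = 1
  A_gen : A ≤ Subgroup.closure ({z} ∪ Set.range q)
  q_Q : ∀ u ∈ Q, ∀ k, u⁻¹ * q k * u = q k ∨ u⁻¹ * q k * u = q k * z
  Q_ker : ∀ u ∈ Q, (∀ k, u⁻¹ * q k * u = q k) → u ∈ A
  r0 : r⁻¹ * q 0 * r = q 0 * z
  r1 : r⁻¹ * q 1 * r = q 1 * z
  r2 : r⁻¹ * q 2 * r = q 2
  r3 : r⁻¹ * q 3 * r = q 3
  r4 : r⁻¹ * q 4 * r = q 4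
  pt : ∀ k, ∃ g ∈ L, g⁻¹ * z * g = q k
  pt' : ∀ k, ∃ g ∈ L, g⁻¹ * z * g = z * q k
  sym : ∀ g ∈ L, g⁻¹ * z * g ∈ A → g * z * g⁻¹ ∈ A
  line : ∃ g ∈ L, g⁻¹ * z * g = q 0 ∧ g⁻¹ * q 0 * g = z * q 0
  U_p : IsPGroup 2 ↥U
  U_odd : ¬ 2 ∣ U.relIndex L
  A₁_le : A₁ ≤ Q
  A₁_ne : A₁ ≠ A
  A₁_card : Nat.card ↥A₁ = 2 ^ 5
  A₁_sq : ∀ a ∈ A₁, a * a = 1
  A₁_nor : ∀ u ∈ U, ∀ a ∈ A₁, u * a * u⁻¹ ∈ A₁
  cent_A₁ : ∀ y ∈ U, (∀ a ∈ A₁, y * a = a * y) → y ∈ A₁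
  A₁_conj : ∀ a ∈ A₁, a ≠ 1 → ∃ g ∈ L, g⁻¹ * a * g ∈ A
  K2 : ∀ B : Subgroup G, B ≤ U → (∀ a ∈ B, a * a = 1) → (∀ u ∈ U, ∀ a ∈ B, u * a * u⁻¹ ∈ B) → 2 ^ 5 ≤ Nat.card ↥B →
    B = A ∨ B = A₁
  KF : j = 1 → ∀ B : Subgroup G, B ≤ U → (∀ a ∈ B, a * a ∈ A₁) → Nat.card ↥B < 2 ^ 9
  KW₁ : ∀ B : Subgroup G, B ≤ U → (∀ u ∈ B, ∀ a ∈ A₁, a * u * a⁻¹ * u⁻¹ = 1 ∨ a * u * a⁻¹ * u⁻¹ = z) →
    Nat.card ↥B ≤ 2 ^ 8
  K3 : ∀ B : Subgroup G, B ≤ L → (∀ a ∈ B, a * a = 1) → Nat.card ↥B ≤ 2 ^ 8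
  K4 : ∀ y ∈ L, (∀ u ∈ U, y * u * y⁻¹ ∈ U) → y ∈ U
  cent_U : ∀ y ∈ L, (∀ u ∈ U, y * u = u * y) → y = 1 ∨ y = z
  pts : ∀ g ∈ L, g⁻¹ * z * g ∈ A → g⁻¹ * z * g = z ∨ ∃ k, g⁻¹ * z * g = q k ∨ g⁻¹ * z * g = z * q k

namespace KG

variable {G : Type*} [Group G] {L : Subgroup G} (K : KG L)

theorem U_le : K.U ≤ L := K.U_le_P.trans K.P_le
theorem E_le_L : K.E ≤ L := K.E_le_P.trans K.P_le
theorem Q_le : K.Q ≤ L := K.Q_le_U.trans K.U_le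
theorem A_le : K.A ≤ L := K.A_le_Q.trans K.Q_le

/-- `z` in `L` -/
def zL : ↥L := ⟨K.z, K.A_le K.z_A⟩
/-- `x` in `L` -/
def xL : ↥L := ⟨K.x, K.E_le_L K.x_E⟩
/-- `s` in `L` -/
def sL : ↥L := ⟨K.s, K.U_le K.s_U⟩
/-- `j` in `L` -/
def jL : ↥L := ⟨K.j, K.U_le K.j_U⟩
/-- `q` in `L` -/
def qL (k : ZMod 5) : ↥L := ⟨K.q k, K.A_le (K.q_A k)⟩
/-- `r` in `L` -/
def rL : ↥L := ⟨K.r, K.Q_le K.r_Q⟩
/-- `aj` in `L` -/
def ajL : ↥L := ⟨K.aj, K.A_le K.aj_A⟩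
/-- `aw` in `L` -/
def awL : ↥L := ⟨K.aw, K.A_le K.aw_A⟩

/-- conjugation by `t` -/
def tau : MulAut ↥L where
  toFun y := ⟨K.t * y * K.t⁻¹, K.t_conj y y.2⟩
  invFun y := ⟨K.t⁻¹ * y * K.t, K.t_conj' y y.2⟩
  left_inv y := by
    apply Subtype.ext
    show K.t⁻¹ * (K.t * y * K.t⁻¹) * K.t = y
    group
  right_inv y := by
    apply Subtype.ext
    show K.t * (K.t⁻¹ * y * K.t) * K.t⁻¹ = y
    group
  map_mul' y w := by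
    apply Subtype.ext
    show K.t * (y * w) * K.t⁻¹ = K.t * y * K.t⁻¹ * (K.t * w * K.t⁻¹)
    group

theorem coe_tau (y : ↥L) : ((K.tau y : ↥L) : G) = K.t * y * K.t⁻¹ := rfl

theorem card_sub {B : Subgroup G} (h : B ≤ L) : Nat.card ↥(B.subgroupOf L) = Nat.card ↥B :=
  Nat.card_congr (Subgroup.subgroupOfEquivOfLe h).toEquiv

theorem map_sub {B : Subgroup G} (h : B ≤ L) : (B.subgroupOf L).map L.subtype = B :=
  Subgroup.map_subgroupOf_eq_of_le h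

theorem le_of_map {B C : Subgroup ↥L} (h : B.map L.subtype ≤ C.map L.subtype) : B ≤ C :=
  (Subgroup.map_le_map_iff_of_injective L.subtype_injective).1 h

theorem mem_of_map {B : Subgroup ↥L} {y : ↥L} (h : (y : G) ∈ B.map L.subtype) : y ∈ B := by
  obtain ⟨b, hb, he⟩ := h
  have e : b = y := Subtype.ext he
  rw [← e]
  exact hb

/-- **the K-facts for `↥L`** -/
def kt : KT ↥L where
  z := K.zL
  x := K.xL
  s := K.sL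
  j := K.jL
  q := K.qL
  r := K.rL
  aj := K.ajL
  aw := K.awL
  τ := K.tau
  U := K.U.subgroupOf L
  P := K.P.subgroupOf L
  Q := K.Q.subgroupOf L
  A := K.A.subgroupOf L
  E := K.E.subgroupOf L
  fin := K.fin
  zz := Subtype.ext K.zz
  z1 := fun h => K.z1 (congrArg Subtype.val h)
  mem_P := fun y => by
    rw [Subgroup.mem_subgroupOf, K.mem_P y y.2]
    exact ⟨fun h => Subtype.ext h, fun h => congrArg Subtype.val h⟩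
  z_A := K.z_A
  A_le_Q := fun _ h => K.A_le_Q h
  Q_le_E := fun _ h => K.Q_le_E h
  E_le_P := fun _ h => K.E_le_P h
  Q_le_U := fun _ h => K.Q_le_U h
  U_le_P := fun _ h => K.U_le_P h
  x_E := K.x_E
  s_U := K.s_U
  j_U := K.j_U
  r_Q := K.r_Q
  q_A := fun k => K.q_A k
  card_A := by rw [card_sub K.A_le, K.card_A]
  card_Q := by rw [card_sub K.Q_le, K.card_Q]
  sq_A := fun a ha => Subtype.ext (K.sq_A a ha)
  x5 := Subtype.ext K.x5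
  x1 := fun h => K.x1 (congrArg Subtype.val h)
  s4 := Subtype.ext K.s4
  x_s := Subtype.ext K.x_s
  j_or := by
    rcases K.j_or with h | ⟨h, ht⟩
    · exact Or.inl (Subtype.ext h)
    · refine Or.inr ⟨Subtype.ext h, fun y => Subtype.ext ?_⟩
      rw [coe_tau, ht]
      rfl
  nor_A := fun p hp a ha => K.nor_A p hp a ha
  nor_Q := fun p hp a ha => K.nor_Q p hp a ha
  nor_E := fun p hp a ha => K.nor_E p hp a ha
  E_cases := fun e he => by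
    obtain ⟨u, hu, k, h⟩ := K.E_cases e he
    exact ⟨⟨u, K.Q_le hu⟩, hu, k, Subtype.ext h⟩
  P_cases := fun p hp => by
    obtain ⟨e, he, k, l, h⟩ := K.P_cases p hp
    exact ⟨⟨e, K.E_le_L he⟩, he, k, l, Subtype.ext h⟩
  U_cases := fun p hp => by
    obtain ⟨e, he, k, l, h⟩ := K.U_cases p hp
    exact ⟨⟨e, K.Q_le he⟩, he, k, l, Subtype.ext h⟩
  sq_E := fun p hp hpp => by
    obtain ⟨e, he, l, h⟩ := K.sq_E p hp hpp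
    refine ⟨⟨e, K.E_le_L he⟩, he, l, ?_⟩
    rcases h with h | h
    · exact Or.inl (Subtype.ext h)
    · exact Or.inr (Subtype.ext h)
  E_mem := fun p hp h => K.E_mem p hp (congrArg Subtype.val h)
  E_le := by
    apply le_of_map
    rw [map_sub K.E_le_L, MonoidHom.map_closure]
    refine K.E_le.trans (Subgroup.closure_mono ?_)
    rintro p ⟨hp, h5⟩
    exact ⟨⟨p, K.P_le hp⟩, ⟨hp, Subtype.ext h5⟩, rfl⟩
  Q_mem := fun e he h => K.Q_mem e he (congrArg Subtype.val h)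
  Q_pow := fun e he => Subtype.ext (K.Q_pow e he)
  comm_Q := by
    apply Subgroup.map_injective L.subtype_injective
    rw [Subgroup.map_commutator, map_sub K.Q_le, map_sub K.A_le, K.comm_Q]
  E_gen := by
    apply le_of_map
    rw [map_sub K.E_le_L, MonoidHom.map_closure]
    refine K.E_gen.trans (Subgroup.closure_mono ?_)
    rintro p (hp | hp)
    · exact ⟨K.rL, by simp, hp.symm⟩
    · exact ⟨K.xL, by simp, (Set.mem_singleton_iff.1 hp).symm⟩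
  syl5 := fun g hg h5 h1 => by
    obtain ⟨u, hu, k, h⟩ := K.syl5 g hg (congrArg Subtype.val h5) fun h => h1 (Subtype.ext h)
    exact ⟨⟨u, K.Q_le hu⟩, hu, k, Subtype.ext h⟩
  cent_x := fun p hp h => by
    obtain ⟨k, l, m, h1⟩ := K.cent_x p hp (congrArg Subtype.val h)
    exact ⟨k, l, m, Subtype.ext h1⟩
  cent_A_x := fun a ha h => by
    rcases K.cent_A_x a ha (congrArg Subtype.val h) with h1 | h1
    · exact Or.inl (Subtype.ext h1)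
    · exact Or.inr (Subtype.ext h1)
  cent_E := fun y h => by
    rcases K.cent_Q y y.2 fun e he => congrArg Subtype.val (h ⟨e, K.Q_le he⟩ (K.Q_le_E he)) with h1 | h1
    · exact Or.inl (Subtype.ext h1)
    · exact Or.inr (Subtype.ext h1)
  cent_Q := fun y h => by
    rcases K.cent_Q y y.2 fun e he => congrArg Subtype.val (h ⟨e, K.Q_le he⟩ he) with h1 | h1
    · exact Or.inl (Subtype.ext h1)
    · exact Or.inr (Subtype.ext h1)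
  cent_A := fun y h => by
    obtain ⟨a, ha, l, h1⟩ := K.cent_A y y.2 fun e he => congrArg Subtype.val (h ⟨e, K.A_le he⟩ he)
    exact ⟨⟨a, K.A_le ha⟩, ha, l, Subtype.ext h1⟩
  norm_A := fun y h => K.norm_A y y.2 fun a ha => h ⟨a, K.A_le ha⟩ ha
  τz := Subtype.ext (K.tA _ K.z_A)
  τx := Subtype.ext K.tx
  τs := Subtype.ext K.ts
  τj := Subtype.ext K.tj
  τA := fun a ha => Subtype.ext (K.tA a ha)
  τQ := fun a ha => K.tQ a ha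
  ττ := fun y => by
    apply Subtype.ext
    show K.t * (K.t * y * K.t⁻¹) * K.t⁻¹ = K.z * y * K.z⁻¹
    rw [← K.tt]
    group
  τr := Subtype.ext K.tr
  aj_A := K.aj_A
  aw_A := K.aw_A
  KA := fun a ha h1 h2 h3 => by
    have h := K.KA a ha (congrArg Subtype.val h1) (fun k => by
      have h4 := h2 k
      rw [commutatorElement_def, commutatorElement_def] at h4
      exact congrArg Subtype.val h4) (congrArg Subtype.val h3)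
    rcases h with h | h | h | h
    · exact Or.inl (Subtype.ext h)
    · exact Or.inr (Or.inl (Subtype.ext h))
    · exact Or.inr (Or.inr (Or.inl (Subtype.ext h)))
    · exact Or.inr (Or.inr (Or.inr (Subtype.ext h)))
  pr_A := K.pr_A
  xr := fun k h => Subtype.ext (K.xr k h)
  irr_A := fun B hz hB hx hb => by
    apply le_of_map
    rw [map_sub K.A_le]
    refine K.irr_A _ ⟨K.zL, hz, rfl⟩ ?_ ?_ ?_
    · rintro _ ⟨b, hb, rfl⟩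
      exact hB hb
    · rintro _ ⟨b, hb, rfl⟩
      exact ⟨_, hx b hb, rfl⟩
    · obtain ⟨b, hb, h1, h2⟩ := hb
      exact ⟨b, ⟨b, hb, rfl⟩, fun h => h1 (Subtype.ext h), fun h => h2 (Subtype.ext h)⟩
  irr_Q := fun B hA hB hx hb => by
    apply le_of_map
    rw [map_sub K.Q_le]
    refine K.irr_Q _ ?_ ?_ ?_ ?_
    · intro a ha
      exact ⟨⟨a, K.A_le ha⟩, hA ha, rfl⟩
    · rintro _ ⟨b, hb, rfl⟩
      exact hB hb
    · rintro _ ⟨b, hb, rfl⟩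
      exact ⟨_, hx b hb, rfl⟩
    · obtain ⟨b, hb, h1⟩ := hb
      exact ⟨b, ⟨b, hb, rfl⟩, h1⟩
  KS := by
    obtain ⟨a, ha, h⟩ := K.KS
    exact ⟨⟨a, K.A_le ha⟩, ha, Subtype.ext h⟩
  KW := fun a ha h => by
    refine K.KW a ?_ (congrArg Subtype.val h)
    rcases ha with rfl | rfl
    · exact Or.inl rfl
    · exact Or.inr rfl
  q_x := fun k => Subtype.ext (K.q_x k)
  q_s := fun k => Subtype.ext (K.q_s k)
  q_prod := Subtype.ext K.q_prod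
  A_gen := by
    apply le_of_map
    rw [map_sub K.A_le, MonoidHom.map_closure]
    refine K.A_gen.trans (Subgroup.closure_mono ?_)
    rintro p (hp | ⟨k, rfl⟩)
    · exact ⟨K.zL, Or.inl rfl, (Set.mem_singleton_iff.1 hp).symm⟩
    · exact ⟨K.qL k, Or.inr ⟨k, rfl⟩, rfl⟩
  q_Q := fun u hu k => by
    rcases K.q_Q u hu k with h | h
    · exact Or.inl (Subtype.ext h)
    · exact Or.inr (Subtype.ext h)
  Q_ker := fun u hu h => K.Q_ker u hu fun k => congrArg Subtype.val (h k)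
  r0 := Subtype.ext K.r0
  r1 := Subtype.ext K.r1
  r2 := Subtype.ext K.r2
  r3 := Subtype.ext K.r3
  r4 := Subtype.ext K.r4
  pt := fun k => by
    obtain ⟨g, hg, h⟩ := K.pt k
    exact ⟨⟨g, hg⟩, Subtype.ext h⟩
  pt' := fun k => by
    obtain ⟨g, hg, h⟩ := K.pt' k
    exact ⟨⟨g, hg⟩, Subtype.ext h⟩
  sym := fun g h => K.sym g g.2 h
  line := by
    obtain ⟨g, hg, h, h'⟩ := K.line
    exact ⟨⟨g, hg⟩, Subtype.ext h, Subtype.ext h'⟩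
  U_p := KAbs.isPGroup_sub K.U_p
  U_odd := K.U_odd
  A₁ := K.A₁.subgroupOf L
  A₁_le := fun _ h => K.A₁_le h
  A₁_ne := fun h => by
    apply K.A₁_ne
    rw [← map_sub (K.A₁_le.trans K.Q_le), ← map_sub K.A_le, h]
  A₁_card := by rw [card_sub (K.A₁_le.trans K.Q_le), K.A₁_card]
  A₁_sq := fun a ha => Subtype.ext (K.A₁_sq a ha)
  A₁_nor := fun u hu a ha => K.A₁_nor u hu a ha
  cent_A₁ := fun y hy h => K.cent_A₁ y hy fun a ha =>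
    congrArg Subtype.val (h ⟨a, K.Q_le (K.A₁_le ha)⟩ ha)
  A₁_conj := fun a ha h1 => by
    obtain ⟨g, hg, h⟩ := K.A₁_conj a ha fun h => h1 (Subtype.ext h)
    exact ⟨⟨g, hg⟩, h⟩
  K2 := fun B hB hsq hn hc => by
    have h := K.K2 (B.map L.subtype) ?_ ?_ ?_ ?_
    · rcases h with h | h
      · exact Or.inl (KAbs.eq_subgroupOf h)
      · exact Or.inr (KAbs.eq_subgroupOf h)
    · rintro _ ⟨b, hb, rfl⟩
      exact hB hb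
    · rintro _ ⟨b, hb, rfl⟩
      rw [← map_mul, hsq b hb, map_one]
    · rintro u hu _ ⟨b, hb, rfl⟩
      exact ⟨_, hn ⟨u, K.U_le hu⟩ hu b hb, rfl⟩
    · rw [KAbs.card_map]
      exact hc
  KF := fun hj B hB _ hsq _ _ => by
    rw [← KAbs.card_map]
    refine K.KF (congrArg Subtype.val hj) _ ?_ ?_
    · rintro _ ⟨b, hb, rfl⟩
      exact hB hb
    · rintro _ ⟨b, hb, rfl⟩
      exact hsq b hb
  KW₁ := fun B hB h => by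
    rw [← KAbs.card_map]
    refine K.KW₁ _ ?_ ?_
    · rintro _ ⟨b, hb, rfl⟩
      exact hB hb
    · rintro _ ⟨b, hb, rfl⟩ a ha
      have h1 := h b hb ⟨a, K.Q_le (K.A₁_le ha)⟩ ha
      rw [commutatorElement_def] at h1
      rcases h1 with h1 | h1
      · exact Or.inl (congrArg Subtype.val h1)
      · exact Or.inr (congrArg Subtype.val h1)
  K3 := fun B hsq => by
    rw [← KAbs.card_map]
    refine K.K3 _ ?_ ?_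
    · rintro _ ⟨b, hb, rfl⟩
      exact b.2
    · rintro _ ⟨b, hb, rfl⟩
      rw [← map_mul, hsq b hb, map_one]
  K4 := fun y h => K.K4 y y.2 fun u hu => h ⟨u, K.U_le hu⟩ hu
  cent_U := fun y h => by
    rcases K.cent_U y y.2 fun u hu => congrArg Subtype.val (h ⟨u, K.U_le hu⟩ hu) with h1 | h1
    · exact Or.inl (Subtype.ext h1)
    · exact Or.inr (Subtype.ext h1)
  pts := fun g h => by
    rcases K.pts g g.2 h with h1 | ⟨k, h1 | h1⟩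
    · exact Or.inl (Subtype.ext h1)
    · exact Or.inr ⟨k, Or.inl (Subtype.ext h1)⟩
    · exact Or.inr ⟨k, Or.inr (Subtype.ext h1)⟩

end KG

end Cfsg.Agent.TitsK
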