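import Cfsg.Agent.TitsK.ParA
import Cfsg.Agent.TitsK.KAbs

/-!
# The classes of `z` and `d` (helper795)

* `not_conj_z_d`: `z` and `d` are not conjugate in `HT`;
* `pts_codes`: the conjugates of `z` in `AA`.
-/

set_option autoImplicit false
set_option Elab.async false

namespace Cfsg.Agent.TitsK

open Cfsg.Lie Cfsg.Agent.ChevalleyStructure.TwF4.Tables
open Cfsg.Agent.FourTwo.Base hiding bar bar_lt
open Cfsg.Agent.FourTwo.BN Cfsg.Agent.FourTwo.Comm Cfsg.Agent.FourTwo.Classes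
open Cfsg.Agent.FourTwo.UCode (mulU invU conjU lets colW colF force force_eq mem_lets wel_lets wel_mem)

/-- an element of order 5 acts trivially on a set of three elements -/
theorem comm_of_pow_five {G : Type*} [Group G] {y : G} (hy : y ^ 5 = 1) (S : Finset G) (hS : S.card ≤ 3)
    (hyS : ∀ w ∈ S, y * w * y⁻¹ ∈ S) {v : G} (hv : v ∈ S) : y * v = v * y := by
  classical
  have hf : ∀ n : ℕ, y ^ n * v * (y ^ n)⁻¹ ∈ S := by
    intro n
    induction n with
    | zero => simpa using hv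
    | succ n ih =>
      have h := hyS _ ih
      have e : y * (y ^ n * v * (y ^ n)⁻¹) * y⁻¹ = y ^ (n + 1) * v * (y ^ (n + 1))⁻¹ := by
        rw [pow_succ']
        group
      rw [e] at h
      exact h
  have hc : S.card < (Finset.range 4).card := by
    rw [Finset.card_range]
    omega
  obtain ⟨i, hi, j, hj, hij, he⟩ := Finset.exists_ne_map_eq_of_card_lt_of_maps_to hc
    (f := fun n : ℕ => y ^ n * v * (y ^ n)⁻¹) fun n _ => hf n
  rw [Finset.mem_range] at hi hj
  have key : ∀ i j : ℕ, i < j → j < 4 → y ^ i * v * (y ^ i)⁻¹ = y ^ j * v * (y ^ j)⁻¹ → y * v = v * y := by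
    intro i j hij hj he
    obtain ⟨k, rfl⟩ := Nat.exists_eq_add_of_lt hij
    have h1 : Commute (y ^ (k + 1)) v := by
      have h2 : y ^ (i + k + 1) = y ^ i * y ^ (k + 1) := by rw [← pow_add, add_assoc]
      rw [h2] at he
      have h3 : v = y ^ (k + 1) * v * (y ^ (k + 1))⁻¹ := by
        calc v = (y ^ i)⁻¹ * (y ^ i * v * (y ^ i)⁻¹) * y ^ i := by group
          _ = (y ^ i)⁻¹ * (y ^ i * y ^ (k + 1) * v * (y ^ i * y ^ (k + 1))⁻¹) * y ^ i := by rw [he]
          _ = _ := by group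
      rw [eq_mul_inv_iff_mul_eq] at h3
      exact h3.symm
    have h6 : ∀ m : ℕ, (k + 1) * m = 6 → Commute y v := by
      intro m hm
      have h7 := h1.pow_left m
      rw [← pow_mul, hm, pow_succ, hy, one_mul] at h7
      exact h7
    have hk : k = 0 ∨ k = 1 ∨ k = 2 := by omega
    rcases hk with rfl | rfl | rfl
    · exact h6 6 (by norm_num)
    · exact h6 3 (by norm_num)
    · exact h6 2 (by norm_num)
  rcases lt_or_gt_of_ne hij with h | h
  · exact key i j h hj he
  · exact key j i h hi he.symm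

/-- abstract form of `not_conj_z_d` -/
theorem not_conj_aux {G : Type*} [Group G] {H U V : Subgroup G} {z z1 d x : G} (hU : IsPGroup 2 ↥U)
    (hV : ∀ v, v ∈ V ↔ v = 1 ∨ v = z ∨ v = z1 ∨ v = z * z1)
    (hcV : ∀ g ∈ H, g * z * g⁻¹ = z → g * z1 * g⁻¹ = z1 → g ∈ U)
    (hcd : ∀ g ∈ H, g * d * g⁻¹ = d → ∀ v ∈ V, g * v * g⁻¹ ∈ V)
    (hz : z ≠ 1) (hz1 : z1 ≠ 1) (hx : x ∈ H) (hxz : x * z = z * x) (hx5 : x ^ 5 = 1) (hx1 : x ≠ 1)
    {g : G} (hg : g ∈ H) (h : g * z * g⁻¹ = d) : False := by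
  classical
  set y := g * x * g⁻¹ with hy
  have hyH : y ∈ H := H.mul_mem (H.mul_mem hg hx) (H.inv_mem hg)
  have hy5 : y ^ 5 = 1 := by
    rw [hy, conj_pow, hx5, mul_one, mul_inv_cancel]
  have hyd : y * d * y⁻¹ = d := by
    rw [← h, hy]
    have e : g * x * g⁻¹ * (g * z * g⁻¹) * (g * x * g⁻¹)⁻¹ = g * (x * z * x⁻¹) * g⁻¹ := by group
    rw [e, hxz, mul_inv_cancel_right]
  have hyV := hcd y hyH hyd
  have hS : ∀ w ∈ ({z, z1, z * z1} : Finset G), w ≠ 1 → y * w * y⁻¹ ∈ ({z, z1, z * z1} : Finset G) := by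
    intro w hw hw1
    have h1 : w ∈ V := by
      rw [hV]
      simp only [Finset.mem_insert, Finset.mem_singleton] at hw
      exact Or.inr hw
    have h2 := (hV _).1 (hyV w h1)
    simp only [Finset.mem_insert, Finset.mem_singleton]
    refine h2.resolve_left fun h3 => hw1 ?_
    have e : w = y⁻¹ * (y * w * y⁻¹) * y := by group
    rw [e, h3]
    group
  -- the elements different from one
  have key : ∀ v ∈ ({z, z1, z * z1} : Finset G), v ≠ 1 → y * v = v * y := by
    intro v hv hv1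
    refine comm_of_pow_five hy5 (({z, z1, z * z1} : Finset G).filter fun w => w ≠ 1) ?_ ?_ ?_
    · exact (Finset.card_filter_le _ _).trans Finset.card_le_three
    · intro w hw
      rw [Finset.mem_filter] at hw ⊢
      refine ⟨hS w hw.1 hw.2, fun h3 => hw.2 ?_⟩
      have e : w = y⁻¹ * (y * w * y⁻¹) * y := by group
      rw [e, h3]
      group
    · rw [Finset.mem_filter]
      exact ⟨hv, hv1⟩
  have hyU : y ∈ U := hcV y hyH (by rw [key z (by simp) hz, mul_inv_cancel_right])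
    (by rw [key z1 (by simp) hz1, mul_inv_cancel_right])
  obtain ⟨k, hk⟩ := hU ⟨y, hyU⟩
  have hk2 : y ^ 2 ^ k = 1 := congrArg Subtype.val hk
  have hy1 : y = 1 := by
    have h1 : orderOf y ∣ 5 := orderOf_dvd_of_pow_eq_one hy5
    have h2 : orderOf y ∣ 2 ^ k := orderOf_dvd_of_pow_eq_one hk2
    have h3 : Nat.Coprime 5 (2 ^ k) := Nat.Coprime.pow_right k (by norm_num)
    exact orderOf_eq_one_iff.1 (Nat.eq_one_of_dvd_coprimes h3 h1 h2)
  apply hx1
  have e : x = g⁻¹ * y * g := by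
    rw [hy]
    group
  rw [e, hy1]
  group

theorem eq_inv_aux {G : Type*} [Group G] {a b : G} (h : a * b = 1) : b = a⁻¹ := (inv_eq_of_mul_eq_one_right h).symm

theorem xf_ne_one : xf ≠ 1 := by
  intro h
  apply zbm_ne
  -- `zb = zbm⁻¹` lies in `UT` and in `VT`
  have h1 : zbm = zb⁻¹ := eq_inv_aux h
  apply UT_inf_VT
  · rw [h1]
    exact UT.inv_mem (by rw [zb_eq]; exact ec80)
  · rw [mem_VT, w0_conj_zbm, zb_eq]
    exact ec80

/-- `z` and `d` are not conjugate in `HT` -/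
theorem not_conj_z_d {g : LL} (hg : g ∈ HT) : g * z * g⁻¹ ≠ d := fun h =>
  not_conj_aux (H := HT) (U := UT) (V := V4) isPGroup_UT (fun _ => mem_V4_iff) (fun _ h1 h2 h3 => cent_V_le h1 h2 h3)
    (fun _ h1 h2 _ h3 => cent_d_V4 h1 h2 h3) z_ne z1_ne xf_mem_HT
    (by
      have h1 := z_conj_Pz xf_mem_Pz
      rwa [mul_inv_eq_iff_eq_mul] at h1) xf_pow5 xf_ne_one hg h

/-- codes of the points of `AA` -/
def PtsL : List ℕ := [9437184, 266240, 4259840, 5066752, 6656000, 7196672, 9703424, 13697024, 14503936, 16093184, 16633856]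

theorem A32_cases : (A32.all fun e => memB e PtsL || Nat.beq e 0 || memB e LB) = true := by decide +kernel

/-- the conjugates of `z` in `AA` -/
theorem pts_codes {g : LL} (hg : g ∈ HT) (h : g⁻¹ * z * g ∈ AA) : ∃ e ∈ PtsL, g⁻¹ * z * g = ec e := by
  obtain ⟨e, he, h1⟩ := mem_AA.1 h
  have h2 := A32_cases
  rw [List.all_eq_true] at h2
  have h3 := h2 e he
  rw [Bool.or_eq_true, Bool.or_eq_true] at h3
  rcases h3 with (h3 | h3) | h3
  · exact ⟨e, memB_spec h3, h1⟩
  · exfalso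
    apply z_ne
    rw [Nat.eq_of_beq_eq_true h3, ec_zero] at h1
    have e1 : z = g * (g⁻¹ * z * g) * g⁻¹ := by group
    rw [e1, h1]
    group
  · exfalso
    obtain ⟨t, ht, h4⟩ := LB_spec e (memB_spec h3)
    apply not_conj_z_d (HT.mul_mem (TT_le ht) (HT.inv_mem hg))
    rw [← h4, ← h1]
    group

end Cfsg.Agent.TitsK
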