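import Cfsg.Agent.TitsK.KtDef

/-!
Check for KtWA: (F1) (helper795).
-/

set_option autoImplicit false
set_option Elab.async false

namespace Cfsg.Agent.TitsK

open Cfsg.Lie Cfsg.Agent.ChevalleyStructure.TwF4.Tables
open Cfsg.Agent.FourTwo.Base hiding bar bar_lt
open Cfsg.Agent.FourTwo.BN Cfsg.Agent.FourTwo.Comm Cfsg.Agent.FourTwo.Classes
open Cfsg.Agent.FourTwo.UCode (mulU invU conjU lets colW colF force force_eq mem_lets wel_lets wel_mem)

/-- the predicate of `chkF1` -/
def p_chkF1 : ℕ → Bool := fun e => cond (Nat.beq (mulU e 4259840) (mulU 4259840 e)) true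
    (mapF (fun p : ℕ × ℕ => mulU (mulU p.1 e) p.2) LF1 fun l => Nat.ble 5 (dst l))

theorem chkF1_0 : sub4 p_chkF1 0 false = true := by decide +kernel
theorem chkF1_1 : sub4 p_chkF1 74 true = true := by decide +kernel
theorem chkF1_2 : sub4 p_chkF1 513 false = true := by decide +kernel
theorem chkF1_3 : sub4 p_chkF1 140875 true = true := by decide +kernel

theorem chkF1 : allU (fun e => cond (Nat.beq (mulU e 4259840) (mulU 4259840 e)) true
    (mapF (fun p : ℕ × ℕ => mulU (mulU p.1 e) p.2) LF1 fun l => Nat.ble 5 (dst l))) = true :=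
  allU_of4 (p := p_chkF1) chkF1_0 chkF1_1 chkF1_2 chkF1_3

end Cfsg.Agent.TitsK
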