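import Cfsg.Agent.TitsK.KtDef

/-!
Check for KtWA: (F2) (helper795).
-/

set_option autoImplicit false
set_option Elab.async false

namespace Cfsg.Agent.TitsK

open Cfsg.Lie Cfsg.Agent.ChevalleyStructure.TwF4.Tables
open Cfsg.Agent.FourTwo.Base hiding bar bar_lt
open Cfsg.Agent.FourTwo.BN Cfsg.Agent.FourTwo.Comm Cfsg.Agent.FourTwo.Classes
open Cfsg.Agent.FourTwo.UCode (mulU invU conjU lets colW colF force force_eq mem_lets wel_lets wel_mem)

/-- the predicate of `chkF2` -/
def p_chkF2 : ℕ → Bool := fun e => cond (Nat.beq (mulU e 4259840) (mulU 4259840 e))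
    (mapF (fun p : ℕ × ℕ => mulU (mulU p.1 e) p.2) LF2 fun l => Nat.ble 5 (dst l)) true

theorem chkF2_0 : sub4 p_chkF2 0 false = true := by decide +kernel
theorem chkF2_1 : sub4 p_chkF2 74 true = true := by decide +kernel
theorem chkF2_2 : sub4 p_chkF2 513 false = true := by decide +kernel
theorem chkF2_3 : sub4 p_chkF2 140875 true = true := by decide +kernel

theorem chkF2 : allU (fun e => cond (Nat.beq (mulU e 4259840) (mulU 4259840 e))
    (mapF (fun p : ℕ × ℕ => mulU (mulU p.1 e) p.2) LF2 fun l => Nat.ble 5 (dst l)) true) = true :=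
  allU_of4 (p := p_chkF2) chkF2_0 chkF2_1 chkF2_2 chkF2_3

end Cfsg.Agent.TitsK
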