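import Cfsg.Agent.TitsK.KDef

/-!
# Definitions for the checks of KtWA (helper795)
-/

set_option autoImplicit false
set_option Elab.async false

namespace Cfsg.Agent.TitsK

open Cfsg.Lie Cfsg.Agent.ChevalleyStructure.TwF4.Tables
open Cfsg.Agent.FourTwo.Base hiding bar bar_lt
open Cfsg.Agent.FourTwo.BN Cfsg.Agent.FourTwo.Comm Cfsg.Agent.FourTwo.Classes
open Cfsg.Agent.FourTwo.UCode (mulU invU conjU lets colW colF force force_eq mem_lets wel_lets wel_mem)

/-- number of different entries -/
def dst (l : List ℕ) : ℕ := List.rec 0 (fun a l ih => cond (memB a l) ih (Nat.succ ih)) l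

theorem dst_cons (a : ℕ) (l : List ℕ) : dst (a :: l) = cond (memB a l) (dst l) (Nat.succ (dst l)) := rfl

/-- `k` of the list of the values, each value is evaluated -/
def mapF {α : Type} (f : α → ℕ) (l : List α) (k : List ℕ → Bool) : Bool :=
  List.rec (motive := fun _ => List ℕ → Bool) (fun acc => k acc)
    (fun a _ ih acc => force (f a) fun v => ih (v :: acc)) l []

/-! ### the lists -/

/-- `(h⁻¹, h)` -/
def LF1 : List (ℕ × ℕ) := [(0, 0), (16376064, 16376064), (16213284, 13350180), (13567012, 5461028), (1967140, 8541220)]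

/-- `(h⁻¹, f h)` -/
def LF2 : List (ℕ × ℕ) := [(0, 0), (12180612, 72836), (14887328, 8563104), (7566628, 14906660), (12923136, 7713024),
  (8098852, 15438884), (14503936, 14503936)]

/-- `(h⁻¹, h)` -/
def LF3 : List (ℕ × ℕ) := [(0, 0), (2135230, 11512910), (8357236, 14906484), (11942378, 15620282), (15428000, 13363616),
  (10646942, 2461038), (13059108, 5968932)]

/-- the exceptional involutions -/
def X8 : List ℕ := [0, 9437184, 4259840, 13697024, 2129920, 6389760, 11567104, 15826944]

end Cfsg.Agent.TitsK
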