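import Cfsg.Agent.TitsK.ParC
import Cfsg.Agent.TitsK.KAbs
import Cfsg.Agent.TitsK.KtChkA
import Cfsg.Agent.TitsK.KtChkB
import Cfsg.Agent.TitsK.KtChkC

/-!
# K-facts for type W (helper868's list `KTW`), enumerations (helper795)

* `dst`: the number of different entries of a list; `mapF`; `five_of_codes`;
* `F1_codes`, `F2_codes`, `F3_codes`: five different values;
* `orb_spec`: the `C_HT(z)`-orbit of `q₀ q₄` in `AA`.
-/

set_option autoImplicit false
set_option Elab.async false

namespace Cfsg.Agent.TitsK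

open Cfsg.Lie Cfsg.Agent.ChevalleyStructure.TwF4.Tables
open Cfsg.Agent.FourTwo.Base hiding bar bar_lt
open Cfsg.Agent.FourTwo.BN Cfsg.Agent.FourTwo.Comm Cfsg.Agent.FourTwo.Classes
open Cfsg.Agent.FourTwo.UCode (mulU invU conjU lets colW colF force force_eq mem_lets wel_lets wel_mem)

/-! ### different entries -/

theorem dst_le (l : List ℕ) : dst l ≤ l.toFinset.card := by
  induction l with
  | nil => exact le_rfl
  | cons a l ih =>
    rw [dst_cons, List.toFinset_cons]
    cases h : memB a l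
    · rw [cond_false]
      by_cases ha : a ∈ l
      · exfalso
        have h1 : memB a l = true := by
          clear ih h
          induction l with
          | nil => exact absurd ha (by simp)
          | cons b l ih =>
            show cond (Nat.beq a b) true (memB a l) = true
            rcases List.mem_cons.1 ha with rfl | h1
            · rw [Nat.beq_refl, cond_true]
            · rw [ih h1]
              cases Nat.beq a b <;> rfl
        rw [h] at h1
        exact absurd h1 (by decide)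
      · rw [Finset.card_insert_of_notMem (by rwa [List.mem_toFinset])]
        exact Nat.succ_le_succ ih
    · rw [cond_true]
      exact ih.trans (Finset.card_le_card (Finset.subset_insert _ _))

theorem mapF_eq {α : Type} (f : α → ℕ) (l : List α) (k : List ℕ → Bool) : mapF f l k = k ((l.map f).reverse) := by
  have key : ∀ (l : List α) (acc : List ℕ),
      List.rec (motive := fun _ => List ℕ → Bool) (fun acc => k acc)
        (fun a _ ih acc => force (f a) fun v => ih (v :: acc)) l acc = k ((l.map f).reverse ++ acc) := by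
    intro l
    induction l with
    | nil => intro acc; simp
    | cons a l ih =>
      intro acc
      show force (f a) (fun v => _) = _
      rw [force_eq, ih, List.map_cons, List.reverse_cons, List.append_assoc]
      rfl
  have h := key l []
  rw [List.append_nil] at h
  exact h

theorem five_of_codes {Y : Type*} [DecidableEq Y] (l : List Y) (φ : Y → LL) (C : List ℕ) (h : l.map φ = C.map ec)
    (hC : ∀ c ∈ C, c < 2 ^ 24) (h5 : 5 ≤ dst C) : 5 ≤ l.toFinset.card := by
  classical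
  have h1 : ((C.map ec).toFinset).card = C.toFinset.card := by
    have e : (C.map ec).toFinset = C.toFinset.image ec := by
      ext g
      simp [List.mem_toFinset]
    rw [e]
    apply Finset.card_image_of_injOn
    intro a ha b hb hab
    rw [Finset.mem_coe, List.mem_toFinset] at ha hb
    exact ec_inj (hC a ha) (hC b hb) hab
  have h2 : ((l.map φ).toFinset).card ≤ l.toFinset.card := by
    have e : (l.map φ).toFinset = l.toFinset.image φ := by
      ext g
      simp [List.mem_toFinset]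
    rw [e]
    exact Finset.card_image_le
  rw [h, h1] at h2
  exact (h5.trans (dst_le C)).trans h2

theorem rev_map_aux {α β : Type*} (l : List α) (f : α → β) (g : α → ℕ) (e : ℕ → β) (h : ∀ p ∈ l, f p = e (g p)) :
    (l.map f).reverse = ((l.map g).reverse).map e := by
  rw [List.map_reverse, List.map_map]
  congr 1
  exact List.map_congr_left h

/-! ### (F1) -/

/-- words for the elements of `LF1` -/
def WF1 : List (List ℕ) := [[], [8448, 540672, 2129920, 4259840, 9437184], [1459236, 8448, 266240, 540672, 2129920],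
  [1459236, 266240, 4259840], [1459236, 266240, 9437184]]

theorem LF1_words : (LF1.all fun p => WF1.any fun w => Nat.beq (pwd w) p.2 && w.all (gQ.map Prod.fst).contains) = true := by
  decide +kernel

theorem LF1_inv : (LF1.all fun p => Nat.beq (mulU p.1 p.2) 0 && (Nat.beq (mulU p.2 4259840) (mulU 4259840 p.2) &&
    (Nat.blt p.1 16777216 && Nat.blt p.2 16777216))) = true := by decide +kernel

theorem mem_of_words {H : Subgroup LL} {gs : List ℕ} (hg : ∀ c ∈ gs, ec c ∈ H) {W : List (List ℕ)} {e : ℕ}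
    (h : (W.any fun w => Nat.beq (pwd w) e && w.all gs.contains) = true) : ec e ∈ H := by
  rw [List.any_eq_true] at h
  obtain ⟨w, -, h1⟩ := h
  rw [Bool.and_eq_true, List.all_eq_true] at h1
  rw [← Nat.eq_of_beq_eq_true h1.1]
  exact pwd_mem fun c hc => hg c (List.contains_iff_mem.1 (h1.2 c hc))

theorem gQ_fst_mem : ∀ c ∈ gQ.map Prod.fst, ec c ∈ QQ := by
  intro c hc
  rw [List.mem_map] at hc
  obtain ⟨g, hg, rfl⟩ := hc
  exact gQ_mem g hg

theorem g12_fst_mem : ∀ c ∈ gens12.map Prod.fst, ec c ∈ UT := by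
  intro c hc
  rw [List.mem_map] at hc
  obtain ⟨g, hg, rfl⟩ := hc
  exact gens_mem g hg

theorem eq_inv_aux2 {G : Type*} [Group G] {a b : G} (h : a * b = 1) : a = b⁻¹ := eq_inv_of_mul_eq_one_left h

theorem ec_inv_of {a b : ℕ} (h : Nat.beq (mulU a b) 0 = true) : ec a = (ec b)⁻¹ := by
  apply eq_inv_aux2
  rw [← ec_mulU, Nat.eq_of_beq_eq_true h, ec_zero]

theorem LF1_spec : ∀ p ∈ LF1, ec p.2 ∈ QQ ∧ ec p.2 * z1 = z1 * ec p.2 ∧ ec p.1 = (ec p.2)⁻¹ ∧ p.1 < 2 ^ 24 ∧
    p.2 < 2 ^ 24 := by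
  intro p hp
  have h1 := LF1_words
  have h2 := LF1_inv
  rw [List.all_eq_true] at h1 h2
  have h3 := h2 p hp
  rw [Bool.and_eq_true, Bool.and_eq_true, Bool.and_eq_true, Nat.blt_eq, Nat.blt_eq] at h3
  refine ⟨mem_of_words gQ_fst_mem (h1 p hp), ?_, ec_inv_of h3.1, h3.2.2.1, h3.2.2.2⟩
  unfold z1
  rw [← ec_mulU, ← ec_mulU, Nat.eq_of_beq_eq_true h3.2.1]

theorem F1_codes {u : LL} (hu : u ∈ UT) (h : u * z1 ≠ z1 * u) :
    ∃ C : List ℕ, (LF1.map fun p => (ec p.2)⁻¹ * u * ec p.2).reverse = C.map ec ∧ (∀ c ∈ C, c < 2 ^ 24) ∧ 5 ≤ dst C := by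
  obtain ⟨e, he, rfl, -, h2⟩ := UT_all chkF1 hu
  have h3 : Nat.beq (mulU e 4259840) (mulU 4259840 e) = false := by
    rw [← Bool.not_eq_true]
    intro h4
    apply h
    unfold z1
    rw [← ec_mulU, ← ec_mulU, Nat.eq_of_beq_eq_true h4]
  rw [h3, cond_false, mapF_eq, Nat.ble_eq] at h2
  refine ⟨_, ?_, ?_, h2⟩
  · apply rev_map_aux
    intro p hp
    have h5 := (LF1_spec p hp).2.2.1
    show (ec p.2)⁻¹ * ec e * ec p.2 = ec (mulU (mulU p.1 e) p.2)
    rw [ec_mulU, ec_mulU, h5]
  · intro c hc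
    rw [List.mem_reverse, List.mem_map] at hc
    obtain ⟨p, hp, rfl⟩ := hc
    exact mulU_lt (mulU_lt (LF1_spec p hp).2.2.2.1 _) _

/-! ### (F2) -/

theorem LF2_lt : ∀ p ∈ LF2, p.1 < 2 ^ 24 := by decide

theorem F2_codes {m : LL} (hm : m ∈ UT) (h : m * z1 = z1 * m) :
    ∃ C : List ℕ, (LF2.map fun p => ec p.1 * m * ec p.2).reverse = C.map ec ∧ (∀ c ∈ C, c < 2 ^ 24) ∧ 5 ≤ dst C := by
  obtain ⟨e, he, rfl, -, h2⟩ := UT_all chkF2 hm
  have h3 : Nat.beq (mulU e 4259840) (mulU 4259840 e) = true := by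
    unfold z1 at h
    rw [← ec_mulU, ← ec_mulU] at h
    rw [ec_inj (mulU_lt he _) (mulU_lt (by norm_num) e) h]
    exact Nat.beq_refl _
  rw [h3, cond_true, mapF_eq, Nat.ble_eq] at h2
  refine ⟨_, ?_, ?_, h2⟩
  · apply rev_map_aux
    intro p _
    show ec p.1 * ec e * ec p.2 = ec (mulU (mulU p.1 e) p.2)
    rw [ec_mulU, ec_mulU]
  · intro c hc
    rw [List.mem_reverse, List.mem_map] at hc
    obtain ⟨p, hp, rfl⟩ := hc
    exact mulU_lt (mulU_lt (LF2_lt p hp) _) _

/-! ### (F3) -/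

/-- words for the elements of `LF3` -/
def WF3 : List (List ℕ) := [[], [74, 263172, 1179680, 4196480, 8448, 540672, 2129920],
  [263172, 80, 1179680, 266240, 9437184], [74, 80, 1179680, 4196480, 266240, 540672, 9437184],
  [1179680, 4196480, 8448, 540672, 2129920, 4259840, 9437184], [74, 263172, 4196480, 2129920, 4259840],
  [263172, 1179680, 266240, 540672, 4259840]]

theorem LF3_words : (LF3.all fun p => WF3.any fun w => Nat.beq (pwd w) p.2 && w.all (gens12.map Prod.fst).contains) =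
    true := by decide +kernel

theorem LF3_inv : (LF3.all fun p => Nat.beq (mulU p.1 p.2) 0 && (Nat.beq (mulU p.2 4259840) (mulU 4259840 p.2) &&
    (Nat.blt p.1 16777216 && Nat.blt p.2 16777216))) = true := by decide +kernel

theorem LF3_spec : ∀ p ∈ LF3, ec p.2 ∈ UT ∧ ec p.2 * z1 = z1 * ec p.2 ∧ ec p.1 = (ec p.2)⁻¹ ∧ p.1 < 2 ^ 24 ∧
    p.2 < 2 ^ 24 := by
  intro p hp
  have h1 := LF3_words
  have h2 := LF3_inv
  rw [List.all_eq_true] at h1 h2
  have h3 := h2 p hp
  rw [Bool.and_eq_true, Bool.and_eq_true, Bool.and_eq_true, Nat.blt_eq, Nat.blt_eq] at h3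
  refine ⟨mem_of_words g12_fst_mem (h1 p hp), ?_, ec_inv_of h3.1, h3.2.2.1, h3.2.2.2⟩
  unfold z1
  rw [← ec_mulU, ← ec_mulU, Nat.eq_of_beq_eq_true h3.2.1]

theorem F3_codes {m : LL} (hm : m ∈ UT) (h : m * m = 1) : (∃ e ∈ X8, m = ec e) ∨
    ∃ C : List ℕ, (LF3.map fun p => (ec p.2)⁻¹ * m * ec p.2).reverse = C.map ec ∧ (∀ c ∈ C, c < 2 ^ 24) ∧ 5 ≤ dst C := by
  obtain ⟨e, he, rfl, -, h2⟩ := UT_all chkF3 hm
  have h4 : ec (mulU e e) = ec 0 := by rw [ec_mulU, h, ec_zero]
  have h6 : Nat.beq (mulU e e) 0 = true := by rw [ec_inj (mulU_lt he e) (by norm_num) h4]; rfl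
  rw [h6, cond_true, Bool.or_eq_true, mapF_eq, Nat.ble_eq] at h2
  rcases h2 with h2 | h2
  · exact Or.inl ⟨e, memB_spec h2, rfl⟩
  · right
    refine ⟨_, ?_, ?_, h2⟩
    · apply rev_map_aux
      intro p hp
      have h5 := (LF3_spec p hp).2.2.1
      show (ec p.2)⁻¹ * ec e * ec p.2 = ec (mulU (mulU p.1 e) p.2)
      rw [ec_mulU, ec_mulU, h5]
    · intro c hc
      rw [List.mem_reverse, List.mem_map] at hc
      obtain ⟨p, hp, rfl⟩ := hc
      exact mulU_lt (mulU_lt (LF3_spec p hp).2.2.2.1 _) _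

/-! ### the orbit of `q₀ q₄` -/

/-- one step of a table: `(e, k, f)` -/
def stepP (q : ℕ × ℕ × ℕ) : Bool :=
  (Nat.beq q.2.1 1 && (posW [1, 2, 1, 2] q.1 && Nat.beq (reflW [1, 2, 1, 2] q.1) q.2.2)) ||
  ((gens12.map Prod.fst).contains q.2.1 && Nat.beq (conjU q.2.1 q.1) q.2.2)

theorem nb_mem_Pz : nb ∈ Pz := mem_Pz.2 ⟨nb_mem_HT, nb_conj_z⟩

theorem stepP_spec {q : ℕ × ℕ × ℕ} (h : stepP q = true) : ∃ t ∈ Pz, t * ec q.1 * t⁻¹ = ec q.2.2 := by
  unfold stepP at h
  rw [Bool.or_eq_true, Bool.and_eq_true, Bool.and_eq_true, Bool.and_eq_true] at h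
  rcases h with ⟨-, h1, h2⟩ | ⟨h1, h2⟩
  · refine ⟨nb, nb_mem_Pz, ?_⟩
    rw [← Nat.eq_of_beq_eq_true h2]
    exact nw_conj_ec (by decide) h1
  · rw [List.contains_iff_mem] at h1
    refine ⟨ec q.2.1, UT_le_Pz (g12_fst_mem _ h1), ?_⟩
    rw [← Nat.eq_of_beq_eq_true h2, ec_conjU]

/-- check of a table with root `r` -/
def okP (r : ℕ) : List (ℕ × ℕ × ℕ) → Bool
  | [] => true
  | q :: T => okP r T && (stepP q && (Nat.beq q.2.2 r || (T.map Prod.fst).contains q.2.2))

theorem okP_spec {r : ℕ} {T : List (ℕ × ℕ × ℕ)} (h : okP r T = true) :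
    ∀ e ∈ T.map Prod.fst, ∃ t ∈ Pz, t * ec e * t⁻¹ = ec r := by
  induction T with
  | nil => intro e he; simp at he
  | cons q T ih =>
    unfold okP at h
    rw [Bool.and_eq_true, Bool.and_eq_true, Bool.or_eq_true] at h
    obtain ⟨h1, h2, h3⟩ := h
    intro e he
    rw [List.map_cons, List.mem_cons] at he
    rcases he with rfl | he
    · obtain ⟨t, ht, h4⟩ := stepP_spec h2
      rcases h3 with h3 | h3
      · rw [Nat.eq_of_beq_eq_true h3] at h4
        exact ⟨t, ht, h4⟩
      · rw [List.contains_iff_mem] at h3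
        obtain ⟨s, hs, h5⟩ := ih h1 _ h3
        refine ⟨s * t, Pz.mul_mem hs ht, ?_⟩
        rw [← h5, ← h4]
        group
    · exact ih h1 e he

/-- the orbit of `q₀ q₄` under `C_HT(z)` -/
def TP : List (ℕ × ℕ × ℕ) := [(2129920, 74, 6389760), (540672, 80, 4800512), (11567104, 74, 15826944),
  (6389760, 1, 806912), (2396160, 80, 13963264), (9977856, 80, 14237696), (12107776, 80, 16367616),
  (4800512, 74, 16367616), (15826944, 1, 10244096), (806912, 80, 12374016), (11833344, 80, 4526080),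
  (13963264, 513, 4526080), (2670592, 80, 6930432), (14237696, 74, 6930432), (16367616, 513, 6930432),
  (10244096, 80, 2936832), (12374016, 263172, 2936832), (4526080, 74, 2936832), (6930432, 1, 2936832)]

theorem okTP : okP 2936832 TP = true := by decide +kernel

/-- codes of the orbit -/
def O20 : List ℕ := 2936832 :: TP.map Prod.fst

theorem O20_spec : ∀ e ∈ O20, ∃ p ∈ Pz, p⁻¹ * ec 2936832 * p = ec e := by
  intro e he
  unfold O20 at he
  rw [List.mem_cons] at he
  rcases he with rfl | he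
  · exact ⟨1, Pz.one_mem, by group⟩
  · obtain ⟨t, ht, h⟩ := okP_spec okTP e he
    refine ⟨t, ht, ?_⟩
    rw [← h]
    group

theorem A32_orb : (A32.all fun e => Nat.beq e 0 || (Nat.beq e 9437184 || (memB e PT11 || memB e O20))) = true := by
  decide +kernel

/-- the classes of `AA` -/
theorem AA_orb {a : LL} (ha : a ∈ AA) : a = 1 ∨ a = z ∨ (∃ k, a = qf k ∨ a = z * qf k) ∨
    ∃ p ∈ Pz, p⁻¹ * ec 2936832 * p = a := by
  obtain ⟨e, he, rfl⟩ := mem_AA.1 ha
  have h := A32_orb
  rw [List.all_eq_true] at h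
  have h1 := h e he
  rw [Bool.or_eq_true, Bool.or_eq_true, Bool.or_eq_true] at h1
  rcases h1 with h1 | h1 | h1 | h1
  · left
    rw [Nat.eq_of_beq_eq_true h1, ec_zero]
  · right; left
    rw [Nat.eq_of_beq_eq_true h1]
    rfl
  · right
    rcases PT11_spec (memB_spec h1) with h2 | h2
    · exact Or.inl h2
    · exact Or.inr (Or.inl h2)
  · exact Or.inr (Or.inr (Or.inr (O20_spec e (memB_spec h1))))

theorem q0q4_eq : qf 0 * qf 4 = ec 2936832 := by
  have h : mulU 4259840 7196672 = 2936832 := by decide +kernel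
  rw [← h, ec_mulU]
  rfl

end Cfsg.Agent.TitsK
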