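import Cfsg.Agent.FourTwo.UMod
import Cfsg.Agent.FourTwo.Par
import Cfsg.Agent.FourTwo.Cent
import Cfsg.Agent.FourTwo.Classes
import Cfsg.Agent.ChevalleyStructure.TwF4.BN
import Cfsg.Agent.ChevalleyStructure.TwF4.TitsPerfect
import Cfsg.Agent.S1074
import Cfsg.Agent.S1090
import Cfsg.Agent.S0308

/-!
`²F₄(2)` and the Tits group inside `LL = F₄(2)`:

* `HT = ²F₄(2)`, `TT = ⁅HT, HT⁆`, `exists_equiv : TitsGroup ≃* TT`, `relIndex_TT`, `card_TT`, `card_HT`;
* `ya`, `yam`, `yb`, `ybm`: the generators of `HT`;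
* `UT = U ⊓ HT` (order `2 ^ 12`), `na`, `nb`: the reflections, `WT_cases`: the 16 elements of `N ⊓ HT`;
* `bruhat_HT`.
-/

set_option autoImplicit false

namespace Cfsg.Agent.TitsK

open Cfsg.Lie Cfsg.Agent.ChevalleyStructure.TwF4.Rel Cfsg.Agent.ChevalleyStructure.TwF4.Tables
open Cfsg.Agent.ChevalleyStructure.TwF4.TwistedFix (Rln exists_rln)
open Cfsg.Agent.FourTwo.Base hiding bar bar_lt
open Cfsg.Agent.FourTwo.BN Cfsg.Agent.FourTwo.Comm Cfsg.Agent.FourTwo.Classes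

/-- `²F₄(2)` in `GL` -/
abbrev T4 : Subgroup (GL chevF4.Idx (ZMod 2)) := twistedF4 (ZMod 2) 1

theorem tp_wd_eq (l : List ℕ) :
    Cfsg.Agent.ChevalleyStructure.TwF4.TitsPerfect.wd l = ((wd l : LL) : GL chevF4.Idx (ZMod 2)) := by
  induction l with
  | nil => rfl
  | cons r l ih =>
    rw [Cfsg.Agent.ChevalleyStructure.TwF4.TitsPerfect.wd_cons, ih, wd_cons]
    rfl

/-- `²F₄(2)` in `LL` -/
def HT : Subgroup LL := T4.subgroupOf (chevF4.group (ZMod 2))

theorem mem_HT {g : LL} : g ∈ HT ↔ (g : GL chevF4.Idx (ZMod 2)) ∈ T4 := Subgroup.mem_subgroupOf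

/-- the derived subgroup: the Tits group -/
def TT : Subgroup LL := ⁅HT, HT⁆

/-- `x_{p₁} x_{p₄}` -/
def ya : LL := wd [33, 24]
/-- `x_{-p₁} x_{-p₄}` -/
def yam : LL := wd [14, 23]
/-- `x_{p₂} x_{p₃} x_{p₂+p₃}` -/
def yb : LL := wd [27, 25, 28]
/-- `x_{-p₂} x_{-p₃} x_{-p₂-p₃}` -/
def ybm : LL := wd [20, 22, 19]

theorem ya_mem_HT : ya ∈ HT := by
  rw [mem_HT]
  have h := Cfsg.Agent.ChevalleyStructure.TwF4.TitsPerfect.gA_mem
  unfold Cfsg.Agent.ChevalleyStructure.TwF4.TitsPerfect.gA at h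
  rw [tp_wd_eq] at h
  exact h

theorem yam_mem_HT : yam ∈ HT := by
  rw [mem_HT]
  have h := Cfsg.Agent.ChevalleyStructure.TwF4.TitsPerfect.gA'_mem
  unfold Cfsg.Agent.ChevalleyStructure.TwF4.TitsPerfect.gA' at h
  rw [tp_wd_eq] at h
  exact h

theorem yb_mem_HT : yb ∈ HT := by
  rw [mem_HT]
  have h := Cfsg.Agent.ChevalleyStructure.TwF4.TitsPerfect.gC_mem
  unfold Cfsg.Agent.ChevalleyStructure.TwF4.TitsPerfect.gC at h
  rw [tp_wd_eq] at h
  exact h

theorem ybm_mem_HT : ybm ∈ HT := by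
  rw [mem_HT]
  have h := Cfsg.Agent.ChevalleyStructure.TwF4.TitsPerfect.gC'_mem
  unfold Cfsg.Agent.ChevalleyStructure.TwF4.TitsPerfect.gC' at h
  rw [tp_wd_eq] at h
  exact h

theorem T4_le_map {H : Subgroup LL} (h1 : ya ∈ H) (h2 : yam ∈ H) (h3 : yb ∈ H) (h4 : ybm ∈ H) :
    T4 ≤ H.map (chevF4.group (ZMod 2)).subtype := by
  refine Cfsg.Agent.ChevalleyStructure.TwF4.TitsPerfect.G2_le.trans ?_
  rw [Subgroup.closure_le]
  intro g hg
  simp only [Set.mem_insert_iff, Set.mem_singleton_iff] at hg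
  rcases hg with rfl | rfl | rfl | rfl
  · exact ⟨ya, h1, (tp_wd_eq _).symm⟩
  · exact ⟨yam, h2, (tp_wd_eq _).symm⟩
  · exact ⟨yb, h3, (tp_wd_eq _).symm⟩
  · exact ⟨ybm, h4, (tp_wd_eq _).symm⟩

theorem T4_le : T4 ≤ chevF4.group (ZMod 2) := by
  refine (T4_le_map (H := ⊤) trivial trivial trivial trivial).trans ?_
  rintro _ ⟨g, -, rfl⟩
  exact g.2

theorem HT_le {H : Subgroup LL} (h1 : ya ∈ H) (h2 : yam ∈ H) (h3 : yb ∈ H) (h4 : ybm ∈ H) : HT ≤ H := by
  intro g hg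
  rw [mem_HT] at hg
  obtain ⟨g', hg', he⟩ := T4_le_map h1 h2 h3 h4 hg
  have e : g' = g := Subtype.ext he
  rw [← e]
  exact hg'

theorem HT_eq : HT = Subgroup.closure {ya, yam, yb, ybm} := by
  apply le_antisymm
  · exact HT_le (Subgroup.subset_closure (by simp)) (Subgroup.subset_closure (by simp))
      (Subgroup.subset_closure (by simp)) (Subgroup.subset_closure (by simp))
  · rw [Subgroup.closure_le]
    intro g hg
    simp only [Set.mem_insert_iff, Set.mem_singleton_iff] at hg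
    rcases hg with rfl | rfl | rfl | rfl
    · exact ya_mem_HT
    · exact yam_mem_HT
    · exact yb_mem_HT
    · exact ybm_mem_HT

/-! ### `TT ≃* TitsGroup` -/

section General

theorem map_comm_aux {G : Type*} [Group G] (H : Subgroup G) : (commutator ↥H).map H.subtype = ⁅H, H⁆ := by
  rw [commutator_def, Subgroup.map_commutator, ← MonoidHom.range_eq_map, Subgroup.range_subtype]

theorem comm_le_aux {G : Type*} [Group G] (H : Subgroup G) : ⁅H, H⁆ ≤ H := by
  rw [← map_comm_aux]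
  rintro _ ⟨g, -, rfl⟩
  exact g.2

theorem relIndex_comm_aux {G : Type*} [Group G] (H : Subgroup G) :
    (⁅H, H⁆ : Subgroup G).relIndex H = (commutator ↥H).index := by
  rw [Subgroup.relIndex, ← map_comm_aux, Subgroup.subgroupOf,
    Subgroup.comap_map_eq_self_of_injective H.subtype_injective]

theorem relIndex_comm_of_map {G K : Type*} [Group G] [Group K] (f : G →* K) (hf : Function.Injective f)
    (H : Subgroup G) (T : Subgroup K) (h : H.map f = T) :
    (⁅H, H⁆ : Subgroup G).relIndex H = (commutator ↥T).index := by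
  rw [← relIndex_comm_aux, ← h, ← Subgroup.map_commutator, Subgroup.relIndex_map_map_of_injective _ _ hf]

theorem equiv_comm_of_map {G K : Type*} [Group G] [Group K] (f : G →* K) (hf : Function.Injective f)
    (H : Subgroup G) (T : Subgroup K) (h : H.map f = T) :
    Nonempty (↥(commutator ↥T) ≃* ↥(⁅H, H⁆ : Subgroup G)) := by
  subst h
  have e1 : ↥(commutator ↥(H.map f)) ≃* ↥((commutator ↥(H.map f)).map (H.map f).subtype) :=
    (commutator ↥(H.map f)).equivMapOfInjective _ (H.map f).subtype_injective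
  rw [map_comm_aux, ← Subgroup.map_commutator] at e1
  exact ⟨e1.trans ((⁅H, H⁆ : Subgroup G).equivMapOfInjective f hf).symm⟩

theorem card_of_relIndex {G : Type*} [Group G] {A B : Subgroup G} (h : A ≤ B) (n : ℕ) (hn : A.relIndex B = n) :
    Nat.card ↥A * n = Nat.card ↥B := by
  rw [← hn, Subgroup.relIndex, ← (A.subgroupOf B).card_mul_index,
    Nat.card_congr (Subgroup.subgroupOfEquivOfLe h).toEquiv]

end General

theorem map_HT : HT.map (chevF4.group (ZMod 2)).subtype = T4 :=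
  (Subgroup.map_subgroupOf_eq_of_le T4_le)

theorem TT_le : TT ≤ HT := comm_le_aux HT

theorem relIndex_TT : TT.relIndex HT = 2 := by
  refine Eq.trans ?_ Cfsg.Agent.S1074.result.1
  exact relIndex_comm_of_map _ (Subgroup.subtype_injective _) _ _ map_HT

theorem exists_equiv : Nonempty (TitsGroup ≃* ↥TT) :=
  equiv_comm_of_map _ (Subgroup.subtype_injective _) _ _ map_HT

theorem card_TT : Nat.card ↥TT = 2 ^ 11 * 3 ^ 3 * 5 ^ 2 * 13 := by
  obtain ⟨e⟩ := exists_equiv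
  rw [← Nat.card_congr e.toEquiv]
  exact Cfsg.Agent.S1074.result.2.2.2

theorem simple_TT : IsSimpleGroup ↥TT := by
  obtain ⟨e⟩ := exists_equiv
  have h := Cfsg.Agent.S1074.result.2.1
  have h1 : Nontrivial ↥TT := e.symm.toEquiv.nontrivial
  exact IsSimpleGroup.isSimpleGroup_of_surjective e.toMonoidHom e.surjective

theorem card_HT : Nat.card ↥HT = 2 ^ 12 * 3 ^ 3 * 5 ^ 2 * 13 := by
  have h := card_of_relIndex TT_le 2 relIndex_TT
  rw [card_TT] at h
  omega

/-! ### the unipotent subgroup -/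

/-- the Sylow 2-subgroup of `HT` -/
def UT : Subgroup LL := U ⊓ HT

theorem card_UT : Nat.card ↥UT = 2 ^ 12 := by
  have h := Cfsg.Agent.S1090.result (K := ZMod 2) (m := 0) (by simp)
  have e1 : UT = (chevF4.posUnipotent (ZMod 2) ⊓ T4).subgroupOf (chevF4.group (ZMod 2)) := rfl
  rw [e1, Nat.card_congr (Subgroup.subgroupOfEquivOfLe (inf_le_right.trans T4_le)).toEquiv]
  exact h

theorem ya_mem : ya ∈ UT := ⟨wd_mem_U (by decide), ya_mem_HT⟩
theorem yb_mem : yb ∈ UT := ⟨wd_mem_U (by decide), yb_mem_HT⟩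

/-! ### the reflections -/

/-- the reflection exchanging `ya` and `yam` -/
def na : LL := nw [0, 3]
/-- the reflection exchanging `yb` and `ybm` -/
def nb : LL := nw [1, 2, 1, 2]

theorem nw_cons (i : ℕ) (w : List ℕ) : nw (i :: w) = n i * nw w := by simp [nw]

theorem nw_append (w w' : List ℕ) : nw (w ++ w') = nw w * nw w' := by simp [nw]

theorem coe_nw (w : List ℕ) : ((nw w : LL) : GL chevF4.Idx (ZMod 2)) =
    Cfsg.Agent.ChevalleyStructure.TwF4.RankOne.NW (ZMod 2) w := by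
  induction w with
  | nil => rfl
  | cons i w ih =>
    rw [nw_cons, Cfsg.Agent.ChevalleyStructure.TwF4.RankOne.NW_cons, ← ih]
    rfl

theorem coe_na : ((na : LL) : GL chevF4.Idx (ZMod 2)) = Cfsg.Agent.ChevalleyStructure.TwF4.Rel.n1 (ZMod 2) := by
  rw [Cfsg.Agent.ChevalleyStructure.TwF4.TwistedFix.n1_eq_NW]
  exact coe_nw _

theorem coe_nb : ((nb : LL) : GL chevF4.Idx (ZMod 2)) = Cfsg.Agent.ChevalleyStructure.TwF4.Rel.n2 (ZMod 2) := by
  rw [Cfsg.Agent.ChevalleyStructure.TwF4.TwistedFix.n2_eq_NW]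
  exact coe_nw _

theorem na_mem_HT : na ∈ HT := by
  rw [mem_HT, coe_na]
  exact Cfsg.Agent.ChevalleyStructure.TwF4.TwistedFix.n1_mem

theorem nb_mem_HT : nb ∈ HT := by
  rw [mem_HT, coe_nb]
  exact Cfsg.Agent.ChevalleyStructure.TwF4.TwistedFix.n2_mem (by norm_num)

theorem nw_eq_of_act {w w' : List ℕ} (hw : ∀ i ∈ w, i < 4) (hw' : ∀ i ∈ w', i < 4)
    (h : ([33, 27, 25, 24].all fun p => act w p == act w' p) = true) : nw w = nw w' := by
  rw [← mul_inv_eq_one]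
  have h1 : (nw w')⁻¹ * nw w = 1 := by
    refine eq_one_of_fix (mul_mem (inv_mem (nw_mem_N hw')) (nw_mem_N hw)) (l := [33, 27, 25, 24]) (by decide)
      sep_simple fun p hp => ?_
    have hp' : p < 48 := by
      revert p
      decide
    rw [List.all_eq_true] at h
    have h2 := h p hp
    rw [beq_iff_eq] at h2
    have e : (nw w')⁻¹ * nw w * x p * ((nw w')⁻¹ * nw w)⁻¹ = (nw w')⁻¹ * (nw w * x p * (nw w)⁻¹) * nw w' := by group
    rw [e, nw_conj hw hp', h2, ← nw_conj hw' hp']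
    group
  rw [inv_mul_eq_one] at h1
  rw [h1, mul_inv_cancel]

/-- alternating words -/
def alt : Bool → ℕ → List ℕ
  | _, 0 => []
  | true, k + 1 => [0, 3] ++ alt false k
  | false, k + 1 => [1, 2, 1, 2] ++ alt true k

/-- words for the 16 elements of the Weyl group of `HT` -/
def W16 : List (List ℕ) := ((List.range 9).map fun k => alt true k) ++ ((List.range 7).map fun k => alt false (k + 1))

theorem W16_lt : (W16.all fun w => w.all fun i => decide (i < 4)) = true := by decide +kernel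

theorem lt_of_mem_W16 {w : List ℕ} (hw : w ∈ W16) : ∀ i ∈ w, i < 4 := by
  have h := W16_lt
  rw [List.all_eq_true] at h
  have h1 := h w hw
  rw [List.all_eq_true] at h1
  exact fun i hi => of_decide_eq_true (h1 i hi)

theorem W16_closed : (W16.all fun w => (W16.any fun w' => [33, 27, 25, 24].all fun p => act ([0, 3] ++ w) p == act w' p) &&
    (W16.any fun w' => [33, 27, 25, 24].all fun p => act ([1, 2, 1, 2] ++ w) p == act w' p)) = true := by
  decide +kernel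

theorem na_mul {w : List ℕ} (hw : w ∈ W16) : ∃ w' ∈ W16, na * nw w = nw w' := by
  have h := W16_closed
  rw [List.all_eq_true] at h
  have h1 := h w hw
  rw [Bool.and_eq_true, List.any_eq_true] at h1
  obtain ⟨w', hw', h2⟩ := h1.1
  refine ⟨w', hw', ?_⟩
  unfold na
  rw [← nw_append]
  refine nw_eq_of_act (fun i hi => ?_) (lt_of_mem_W16 hw') h2
  rw [List.mem_append] at hi
  rcases hi with hi | hi
  · revert i
    decide
  · exact lt_of_mem_W16 hw i hi

theorem nb_mul {w : List ℕ} (hw : w ∈ W16) : ∃ w' ∈ W16, nb * nw w = nw w' := by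
  have h := W16_closed
  rw [List.all_eq_true] at h
  have h1 := h w hw
  rw [Bool.and_eq_true, List.any_eq_true, List.any_eq_true] at h1
  obtain ⟨w', hw', h2⟩ := h1.2
  refine ⟨w', hw', ?_⟩
  unfold nb
  rw [← nw_append]
  refine nw_eq_of_act (fun i hi => ?_) (lt_of_mem_W16 hw') h2
  rw [List.mem_append] at hi
  rcases hi with hi | hi
  · revert i
    decide
  · exact lt_of_mem_W16 hw i hi

theorem na_mul_self : na * na = 1 := by
  have h : na * na = nw ([0, 3] ++ [0, 3]) := (nw_append _ _).symm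
  rw [h]
  exact nw_eq_of_act (w' := []) (by decide) (by decide) (by decide +kernel)

theorem nb_mul_self : nb * nb = 1 := by
  have h : nb * nb = nw ([1, 2, 1, 2] ++ [1, 2, 1, 2]) := (nw_append _ _).symm
  rw [h]
  exact nw_eq_of_act (w' := []) (by decide) (by decide) (by decide +kernel)

theorem na_inv : na⁻¹ = na := by rw [inv_eq_iff_mul_eq_one, na_mul_self]
theorem nb_inv : nb⁻¹ = nb := by rw [inv_eq_iff_mul_eq_one, nb_mul_self]

theorem nil_mem_W16 : ([] : List ℕ) ∈ W16 := by decide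

theorem coe_mem_closure {g : GL chevF4.Idx (ZMod 2)}
    (hg : g ∈ Subgroup.closure (Set.range (Cfsg.Agent.ChevalleyStructure.TwF4.BN.nn (ZMod 2)))) :
    ∃ w ∈ W16, g = ((nw w : LL) : GL chevF4.Idx (ZMod 2)) := by
  have ha : ∀ y : GL chevF4.Idx (ZMod 2), (∃ w ∈ W16, y = ((nw w : LL) : GL chevF4.Idx (ZMod 2))) →
      ∃ w ∈ W16, ((na : LL) : GL chevF4.Idx (ZMod 2)) * y = ((nw w : LL) : GL chevF4.Idx (ZMod 2)) := by
    rintro _ ⟨w, hw, rfl⟩
    obtain ⟨w', hw', h⟩ := na_mul hw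
    exact ⟨w', hw', by rw [← h]; rfl⟩
  have hb : ∀ y : GL chevF4.Idx (ZMod 2), (∃ w ∈ W16, y = ((nw w : LL) : GL chevF4.Idx (ZMod 2))) →
      ∃ w ∈ W16, ((nb : LL) : GL chevF4.Idx (ZMod 2)) * y = ((nw w : LL) : GL chevF4.Idx (ZMod 2)) := by
    rintro _ ⟨w, hw, rfl⟩
    obtain ⟨w', hw', h⟩ := nb_mul hw
    exact ⟨w', hw', by rw [← h]; rfl⟩
  have e1 : ((na : LL) : GL chevF4.Idx (ZMod 2))⁻¹ = ((na : LL) : GL chevF4.Idx (ZMod 2)) := by
    have h := congrArg (fun g : LL => (g : GL chevF4.Idx (ZMod 2))) na_inv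
    exact h
  have e2 : ((nb : LL) : GL chevF4.Idx (ZMod 2))⁻¹ = ((nb : LL) : GL chevF4.Idx (ZMod 2)) := by
    have h := congrArg (fun g : LL => (g : GL chevF4.Idx (ZMod 2))) nb_inv
    exact h
  rw [coe_na] at ha e1
  rw [coe_nb] at hb e2
  refine Subgroup.closure_induction_left
    (p := fun (g : GL chevF4.Idx (ZMod 2)) _ => ∃ w ∈ W16, g = ((nw w : LL) : GL chevF4.Idx (ZMod 2))) ?_ ?_ ?_ hg
  · exact ⟨[], nil_mem_W16, rfl⟩
  · rintro _ ⟨i, rfl⟩ y _ hy
    revert i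
    exact Fin.forall_fin_two.2 ⟨ha y hy, hb y hy⟩
  · rintro _ ⟨i, rfl⟩ y _ hy
    revert i
    refine Fin.forall_fin_two.2 ⟨?_, ?_⟩
    · rw [Cfsg.Agent.ChevalleyStructure.TwF4.BN.nn_zero, e1]
      exact ha y hy
    · rw [Cfsg.Agent.ChevalleyStructure.TwF4.BN.nn_one, e2]
      exact hb y hy

theorem exists_rln2 : ∃ φ : ZMod 2 →+* ZMod 2, Rln φ 1 := exists_rln (K := ZMod 2) (m := 0) (by simp)

/-- the 16 elements of `N ⊓ HT` -/
theorem WT_cases {g : LL} (h1 : g ∈ N) (h2 : g ∈ HT) : ∃ w ∈ W16, g = nw w := by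
  obtain ⟨φ, hφ⟩ := exists_rln2
  have h := (Cfsg.Agent.ChevalleyStructure.TwF4.BN.twistedData hφ).N_inf_G
  have h3 : (g : GL chevF4.Idx (ZMod 2)) ∈ chevF4.monomialSubgroup (ZMod 2) ⊓ T4 := ⟨mem_N.1 h1, mem_HT.1 h2⟩
  have h4 : chevF4.monomialSubgroup (ZMod 2) ⊓ T4 =
      Subgroup.closure (Set.range (Cfsg.Agent.ChevalleyStructure.TwF4.BN.nn (ZMod 2))) ⊔
        (chevF4.diagonalSubgroup (ZMod 2) ⊓ T4) := h
  rw [h4, diag_eq_bot, bot_inf_eq, sup_bot_eq] at h3
  obtain ⟨w, hw, he⟩ := coe_mem_closure h3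
  exact ⟨w, hw, Subtype.ext he⟩

/-- the Bruhat decomposition of `HT` -/
theorem bruhat_HT {g : LL} (hg : g ∈ HT) : ∃ u ∈ UT, ∃ w ∈ W16, ∃ v ∈ UT, g = u * nw w * v := by
  obtain ⟨φ, hφ⟩ := exists_rln2
  obtain ⟨P, hB, hN, -⟩ := Cfsg.Agent.ChevalleyStructure.TwF4.BN.exists_bnPair hφ
  have hg' := mem_HT.1 hg
  obtain ⟨m, hm, hgm⟩ := Cfsg.Agent.S0308.result P ⟨g, hg'⟩
  rw [DoubleCoset.mem_doubleCoset] at hgm
  obtain ⟨b, hb, b', hb', he⟩ := hgm
  have hbB : (b : GL chevF4.Idx (ZMod 2)) ∈ chevF4.borelSubgroup (ZMod 2) := by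
    have h : b ∈ P.B := hb
    rw [hB] at h
    exact h
  have hbB' : (b' : GL chevF4.Idx (ZMod 2)) ∈ chevF4.borelSubgroup (ZMod 2) := by
    have h : b' ∈ P.B := hb'
    rw [hB] at h
    exact h
  have hmN : (m : GL chevF4.Idx (ZMod 2)) ∈ chevF4.monomialSubgroup (ZMod 2) := by
    have h : m ∈ P.N := hm
    rw [hN] at h
    exact h
  rw [borel_eq] at hbB hbB'
  have hmG : (m : GL chevF4.Idx (ZMod 2)) ∈ chevF4.group (ZMod 2) := T4_le m.2
  obtain ⟨w, hw, hw'⟩ := WT_cases (g := ⟨m, hmG⟩) (mem_N.2 hmN) (mem_HT.2 m.2)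
  refine ⟨⟨b, T4_le b.2⟩, ⟨mem_U.2 hbB, mem_HT.2 b.2⟩, w, hw, ⟨b', T4_le b'.2⟩, ⟨mem_U.2 hbB', mem_HT.2 b'.2⟩, ?_⟩
  rw [← hw']
  apply Subtype.ext
  have h := congrArg Subtype.val he
  exact h

end Cfsg.Agent.TitsK
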