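import Cfsg.Agent.TitsK.Inst

/-!
The parabolic subgroup `Pz = C_HT(z) = Q8 ⟨xf⟩ ⟨yb⟩`:

* `ec_mem_RG_iff`, `mem_Q8_iff`, `Q8_all`, `Q_all`: codes of the elements of `Q8`, `Q8 ⊓ TT`;
* `xf` (order 5), `jf` (`jf² = z`, commutes with `xf`, `yb`), `sf = yb jf`;
* `xf_conj`: conjugation by `xf` on codes;
* `E8 = Q8 ⟨xf⟩`, `Pz_le`.
-/

set_option autoImplicit false
set_option Elab.async false

namespace Cfsg.Agent.TitsK

open Cfsg.Lie Cfsg.Agent.ChevalleyStructure.TwF4.Tables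
open Cfsg.Agent.FourTwo.Base hiding bar bar_lt
open Cfsg.Agent.FourTwo.BN Cfsg.Agent.FourTwo.Comm Cfsg.Agent.FourTwo.Classes
open Cfsg.Agent.FourTwo.Par
open Cfsg.Agent.FourTwo.UCode (mulU invU conjU lets letsL letsL_cons lets_eq land_pow_eq_zero colW colF force force_eq
  mem_lets wel_lets wel_mem)
open Cfsg.Agent.TitsK.Abs

/-! ### codes and closed sets of roots -/

theorem letsL_filter (e : ℕ) : ∀ (n a : ℕ),
    (letsL e ((List.range' a n).map fun k => (2 ^ k, k))) = (List.range' a n).filter fun k => e.testBit k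
  | 0, a => by simp [letsL]
  | n + 1, a => by
    rw [List.range'_succ, List.map_cons, letsL_cons, land_pow_eq_zero, letsL_filter e n (a + 1)]
    cases h : e.testBit a
    · rw [Bool.not_false, cond_true, List.filter_cons_of_neg (by simp [h])]
    · rw [Bool.not_true, cond_false, List.filter_cons_of_pos (by simp [h])]

theorem lets_filter (e : ℕ) : lets e = (List.range' 0 24).filter fun k => e.testBit k := by
  rw [lets_eq, letsL_filter]

theorem map_lets (e : ℕ) : (lets e).map (fun j => 24 + j) =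
    (Cfsg.Agent.ChevalleyStructure.F4TwU.posList 24).filter fun r => e.testBit (r - 24) := by
  have h : Cfsg.Agent.ChevalleyStructure.F4TwU.posList 24 = (List.range' 0 24).map fun j => 24 + j := by decide
  rw [lets_filter, h, List.filter_map]
  congr 1

theorem ec_mem_RG_iff {P : ℕ → Bool} (h : closedB P = true) {e : ℕ} :
    ec e ∈ RG P ↔ ∀ j < 24, e.testBit j = true → P (24 + j) = true := by
  rw [ec_eq_wd, map_lets, mem_RG_iff h]
  constructor
  · intro h1 j hj hb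
    exact h1 (24 + j) (by omega) (by omega) (by simpa using hb)
  · intro h1 r hr hr' hb
    have h2 := h1 (r - 24) (by omega) hb
    have e1 : 24 + (r - 24) = r := by omega
    rwa [e1] at h2

/-- the code has no letters `25, 27, 28, 30` -/
def q8B (e : ℕ) : Bool := !(e.testBit 1) && (!(e.testBit 3) && (!(e.testBit 4) && !(e.testBit 6)))

theorem q8B_iff {e : ℕ} : q8B e = true ↔ ec e ∈ RG P8 := by
  rw [ec_mem_RG_iff closed8]
  unfold q8B
  rw [Bool.and_eq_true, Bool.and_eq_true, Bool.and_eq_true, Bool.not_eq_true', Bool.not_eq_true', Bool.not_eq_true',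
    Bool.not_eq_true']
  constructor
  · rintro ⟨h1, h3, h4, h6⟩ j hj hb
    have key : ∀ j < 24, (j ≠ 1 ∧ j ≠ 3 ∧ j ≠ 4 ∧ j ≠ 6) → P8 (24 + j) = true := by decide
    apply key j hj
    refine ⟨?_, ?_, ?_, ?_⟩ <;> rintro rfl
    · rw [h1] at hb; exact absurd hb (by decide)
    · rw [h3] at hb; exact absurd hb (by decide)
    · rw [h4] at hb; exact absurd hb (by decide)
    · rw [h6] at hb; exact absurd hb (by decide)
  · intro h
    refine ⟨?_, ?_, ?_, ?_⟩
    · rw [← Bool.not_eq_true]; exact fun hb => absurd (h 1 (by norm_num) hb) (by decide)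
    · rw [← Bool.not_eq_true]; exact fun hb => absurd (h 3 (by norm_num) hb) (by decide)
    · rw [← Bool.not_eq_true]; exact fun hb => absurd (h 4 (by norm_num) hb) (by decide)
    · rw [← Bool.not_eq_true]; exact fun hb => absurd (h 6 (by norm_num) hb) (by decide)

theorem mem_Q8_iff {e : ℕ} (he : ec e ∈ UT) : ec e ∈ Q8 ↔ q8B e = true := by
  rw [q8B_iff]
  exact ⟨fun h => h.2, fun h => ⟨he, h⟩⟩

/-- check at the codes of `Q8` -/
def allQ8 (p : ℕ → Bool) : Bool := allU fun e => cond (q8B e) (p e) true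
/-- check at the codes of `Q8 ⊓ TT` -/
def allQ (p : ℕ → Bool) : Bool := allU fun e => cond (q8B e) (cond (parB e) true (p e)) true

theorem Q8_all {p : ℕ → Bool} (h : allQ8 p = true) {g : LL} (hg : g ∈ Q8) :
    ∃ e, e < 2 ^ 24 ∧ g = ec e ∧ (g ∈ TT ↔ parB e = false) ∧ q8B e = true ∧ p e = true := by
  obtain ⟨e, he, rfl, h2, h3⟩ := UT_all h (Q8_le hg)
  have h4 := (mem_Q8_iff (Q8_le hg)).1 hg
  rw [h4, cond_true] at h3
  exact ⟨e, he, rfl, h2, h4, h3⟩

theorem Q_all {p : ℕ → Bool} (h : allQ p = true) {g : LL} (hg : g ∈ Q8) (hT : g ∈ TT) :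
    ∃ e, e < 2 ^ 24 ∧ g = ec e ∧ parB e = false ∧ q8B e = true ∧ p e = true := by
  obtain ⟨e, he, rfl, h2, h4, h3⟩ := Q8_all h hg
  have h5 := h2.1 hT
  rw [h5, cond_false] at h3
  exact ⟨e, he, rfl, h5, h4, h3⟩

theorem UT_code {g : LL} (hg : g ∈ UT) : ∃ e, e < 2 ^ 24 ∧ g = ec e ∧ (g ∈ TT ↔ parB e = false) := by
  obtain ⟨q, hq, rfl⟩ := exists_leaf hg
  have h1 := leaf_par q hq
  refine ⟨q.1, h1.2, rfl, ?_⟩
  rw [h1.1]
  exact (leaf_mem q hq).2

theorem Q8_code {g : LL} (hg : g ∈ Q8) : ∃ e, e < 2 ^ 24 ∧ g = ec e ∧ (g ∈ TT ↔ parB e = false) ∧ q8B e = true := by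
  obtain ⟨e, he, rfl, h⟩ := UT_code (Q8_le hg)
  exact ⟨e, he, rfl, h, (mem_Q8_iff (Q8_le hg)).1 hg⟩

/-! ### the elements `xf`, `jf`, `sf` -/

/-- element of order 5 -/
def xf : LL := zb * zbm
/-- element of order 4 with square `z`, in `HT` and not in `TT` -/
def jf : LL := ec 1179680
/-- element of order 4 with `xf ^ sf = xf ^ 2` -/
def sf : LL := yb * jf

theorem xf_eq : xf = wd [28, 30, 19, 17] := by
  unfold xf zb zbm
  rw [← wd_append]
  rfl

theorem wd_pow_aux (l : List ℕ) : ∀ n : ℕ, wd l ^ n = wd (List.flatten (List.replicate n l))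
  | 0 => by simp
  | n + 1 => by
    rw [pow_succ', wd_pow_aux l n, List.replicate_succ, List.flatten_cons, wd_append]

theorem xf_pow5 : xf ^ 5 = 1 := by
  rw [xf_eq, wd_pow_aux, ← wd_nil]
  exact wd_eq _ _ (by decide +kernel)

theorem yb_inv : yb⁻¹ = wd [28, 25, 27] := by
  rw [inv_eq_iff_mul_eq_one]
  unfold yb
  rw [← wd_append, ← wd_nil]
  exact wd_eq _ _ (by decide +kernel)

theorem xf_conj_yb : yb⁻¹ * xf * yb = xf ^ 2 := by
  rw [yb_inv, xf_eq, wd_pow_aux]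
  unfold yb
  rw [← wd_append, ← wd_append]
  exact wd_eq _ _ (by decide +kernel)

theorem yb_conj_xf : yb * xf * yb⁻¹ = xf ^ 3 := by
  rw [yb_inv, xf_eq, wd_pow_aux]
  unfold yb
  rw [← wd_append, ← wd_append]
  exact wd_eq _ _ (by decide +kernel)

theorem jf_mem : jf ∈ UT := ec1179680
theorem jf_mem_HT : jf ∈ HT := jf_mem.2
theorem jf_not_mem : jf ∉ TT := t1179680

theorem jf_mem_Q8 : jf ∈ Q8 := (mem_Q8_iff jf_mem).2 (by decide +kernel)

theorem jf_sq : jf * jf = z := by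
  have h : mulU 1179680 1179680 = 9437184 := by decide +kernel
  unfold jf z
  rw [← ec_mulU, h]

theorem jf_comm_yb : jf * yb = yb * jf := by
  have h : mulU 1179680 74 = mulU 74 1179680 := by decide +kernel
  rw [yb_eq]
  unfold jf
  rw [← ec_mulU, ← ec_mulU, h]

theorem nb_conj_jf : nb * jf * nb⁻¹ = jf := by
  have h := nw_conj_ec (w := [1, 2, 1, 2]) (e := 1179680) (by decide) (by decide +kernel)
  have e : reflW [1, 2, 1, 2] 1179680 = 1179680 := by decide +kernel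
  rw [e] at h
  exact h

theorem jf_comm_zb : jf * zb = zb * jf := by
  rw [← yb_sq, ← mul_assoc, jf_comm_yb, mul_assoc, jf_comm_yb, mul_assoc]

theorem jf_comm_nb : jf * nb = nb * jf := by
  have h := nb_conj_jf
  have e : nb * jf = nb * jf * nb⁻¹ * nb := by group
  rw [e, h]

theorem jf_comm_zbm : jf * zbm = zbm * jf := by
  rw [← nb_conj_zb, nb_inv]
  rw [← mul_assoc, ← mul_assoc, jf_comm_nb, mul_assoc nb jf zb, jf_comm_zb, mul_assoc, mul_assoc, mul_assoc, mul_assoc,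
    jf_comm_nb]

theorem jf_comm_xf : jf * xf = xf * jf := by
  unfold xf
  rw [← mul_assoc, jf_comm_zb, mul_assoc, jf_comm_zbm, mul_assoc]

theorem xf_mem_TT : xf ∈ TT := TT.mul_mem zb_mem_TT zbm_mem_TT
theorem xf_mem_HT : xf ∈ HT := TT_le xf_mem_TT

theorem sf_mem : sf ∈ UT := UT.mul_mem yb_mem jf_mem

theorem sf_mem_TT : sf ∈ TT := by
  unfold sf
  rw [TT_mul_iff yb_mem_HT jf_mem_HT]
  exact iff_of_false yb_not_mem_TT jf_not_mem

theorem sf_eq : sf = ec 1179754 := by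
  have h : mulU 74 1179680 = 1179754 := by decide +kernel
  unfold sf jf
  rw [yb_eq, ← ec_mulU, h]

theorem sf_conj : sf⁻¹ * xf * sf = xf ^ 2 := by
  have h : jf⁻¹ * xf * jf = xf := by rw [mul_assoc, ← jf_comm_xf, inv_mul_cancel_left]
  have e : sf⁻¹ * xf * sf = jf⁻¹ * (yb⁻¹ * xf * yb) * jf := by unfold sf; group
  have e2 : jf⁻¹ * xf ^ 2 * jf = (jf⁻¹ * xf * jf) ^ 2 := by
    rw [pow_two, pow_two]
    group
  rw [e, xf_conj_yb, e2, h]

/-! ### conjugation by `xf` on codes -/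

/-- code of `nb a nb⁻¹` -/
def nbE (e : ℕ) : ℕ := reflW [1, 2, 1, 2] e
/-- code of `xf a xf⁻¹` -/
def xfE (e : ℕ) : ℕ := conjU 80 (nbE (conjU 80 (nbE e)))

theorem posW_of_q8B {e : ℕ} (h : q8B e = true) : posW [1, 2, 1, 2] e = true := by
  rw [q8B_iff, ec_mem_RG_iff closed8] at h
  unfold posW
  rw [List.all_eq_true]
  intro j hj
  obtain ⟨h1, h2⟩ := mem_lets.1 hj
  exact decide_eq_true (closedB_pos closed8 (act8 (24 + j) (by omega) (h j h1 h2)))

theorem nb_conj {e : ℕ} (he : ec e ∈ Q8) : nb * ec e * nb⁻¹ = ec (nbE e) :=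
  nw_conj_ec (by decide) (posW_of_q8B ((mem_Q8_iff (Q8_le he)).1 he))

theorem xf_conj {e : ℕ} (he : ec e ∈ Q8) : xf * ec e * xf⁻¹ = ec (xfE e) := by
  have e1 : xf * ec e * xf⁻¹ = zb * (nb * (zb * (nb * ec e * nb⁻¹) * zb⁻¹) * nb⁻¹) * zb⁻¹ := by
    unfold xf
    rw [← nb_conj_zb, nb_inv]
    simp only [mul_inv_rev, nb_inv, mul_assoc]
  have h1 := nb_conj_Q8 he
  have h2 : zb * (nb * ec e * nb⁻¹) * zb⁻¹ ∈ Q8 := UT_conj_Q8 (by rw [zb_eq]; exact ec80) h1
  rw [e1]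
  rw [nb_conj he] at h2 ⊢
  rw [zb_eq, ← ec_conjU] at h2 ⊢
  rw [nb_conj h2, ← ec_conjU]
  rfl

theorem xf_conj_Q8 {q : LL} (hq : q ∈ Q8) : xf * q * xf⁻¹ ∈ Q8 := by
  have e1 : xf * q * xf⁻¹ = zb * (nb * (zb * (nb * q * nb⁻¹) * zb⁻¹) * nb⁻¹) * zb⁻¹ := by
    unfold xf
    rw [← nb_conj_zb, nb_inv]
    simp only [mul_inv_rev, nb_inv, mul_assoc]
  have hz : zb ∈ UT := by rw [zb_eq]; exact ec80
  rw [e1]
  exact UT_conj_Q8 hz (nb_conj_Q8 (UT_conj_Q8 hz (nb_conj_Q8 hq)))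

theorem xf_mem_Pz : xf ∈ Pz := by
  rw [mem_Pz]
  refine ⟨xf_mem_HT, ?_⟩
  have h := xf_conj (e := 9437184) z_mem_Q8
  have e : xfE 9437184 = 9437184 := by decide +kernel
  rw [e] at h
  exact h

end Cfsg.Agent.TitsK
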