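import Cfsg.Agent.TitsK.ParA

/-!
The structure of `C_TT(z) = QQ ⟨xf⟩ ⟨sf⟩` and `C_HT(z) = QQ ⟨xf⟩ ⟨sf⟩ ⟨jf⟩`:

* `EE = QQ ⟨xf⟩`, `Pz_cases`, `UT_cases`, `EE_le_closure`, `EE_gen`, `comm_QQ`;
* `mem_EE_of_pow5`, `mem_QQ_of_pow4`, `sq_EE`, `syl5`;
* `cent_xf`, `cent_QQ`, `norm_AA`.
-/

set_option autoImplicit false
set_option Elab.async false

namespace Cfsg.Agent.TitsK

open Cfsg.Lie Cfsg.Agent.ChevalleyStructure.TwF4.Tables
open Cfsg.Agent.FourTwo.Base hiding bar bar_lt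
open Cfsg.Agent.FourTwo.BN Cfsg.Agent.FourTwo.Comm Cfsg.Agent.FourTwo.Classes
open Cfsg.Agent.FourTwo.Par
open Cfsg.Agent.FourTwo.UCode (mulU invU conjU lets letsL letsL_cons lets_eq land_pow_eq_zero colW colF force force_eq
  mem_lets wel_lets wel_mem)
open Cfsg.Agent.TitsK.Abs

/-! ### words in codes -/

/-- code of a product -/
def pwd (l : List ℕ) : ℕ := l.foldl mulU 0

theorem foldl_mem {H : Subgroup LL} {l : List ℕ} (h : ∀ c ∈ l, ec c ∈ H) {e : ℕ} (he : ec e ∈ H) :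
    ec (l.foldl mulU e) ∈ H := by
  induction l generalizing e with
  | nil => exact he
  | cons c l ih =>
    rw [List.foldl_cons]
    refine ih (fun c hc => h c (List.mem_cons_of_mem _ hc)) ?_
    rw [ec_mulU]
    exact H.mul_mem he (h c List.mem_cons_self)

theorem pwd_mem {H : Subgroup LL} {l : List ℕ} (h : ∀ c ∈ l, ec c ∈ H) : ec (pwd l) ∈ H :=
  foldl_mem h (by rw [ec_zero]; exact H.one_mem)

theorem QQ_le_of {H : Subgroup LL} (h : ∀ g ∈ gQ, ec g.1 ∈ H) : QQ ≤ H := fun _ hu =>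
  QQ_induct (P := fun u => u ∈ H) H.one_mem (fun _ g hg ha => H.mul_mem ha (h g hg)) hu

/-! ### `sf`, `jf`, `xf` -/

theorem sf_comm_jf : sf * jf = jf * sf := by
  unfold sf
  rw [← mul_assoc, jf_comm_yb]

theorem yb_eq_sf : yb = sf * jf⁻¹ := by
  unfold sf
  group

theorem jf_pow4 : jf ^ 4 = 1 := by
  have e : jf ^ 4 = jf * jf * (jf * jf) := by rw [pow_succ, pow_succ, pow_two, mul_assoc, mul_assoc]
  rw [e, jf_sq, z_sq]

theorem mul_pow4_aux {G : Type*} [Group G] {a b : G} (h : a * b = b * a) (ha : a ^ 4 = 1) (hb : b ^ 4 = 1) :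
    (a * b) ^ 4 = 1 := by
  have h' : Commute a b := h
  rw [h'.mul_pow, ha, hb, one_mul]

/-- elements of `E8 ⟨y⟩`, `y = s j⁻¹`, `E8 = EE ∪ EE j` -/
theorem cases_aux {G : Type*} [Group G] {E8 EE : Subgroup G} {y s j : G}
    (hn8 : y ∈ Subgroup.normalizer (E8 : Set G)) (hn : y ∈ Subgroup.normalizer (EE : Set G)) (hy : y = s * j⁻¹)
    (hsj : s * j = j * s) (hs : s ^ 4 = 1) (hj : j ^ 4 = 1) (hE : ∀ g ∈ E8, g ∈ EE ∨ g * j⁻¹ ∈ EE) {p : G}
    (hp : p ∈ mulSub E8 y hn8) : ∃ e ∈ EE, ∃ k l : ℕ, p = e * s ^ k * j ^ l := by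
  have red : ∀ (x : G), x ^ 4 = 1 → ∀ i : ℤ, ∃ k : ℕ, x ^ i = x ^ k := by
    intro x hx i
    refine ⟨(i % 4).toNat, ?_⟩
    have h0 : (0 : ℤ) ≤ i % 4 := Int.emod_nonneg _ (by norm_num)
    have h1 : i = 4 * (i / 4) + i % 4 := (Int.mul_ediv_add_emod i 4).symm
    rw [← zpow_natCast, Int.toNat_of_nonneg h0]
    conv_lhs => rw [h1, zpow_add, zpow_mul]
    have h2 : x ^ (4 : ℤ) = 1 := by exact_mod_cast hx
    rw [h2, one_zpow, one_mul]
  obtain ⟨i, g, hg, rfl⟩ := hp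
  have hc : Commute s j⁻¹ := Commute.inv_right hsj
  have h1 : y ^ i = s ^ i * j ^ (-i) := by rw [hy, hc.mul_zpow, inv_zpow, zpow_neg]
  have key : ∀ e ∈ EE, ∀ m : ℤ, y ^ i * (e * j ^ m) = y ^ i * e * (y ^ i)⁻¹ * s ^ i * j ^ (-i + m) := by
    intro e _ m
    rw [zpow_add, h1]
    group
  obtain ⟨k, hk⟩ := red s hs i
  have hi := Subgroup.zpow_mem _ hn i
  rcases hE g hg with h | h
  · obtain ⟨l, hl⟩ := red j hj (-i + 0)
    refine ⟨y ^ i * g * (y ^ i)⁻¹, (Subgroup.mem_normalizer_iff.1 hi g).1 h, k, l, ?_⟩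
    rw [← hk, ← hl, ← key g h 0, zpow_zero, mul_one]
  · obtain ⟨l, hl⟩ := red j hj (-i + 1)
    refine ⟨y ^ i * (g * j⁻¹) * (y ^ i)⁻¹, (Subgroup.mem_normalizer_iff.1 hi _).1 h, k, l, ?_⟩
    rw [← hk, ← hl, ← key _ h 1, zpow_one, inv_mul_cancel_right]

theorem sf_pow4 : sf ^ 4 = 1 := by
  unfold sf
  exact mul_pow4_aux (a := yb) (b := jf) jf_comm_yb.symm yb_pow4 jf_pow4

theorem QQ_le_Q8 : QQ ≤ Q8 := inf_le_left
theorem QQ_le_TT : QQ ≤ TT := inf_le_right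
theorem QQ_le_UT : QQ ≤ UT := QQ_le_Q8.trans Q8_le
theorem QQ_le_Pz : QQ ≤ Pz := QQ_le_Q8.trans Q8_le_Pz

theorem Pz_conj_QQ {p q : LL} (hp : p ∈ Pz) (hq : q ∈ QQ) : p * q * p⁻¹ ∈ QQ :=
  ⟨Pz_conj_Q8 hp hq.1, TT_conj (Pz_le_HT hp) hq.2⟩

theorem norm_QQ {p : LL} (hp : p ∈ Pz) : p ∈ Subgroup.normalizer (QQ : Set LL) :=
  mem_normalizer_of fun _ hq => Pz_conj_QQ hp hq

/-- `QQ ⟨xf⟩` -/
def EE : Subgroup LL := mulSub QQ xf (norm_QQ xf_mem_Pz)

theorem mem_EE {g : LL} : g ∈ EE ↔ ∃ i : ℤ, ∃ q ∈ QQ, g = xf ^ i * q := Iff.rfl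

theorem QQ_le_EE : QQ ≤ EE := fun g hg => mem_EE.2 ⟨0, g, hg, by group⟩
theorem xf_mem_EE : xf ∈ EE := mem_EE.2 ⟨1, 1, QQ.one_mem, by group⟩

theorem EE_le_E8 : EE ≤ E8 := by
  intro g hg
  obtain ⟨i, q, hq, rfl⟩ := mem_EE.1 hg
  exact mem_E8.2 ⟨i, q, QQ_le_Q8 hq, rfl⟩

theorem EE_le_Pz : EE ≤ Pz := EE_le_E8.trans E8_le_Pz

theorem EE_le_TT : EE ≤ TT := by
  intro g hg
  obtain ⟨i, q, hq, rfl⟩ := mem_EE.1 hg
  exact TT.mul_mem (TT.zpow_mem xf_mem_TT i) (QQ_le_TT hq)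

theorem mem_EE_iff {g : LL} : g ∈ EE ↔ g ∈ E8 ∧ g ∈ TT := by
  constructor
  · exact fun h => ⟨EE_le_E8 h, EE_le_TT h⟩
  · rintro ⟨h1, h2⟩
    obtain ⟨i, q, hq, rfl⟩ := mem_E8.1 h1
    refine mem_EE.2 ⟨i, q, ⟨hq, ?_⟩, rfl⟩
    have h3 := TT.mul_mem (TT.inv_mem (TT.zpow_mem xf_mem_TT i)) h2
    rw [inv_mul_cancel_left] at h3
    exact h3

theorem Pz_conj_EE {p g : LL} (hp : p ∈ Pz) (hg : g ∈ EE) : p * g * p⁻¹ ∈ EE := by
  rw [mem_EE_iff] at hg ⊢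
  exact ⟨Pz_conj_E8 hp hg.1, TT_conj (Pz_le_HT hp) hg.2⟩

theorem z_mem_QQ : z ∈ QQ := AA_le_QQ z_mem_AA
theorem z_mem_EE : z ∈ EE := QQ_le_EE z_mem_QQ

/-- powers of an element of finite order are natural powers -/
theorem zpow_nat_aux {G : Type*} [Group G] {x : G} {n : ℕ} (hn : 0 < n) (hx : x ^ n = 1) (i : ℤ) :
    ∃ k : ℕ, x ^ i = x ^ k := by
  refine ⟨(i % n).toNat, ?_⟩
  have h0 : (0 : ℤ) ≤ i % n := Int.emod_nonneg _ (by exact_mod_cast hn.ne')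
  have h1 : i = n * (i / n) + i % n := (Int.mul_ediv_add_emod i n).symm
  rw [← zpow_natCast, Int.toNat_of_nonneg h0]
  conv_lhs => rw [h1, zpow_add, zpow_mul]
  have h2 : x ^ (n : ℤ) = 1 := by exact_mod_cast hx
  rw [h2, one_zpow, one_mul]

theorem EE_cases {e : LL} (he : e ∈ EE) : ∃ u ∈ QQ, ∃ k : ℕ, e = u * xf ^ k := by
  obtain ⟨i, q, hq, rfl⟩ := mem_EE.1 he
  obtain ⟨k, hk⟩ := zpow_nat_aux (x := xf) (n := 5) (by norm_num) xf_pow5 i
  refine ⟨_, Pz_conj_QQ (Pz.zpow_mem xf_mem_Pz i) hq, k, ?_⟩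
  rw [← hk]
  group

/-- `Q8 = QQ ∪ QQ jf` -/
theorem Q8_cases {q : LL} (hq : q ∈ Q8) : q ∈ QQ ∨ q * jf⁻¹ ∈ QQ := by
  by_cases h : q ∈ TT
  · exact Or.inl ⟨hq, h⟩
  · right
    refine ⟨Q8.mul_mem hq (Q8.inv_mem jf_mem_Q8), ?_⟩
    show q * jf⁻¹ ∈ TT
    rw [TT_mul_iff (Q8_le hq).2 (HT.inv_mem jf_mem_HT)]
    exact iff_of_false h fun h1 => jf_not_mem (by
      have := TT.inv_mem h1
      rw [inv_inv] at this
      exact this)

theorem E8_cases {g : LL} (hg : g ∈ E8) : ∃ e ∈ EE, ∃ l : ℕ, g = e * jf ^ l := by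
  obtain ⟨i, q, hq, rfl⟩ := mem_E8.1 hg
  rcases Q8_cases hq with h | h
  · exact ⟨xf ^ i * q, mem_EE.2 ⟨i, q, h, rfl⟩, 0, by group⟩
  · exact ⟨xf ^ i * (q * jf⁻¹), mem_EE.2 ⟨i, _, h, rfl⟩, 1, by group⟩

theorem E8_cases' {g : LL} (hg : g ∈ E8) : g ∈ EE ∨ g * jf⁻¹ ∈ EE := by
  obtain ⟨i, q, hq, rfl⟩ := mem_E8.1 hg
  rcases Q8_cases hq with h | h
  · exact Or.inl (mem_EE.2 ⟨i, q, h, rfl⟩)
  · exact Or.inr (mem_EE.2 ⟨i, _, h, by group⟩)

theorem norm_EE {p : LL} (hp : p ∈ Pz) : p ∈ Subgroup.normalizer (EE : Set LL) :=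
  mem_normalizer_of fun _ hq => Pz_conj_EE hp hq

theorem Pz_cases {p : LL} (hp : p ∈ Pz) : ∃ e ∈ EE, ∃ k l : ℕ, p = e * sf ^ k * jf ^ l :=
  cases_aux (G := LL) (y := yb) (s := sf) (j := jf) yb_norm_E8 (norm_EE yb_mem_Pz) yb_eq_sf sf_comm_jf sf_pow4 jf_pow4
    (fun _ hg => E8_cases' hg) (Pz_le hp)

theorem UT_cases {u : LL} (hu : u ∈ UT) : ∃ q ∈ QQ, ∃ k l : ℕ, u = q * sf ^ k * jf ^ l := by
  obtain ⟨e, he, k, l, h⟩ := Pz_cases (UT_le_Pz hu)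
  refine ⟨e, ?_, k, l, h⟩
  have h1 : e ∈ UT := by
    have e1 : e = u * (sf ^ k * jf ^ l)⁻¹ := by
      rw [h]
      group
    rw [e1]
    exact UT.mul_mem hu (UT.inv_mem (UT.mul_mem (UT.pow_mem sf_mem k) (UT.pow_mem jf_mem l)))
  refine ⟨?_, EE_le_TT he⟩
  obtain ⟨n, hn⟩ := IsPGroup.iff_card.1 isPGroup_UT
  have h2 : e ^ (2 ^ 12) = 1 := by
    have h3 : (⟨e, h1⟩ : ↥UT) ^ Nat.card ↥UT = 1 := pow_card_eq_one'
    rw [card_UT] at h3
    have h4 := congrArg Subtype.val h3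
    exact h4
  refine mem_Q8_of_E8 (EE_le_E8 he) (n := 12) ?_
  rw [h2]
  exact Q8.one_mem

/-! ### orders of elements -/

theorem chk_pow4 : allG gQ (fun e => force (mulU e e) fun f => Nat.beq (mulU f f) 0) = true := by decide +kernel

theorem QQ_pow4 {q : LL} (hq : q ∈ QQ) : q ^ 4 = 1 := by
  obtain ⟨e, he, rfl, h⟩ := QQ_allG chk_pow4 hq
  rw [force_eq] at h
  have e1 : ec e ^ 4 = ec e * ec e * (ec e * ec e) := by rw [pow_succ, pow_succ, pow_two, mul_assoc, mul_assoc]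
  rw [e1, ← ec_mulU, ← ec_mulU, Nat.eq_of_beq_eq_true h, ec_zero]

theorem mem_QQ_of_pow4 {e : LL} (he : e ∈ EE) (h : e ^ 4 = 1) : e ∈ QQ := by
  refine ⟨mem_Q8_of_E8 (EE_le_E8 he) (n := 2) ?_, EE_le_TT he⟩
  have h4 : e ^ 2 ^ 2 = 1 := h
  rw [h4]
  exact Q8.one_mem

theorem sq_mem_TT {g : LL} (hg : g ∈ HT) : g * g ∈ TT := by
  rw [TT_mul_iff hg hg]

theorem mem_EE_of_pow5 {p : LL} (hp : p ∈ Pz) (h : p ^ 5 = 1) : p ∈ EE := by
  obtain ⟨f, hf, -, hf0⟩ := exists_lam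
  have hpow : ∀ n : ℕ, f (p ^ (n + 1)) = (n + 1 : ℕ) * f p := by
    intro n
    induction n with
    | zero => simp
    | succ n ih =>
      rw [pow_succ, hf _ (Pz.pow_mem hp _) _ hp, ih]
      push_cast
      ring
  rw [mem_EE_iff]
  constructor
  · rw [← hf0 p hp]
    have h1 := hpow 4
    rw [h] at h1
    have h2 : f 1 = 0 := by
      have h3 := hf 1 Pz.one_mem 1 Pz.one_mem
      rw [one_mul] at h3
      exact left_eq_add.1 h3
    rw [h2] at h1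
    have h5 : ((4 + 1 : ℕ) : ZMod 4) = 1 := by decide
    rw [h5, one_mul] at h1
    exact h1.symm
  · have e : p = p * p * (p * p) * (p * p) := by
      have e1 : p * p * (p * p) * (p * p) = p ^ 5 * p := by
        simp only [pow_succ, pow_zero, one_mul, mul_assoc]
      rw [e1, h, one_mul]
    rw [e]
    have h2 := sq_mem_TT (Pz_le_HT hp)
    exact TT.mul_mem (TT.mul_mem h2 h2) h2

/-- `C_HT(z) / EE ⟨jf⟩` is cyclic of order 4 -/
theorem sq_EE {p : LL} (hp : p ∈ Pz) (h : p * p ∈ EE) :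
    ∃ e ∈ EE, ∃ l : ℕ, p = e * jf ^ l ∨ p = e * (sf * sf) * jf ^ l := by
  obtain ⟨f, hf, hy, hf0⟩ := exists_lam
  obtain ⟨e, he, k, l, rfl⟩ := Pz_cases hp
  have hj : f jf = 0 := (hf0 jf jf_mem_Pz).2 jf_mem_E8
  have hs : f sf = 1 := by
    unfold sf
    rw [hf _ yb_mem_Pz _ jf_mem_Pz, hy, hj, add_zero]
  have h1 : f 1 = 0 := (hf0 1 Pz.one_mem).2 E8.one_mem
  have hsk : ∀ k : ℕ, f (sf ^ k) = k := by
    intro k
    induction k with
    | zero => rw [pow_zero, h1, Nat.cast_zero]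
    | succ k ih => rw [pow_succ, hf _ (Pz.pow_mem sf_mem_Pz k) _ sf_mem_Pz, ih, hs, Nat.cast_succ]
  have hjl : f (jf ^ l) = 0 := (hf0 _ (Pz.pow_mem jf_mem_Pz l)).2 (E8.pow_mem jf_mem_E8 l)
  have heP := EE_le_Pz he
  have hp1 : f (e * sf ^ k * jf ^ l) = k := by
    rw [hf _ (Pz.mul_mem heP (Pz.pow_mem sf_mem_Pz k)) _ (Pz.pow_mem jf_mem_Pz l), hf _ heP _ (Pz.pow_mem sf_mem_Pz k),
      hsk, hjl, (hf0 e heP).2 (EE_le_E8 he), zero_add, add_zero]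
  have h2 : f (e * sf ^ k * jf ^ l * (e * sf ^ k * jf ^ l)) = 0 := (hf0 _ (Pz.mul_mem hp hp)).2 (EE_le_E8 h)
  rw [hf _ hp _ hp, hp1] at h2
  have h3 : (4 : ℕ) ∣ k + k := by
    rw [← ZMod.natCast_eq_zero_iff, Nat.cast_add]
    exact h2
  have h4 : k % 4 = 0 ∨ k % 4 = 2 := by omega
  refine ⟨e, he, l, ?_⟩
  have h5 : sf ^ k = sf ^ (k % 4) := by
    conv_lhs => rw [← Nat.div_add_mod k 4, pow_add, pow_mul, sf_pow4, one_pow, one_mul]
  rcases h4 with h4 | h4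
  · left
    rw [h5, h4, pow_zero, mul_one]
  · right
    rw [h5, h4, pow_two]

/-! ### generation -/

/-- the code of `r`, an element of `QQ` moving `q 0`, `q 1` -/
def rc : ℕ := 1463845
/-- an element of `QQ` moving `q 0`, `q 1` -/
def rf : LL := ec rc

/-- the codes of the conjugates of `rf` under `⟨xf⟩` -/
def RK : List ℕ := [1463845, 14999173, 13495684, 5482912, 16567428]

/-- the generators of `QQ` as words in `RK` -/
def WQ : List (List ℕ) := [[14999173, 16567428, 14999173, 14999173], [14999173, 16567428, 14999173, 14999173, 1463845],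
  [5482912, 13495684, 14999173, 16567428, 14999173], [1463845, 13495684, 1463845, 16567428],
  [13495684, 13495684, 5482912, 5482912], [14999173, 1463845, 16567428, 13495684, 5482912],
  [1463845, 14999173, 16567428, 5482912, 13495684], [1463845, 1463845, 14999173, 14999173],
  [1463845, 13495684, 1463845, 13495684]]

theorem WQ_ok : (gQ.all fun g => WQ.any fun w => Nat.beq (pwd w) g.1 && w.all RK.contains) = true := by decide +kernel

/-- code of `u (x u⁻¹ x⁻¹)` -/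
def cuE (u : ℕ) : ℕ := mulU u (xfE (invU u))

/-- the generators of `QQ` as words in the `u (x u⁻¹ x⁻¹)`, `u` in `gQ` -/
def WC : List (List ℕ) := [[513, 7473312, 4259840], [7473312, 1459236, 8448, 540672], [266240, 4259840, 1459236, 513],
  [513, 513, 1459236], [266240, 2129920], [8448, 540672, 8448], [513, 2129920, 513, 2129920], [540672],
  [1459236, 8448, 1459236, 8448]]

theorem WC_ok : (gQ.all fun g => WC.any fun w => Nat.beq (pwd (w.map cuE)) g.1 && w.all (gQ.map Prod.fst).contains) =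
    true := by decide +kernel

theorem QQ_le_of_RK {H : Subgroup LL} (h : ∀ c ∈ RK, ec c ∈ H) : QQ ≤ H := by
  refine QQ_le_of fun g hg => ?_
  have h1 := WQ_ok
  rw [List.all_eq_true] at h1
  have h2 := h1 g hg
  rw [List.any_eq_true] at h2
  obtain ⟨w, -, h3⟩ := h2
  rw [Bool.and_eq_true, List.all_eq_true] at h3
  rw [← Nat.eq_of_beq_eq_true h3.1]
  exact pwd_mem fun c hc => h c (List.contains_iff_mem.1 (h3.2 c hc))

theorem QQ_le_of_cu {H : Subgroup LL} (h : ∀ g ∈ gQ, ec (cuE g.1) ∈ H) : QQ ≤ H := by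
  refine QQ_le_of fun g hg => ?_
  have h1 := WC_ok
  rw [List.all_eq_true] at h1
  have h2 := h1 g hg
  rw [List.any_eq_true] at h2
  obtain ⟨w, -, h3⟩ := h2
  rw [Bool.and_eq_true, List.all_eq_true] at h3
  rw [← Nat.eq_of_beq_eq_true h3.1]
  refine pwd_mem fun c hc => ?_
  rw [List.mem_map] at hc
  obtain ⟨d, hd, rfl⟩ := hc
  have h4 := List.contains_iff_mem.1 (h3.2 d hd)
  rw [List.mem_map] at h4
  obtain ⟨g', hg', rfl⟩ := h4
  exact h g' hg'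

theorem ec_cuE {g : ℕ} (h : ec g ∈ QQ) : ec (cuE g) = ec g * xf * (ec g)⁻¹ * xf⁻¹ := by
  unfold cuE
  have h1 : ec (invU g) ∈ Q8 := by
    rw [ec_invU]
    exact Q8.inv_mem (QQ_le_Q8 h)
  rw [ec_mulU, ← xf_conj h1, ec_invU]
  group

theorem xf_ne : xf ≠ 1 := by
  intro h
  have h1 := xf_conj (e := 4259840) z1_mem_Q8
  have e : xfE 4259840 = 7196672 := by decide +kernel
  rw [h, e] at h1
  have h2 : ec 4259840 = ec 7196672 := by
    rw [← h1, one_mul, inv_one, mul_one]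
  exact absurd (ec_inj (by norm_num) (by norm_num) h2) (by norm_num)

/-- `EE` is generated by its elements of order 5 -/
theorem EE_le_closure : EE ≤ Subgroup.closure {p | p ∈ Pz ∧ p ^ 5 = 1} := by
  have hx : xf ∈ Subgroup.closure {p | p ∈ Pz ∧ p ^ 5 = 1} := Subgroup.subset_closure ⟨xf_mem_Pz, xf_pow5⟩
  have hQ : QQ ≤ Subgroup.closure {p | p ∈ Pz ∧ p ^ 5 = 1} := by
    refine QQ_le_of_cu fun g hg => ?_
    rw [ec_cuE (gQ_mem g hg)]
    refine Subgroup.mul_mem _ (Subgroup.subset_closure ⟨?_, ?_⟩) (Subgroup.inv_mem _ hx)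
    · have h := QQ_le_Pz (gQ_mem g hg)
      exact Pz.mul_mem (Pz.mul_mem h xf_mem_Pz) (Pz.inv_mem h)
    · rw [conj_pow, xf_pow5]
      group
  intro g hg
  obtain ⟨i, q, hq, rfl⟩ := mem_EE.1 hg
  exact Subgroup.mul_mem _ (Subgroup.zpow_mem _ hx i) (hQ hq)

theorem RK_ok : (Nat.beq (xfE 1463845) 14999173 && (Nat.beq (xfE 14999173) 13495684 &&
    (Nat.beq (xfE 13495684) 5482912 && Nat.beq (xfE 5482912) 16567428))) = true := by decide +kernel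

/-- the elements of `RK` as words in `gQ` -/
def WR : List (List ℕ) := [[513, 1459236], [7473312, 1459236, 513], [7473312, 1459236, 8448], [8448, 7473312, 2129920],
  [7473312, 1459236, 9437184]]

theorem WR_ok : (RK.all fun c => WR.any fun w => Nat.beq (pwd w) c && w.all (gQ.map Prod.fst).contains) =
    true := by decide +kernel

theorem RK_mem_QQ : ∀ c ∈ RK, ec c ∈ QQ := by
  intro c hc
  have h1 := WR_ok
  rw [List.all_eq_true] at h1
  have h2 := h1 c hc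
  rw [List.any_eq_true] at h2
  obtain ⟨w, -, h3⟩ := h2
  rw [Bool.and_eq_true, List.all_eq_true] at h3
  rw [← Nat.eq_of_beq_eq_true h3.1]
  refine pwd_mem fun d hd => ?_
  have h4 := List.contains_iff_mem.1 (h3.2 d hd)
  rw [List.mem_map] at h4
  obtain ⟨g', hg', rfl⟩ := h4
  exact gQ_mem g' hg'

theorem rf_mem : rf ∈ QQ := RK_mem_QQ rc (by decide)

theorem RK_conj : xf * ec 1463845 * xf⁻¹ = ec 14999173 ∧ xf * ec 14999173 * xf⁻¹ = ec 13495684 ∧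
    xf * ec 13495684 * xf⁻¹ = ec 5482912 ∧ xf * ec 5482912 * xf⁻¹ = ec 16567428 := by
  have h := RK_ok
  rw [Bool.and_eq_true, Bool.and_eq_true, Bool.and_eq_true] at h
  obtain ⟨h1, h2, h3, h4⟩ := h
  have m : ∀ c ∈ RK, ec c ∈ Q8 := fun c hc => QQ_le_Q8 (RK_mem_QQ c hc)
  refine ⟨?_, ?_, ?_, ?_⟩
  · rw [xf_conj (m _ (by decide)), Nat.eq_of_beq_eq_true h1]
  · rw [xf_conj (m _ (by decide)), Nat.eq_of_beq_eq_true h2]
  · rw [xf_conj (m _ (by decide)), Nat.eq_of_beq_eq_true h3]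
  · rw [xf_conj (m _ (by decide)), Nat.eq_of_beq_eq_true h4]

/-- `EE = ⟨rf, xf⟩` -/
theorem EE_gen : EE ≤ Subgroup.closure {rf, xf} := by
  have hx : xf ∈ Subgroup.closure ({rf, xf} : Set LL) := Subgroup.subset_closure (by simp)
  have hr : ec 1463845 ∈ Subgroup.closure ({rf, xf} : Set LL) := Subgroup.subset_closure (by left; rfl)
  obtain ⟨h1, h2, h3, h4⟩ := RK_conj
  have k1 : ec 14999173 ∈ Subgroup.closure ({rf, xf} : Set LL) := by
    rw [← h1]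
    exact Subgroup.mul_mem _ (Subgroup.mul_mem _ hx hr) (Subgroup.inv_mem _ hx)
  have k2 : ec 13495684 ∈ Subgroup.closure ({rf, xf} : Set LL) := by
    rw [← h2]
    exact Subgroup.mul_mem _ (Subgroup.mul_mem _ hx k1) (Subgroup.inv_mem _ hx)
  have k3 : ec 5482912 ∈ Subgroup.closure ({rf, xf} : Set LL) := by
    rw [← h3]
    exact Subgroup.mul_mem _ (Subgroup.mul_mem _ hx k2) (Subgroup.inv_mem _ hx)
  have k4 : ec 16567428 ∈ Subgroup.closure ({rf, xf} : Set LL) := by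
    rw [← h4]
    exact Subgroup.mul_mem _ (Subgroup.mul_mem _ hx k3) (Subgroup.inv_mem _ hx)
  have hQ : QQ ≤ Subgroup.closure ({rf, xf} : Set LL) := by
    refine QQ_le_of_RK fun c hc => ?_
    simp only [RK, List.mem_cons, List.not_mem_nil, or_false] at hc
    rcases hc with rfl | rfl | rfl | rfl | rfl
    · exact hr
    · exact k1
    · exact k2
    · exact k3
    · exact k4
  intro g hg
  obtain ⟨i, q, hq, rfl⟩ := mem_EE.1 hg
  exact Subgroup.mul_mem _ (Subgroup.zpow_mem _ hx i) (hQ hq)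

/-! ### commutators -/

theorem chk_commQ : allG gQ8 (fun e => gQ8.all fun g => force (commU e g.1) fun f => memB f A32) = true := by
  decide +kernel

theorem comm_QQ_gen {u : LL} (hu : u ∈ Q8) : ∀ g ∈ gQ8, u * ec g.1 * (u⁻¹ * (ec g.1)⁻¹) ∈ AA := by
  obtain ⟨e, he, rfl, h⟩ := Q8_allG chk_commQ hu
  rw [List.all_eq_true] at h
  intro g hg
  have h1 := h g hg
  rw [force_eq] at h1
  rw [← ec_commU]
  exact ⟨_, memB_spec h1, rfl⟩

theorem comm_mul_aux {G : Type*} [Group G] (a b g : G) :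
    a * (b * g) * (a⁻¹ * (b * g)⁻¹) = a * b * (a⁻¹ * b⁻¹) * (b * (a * g * (a⁻¹ * g⁻¹)) * b⁻¹) := by group

theorem comm_Q8 {a b : LL} (ha : a ∈ Q8) (hb : b ∈ Q8) : a * b * (a⁻¹ * b⁻¹) ∈ AA := by
  have key : b ∈ Q8 ∧ a * b * (a⁻¹ * b⁻¹) ∈ AA := by
    refine Q8_induct (P := fun b => b ∈ Q8 ∧ a * b * (a⁻¹ * b⁻¹) ∈ AA) ⟨Q8.one_mem, ?_⟩ ?_ hb
    · have e : a * 1 * (a⁻¹ * 1⁻¹) = 1 := by group
      rw [e]
      exact AA.one_mem
    · rintro b g hg ⟨hb, h⟩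
      refine ⟨Q8.mul_mem hb (gQ8_mem g hg), ?_⟩
      rw [comm_mul_aux]
      exact AA.mul_mem h (Pz_conj_AA (Q8_le_Pz hb) (comm_QQ_gen ha g hg))
  exact key.2

theorem comm_pairs : (gA.all fun g => [(513, 1459236), (513, 7473312), (1459236, 8448), (7473312, 8448),
    (513, 4259840)].any fun p => Nat.beq (commU p.1 p.2) g.1 &&
      ((gQ.map Prod.fst).contains p.1 && (gQ.map Prod.fst).contains p.2)) = true := by decide +kernel

theorem comm_QQ : (⁅QQ, QQ⁆ : Subgroup LL) = AA := by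
  apply le_antisymm
  · rw [Subgroup.commutator_le]
    intro a ha b hb
    rw [commutatorElement_def, mul_assoc]
    exact comm_Q8 (QQ_le_Q8 ha) (QQ_le_Q8 hb)
  · refine AA_le_of fun g hg => ?_
    have h := comm_pairs
    rw [List.all_eq_true] at h
    have h1 := h g hg
    rw [List.any_eq_true] at h1
    obtain ⟨p, -, h2⟩ := h1
    rw [Bool.and_eq_true, Bool.and_eq_true, List.contains_iff_mem, List.contains_iff_mem] at h2
    obtain ⟨h3, h4, h5⟩ := h2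
    have m : ∀ c ∈ gQ.map Prod.fst, ec c ∈ QQ := by
      intro c hc
      rw [List.mem_map] at hc
      obtain ⟨g', hg', rfl⟩ := hc
      exact gQ_mem g' hg'
    rw [← Nat.eq_of_beq_eq_true h3, ec_commU]
    have h6 := Subgroup.commutator_mem_commutator (m _ h4) (m _ h5)
    rw [commutatorElement_def, mul_assoc] at h6
    exact h6

end Cfsg.Agent.TitsK
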