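import Cfsg.Agent.TitsK.Facts
import Cfsg.Agent.TitsK.Bound
import Cfsg.Agent.TitsK.Abs

/-!
The two parabolic subgroups of `HT` and the opposite unipotent group `VT = w₀ UT w₀⁻¹`:

* `Q8`, `Q1`: the kernels (`UT ⊓ RG P8`, `UT ⊓ RG P1`), `conj_Q8`, `conj_Q1`;
* `Pz = C_HT(z)`, `V4 = ⟨z, z1⟩`, `Pv = N_HT(V4)`;
* `VT_cent_z`: the elements of `VT` commuting with `z` are the powers of `ybm`;
* `VT_norm_V4`: the elements of `VT` normalising `V4` are `1`, `yam`.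
-/

set_option autoImplicit false

namespace Cfsg.Agent.TitsK

open Cfsg.Lie Cfsg.Agent.ChevalleyStructure.TwF4.Tables
open Cfsg.Agent.FourTwo.Base hiding bar bar_lt
open Cfsg.Agent.FourTwo.BN Cfsg.Agent.FourTwo.Comm Cfsg.Agent.FourTwo.Classes
open Cfsg.Agent.FourTwo.Par
open Cfsg.Agent.FourTwo.Cent (U_eq)
open Cfsg.Agent.FourTwo.UCode (mulU invU conjU lets colW colF force force_eq mem_lets wel_lets wel_mem)
open Cfsg.Agent.TitsK.Abs

/-! ### kernels -/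

/-- the positive roots outside the class 8 -/
def P8 (r : ℕ) : Bool := decide (24 ≤ r) && !([25, 27, 28, 30].contains r)
/-- the positive roots outside the class 1 -/
def P1 (r : ℕ) : Bool := decide (24 ≤ r) && !([24, 33].contains r)

theorem closed8 : closedB P8 = true := by decide +kernel
theorem closed1 : closedB P1 = true := by decide +kernel
theorem norm8 : normB Cfsg.Agent.FourTwo.Cent.posP P8 = true := by decide +kernel
theorem norm1 : normB Cfsg.Agent.FourTwo.Cent.posP P1 = true := by decide +kernel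

theorem RG_conj_act {w : List ℕ} (hw : ∀ i ∈ w, i < 4) {P : ℕ → Bool} (h : ∀ r < 48, P r = true → P (act w r) = true)
    {g : LL} (hg : g ∈ RG P) : nw w * g * (nw w)⁻¹ ∈ RG P := by
  have h1 : RG P ≤ cj (nw w)⁻¹ (RG P) := RG_le fun r hr hP => by
    rw [mem_cj, inv_inv, nw_conj hw hr]
    exact x_mem_RG (act_lt hw hr) (h r hr hP)
  have h2 := h1 hg
  rw [mem_cj, inv_inv] at h2
  exact h2

theorem act8 : ∀ r < 48, P8 r = true → P8 (act [1, 2, 1, 2] r) = true := by decide +kernel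
theorem act1 : ∀ r < 48, P1 r = true → P1 (act [0, 3] r) = true := by decide +kernel

/-- the kernel for `z` -/
def Q8 : Subgroup LL := UT ⊓ RG P8
/-- the kernel for `V4` -/
def Q1 : Subgroup LL := UT ⊓ RG P1

theorem Q8_le : Q8 ≤ UT := inf_le_left
theorem Q1_le : Q1 ≤ UT := inf_le_left

theorem UT_conj_RG {P : ℕ → Bool} (h : normB Cfsg.Agent.FourTwo.Cent.posP P = true) {u g : LL} (hu : u ∈ UT) (hg : g ∈ RG P) :
    u * g * u⁻¹ ∈ RG P := by
  have h1 := hu.1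
  rw [U_eq] at h1
  exact conj_mem h h1 hg

theorem UT_conj_Q8 {u q : LL} (hu : u ∈ UT) (hq : q ∈ Q8) : u * q * u⁻¹ ∈ Q8 :=
  ⟨UT.mul_mem (UT.mul_mem hu hq.1) (UT.inv_mem hu), UT_conj_RG norm8 hu hq.2⟩

theorem UT_conj_Q1 {u q : LL} (hu : u ∈ UT) (hq : q ∈ Q1) : u * q * u⁻¹ ∈ Q1 :=
  ⟨UT.mul_mem (UT.mul_mem hu hq.1) (UT.inv_mem hu), UT_conj_RG norm1 hu hq.2⟩

theorem nb_conj_Q8 {q : LL} (hq : q ∈ Q8) : nb * q * nb⁻¹ ∈ Q8 := by
  have h1 : nb * q * nb⁻¹ ∈ RG P8 := RG_conj_act (w := [1, 2, 1, 2]) (by decide) act8 hq.2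
  exact ⟨⟨RG_le_U closed8 h1, HT.mul_mem (HT.mul_mem nb_mem_HT hq.1.2) (HT.inv_mem nb_mem_HT)⟩, h1⟩

theorem na_conj_Q1 {q : LL} (hq : q ∈ Q1) : na * q * na⁻¹ ∈ Q1 := by
  have h1 : na * q * na⁻¹ ∈ RG P1 := RG_conj_act (w := [0, 3]) (by decide) act1 hq.2
  exact ⟨⟨RG_le_U closed1 h1, HT.mul_mem (HT.mul_mem na_mem_HT hq.1.2) (HT.inv_mem na_mem_HT)⟩, h1⟩

theorem ec_mem_RG {P : ℕ → Bool} {e : ℕ} (h : ((lets e).all fun j => P (24 + j)) = true) : ec e ∈ RG P := by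
  rw [ec_eq_wd]
  rw [List.all_eq_true] at h
  refine wd_mem_RG fun r hr => ?_
  rw [List.mem_map] at hr
  obtain ⟨j, hj, rfl⟩ := hr
  have := (mem_lets.1 hj).1
  exact ⟨by omega, h j hj⟩

theorem gens8 : (gens12.all fun g => Nat.beq g.1 74 || Nat.beq g.1 80 || (lets g.1).all fun j => P8 (24 + j)) = true := by
  decide +kernel
theorem gens1 : (gens12.all fun g => Nat.beq g.1 513 || (lets g.1).all fun j => P1 (24 + j)) = true := by
  decide +kernel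

theorem UT_decomp8 {u : LL} (hu : u ∈ UT) : ∃ i : ℕ, ∃ q ∈ Q8, u = yb ^ i * q := by
  refine UT_induct (P := fun u => ∃ i : ℕ, ∃ q ∈ Q8, u = yb ^ i * q) ⟨0, 1, Q8.one_mem, by group⟩ ?_ hu
  rintro a g hg ⟨i, q, hq, rfl⟩
  have h := gens8
  rw [List.all_eq_true] at h
  have h1 := h g hg
  rw [Bool.or_eq_true, Bool.or_eq_true] at h1
  have hyb : ∀ n : ℕ, yb ^ i * q * yb ^ n = yb ^ (i + n) * ((yb ^ n)⁻¹ * q * ((yb ^ n)⁻¹)⁻¹) := by
    intro n
    rw [pow_add, inv_inv]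
    group
  rcases h1 with (h1 | h1) | h1
  · rw [Nat.eq_of_beq_eq_true h1, ← yb_eq]
    refine ⟨i + 1, _, UT_conj_Q8 (UT.inv_mem (UT.pow_mem yb_mem 1)) hq, ?_⟩
    rw [← hyb 1, pow_one]
  · rw [Nat.eq_of_beq_eq_true h1, ← zb_eq, ← yb_sq]
    refine ⟨i + 2, _, UT_conj_Q8 (UT.inv_mem (UT.pow_mem yb_mem 2)) hq, ?_⟩
    rw [← hyb 2, pow_two]
  · exact ⟨i, q * ec g.1, Q8.mul_mem hq ⟨gens_mem g hg, ec_mem_RG h1⟩, by rw [mul_assoc]⟩

theorem UT_decomp1 {u : LL} (hu : u ∈ UT) : ∃ i : ℕ, ∃ q ∈ Q1, u = ya ^ i * q := by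
  refine UT_induct (P := fun u => ∃ i : ℕ, ∃ q ∈ Q1, u = ya ^ i * q) ⟨0, 1, Q1.one_mem, by group⟩ ?_ hu
  rintro a g hg ⟨i, q, hq, rfl⟩
  have h := gens1
  rw [List.all_eq_true] at h
  have h1 := h g hg
  rw [Bool.or_eq_true] at h1
  rcases h1 with h1 | h1
  · rw [Nat.eq_of_beq_eq_true h1, ← ya_eq]
    refine ⟨i + 1, _, UT_conj_Q1 (UT.inv_mem ya_mem) hq, ?_⟩
    rw [pow_succ, inv_inv]
    group
  · exact ⟨i, q * ec g.1, Q1.mul_mem hq ⟨gens_mem g hg, ec_mem_RG h1⟩, by rw [mul_assoc]⟩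

theorem yb_pow4 : yb ^ 4 = 1 := by
  have h : mulU 80 80 = 0 := by decide +kernel
  have e : yb ^ 4 = yb * yb * (yb * yb) := by rw [pow_succ, pow_succ, pow_two, mul_assoc, mul_assoc]
  rw [e, yb_sq, zb_eq, ← ec_mulU, h, ec_zero]

theorem zb_sq : zb * zb = 1 := by
  have h : mulU 80 80 = 0 := by decide +kernel
  rw [zb_eq, ← ec_mulU, h, ec_zero]

theorem ya_sq : ya * ya = 1 := by
  have h : mulU 513 513 = 0 := by decide +kernel
  rw [ya_eq, ← ec_mulU, h, ec_zero]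

theorem relIndex8 : Q8.relIndex UT ∣ 4 :=
  relIndex_dvd_of_cyclic (fun _ hb _ hq => UT_conj_Q8 hb hq) yb_mem (by rw [yb_pow4]; exact Q8.one_mem)
    fun _ hb => UT_decomp8 hb

theorem relIndex1 : Q1.relIndex UT ∣ 2 :=
  relIndex_dvd_of_cyclic (fun _ hb _ hq => UT_conj_Q1 hb hq) ya_mem (by rw [pow_two, ya_sq]; exact Q1.one_mem)
    fun _ hb => UT_decomp1 hb

/-! ### `UT` is a Sylow 2-subgroup of `HT` -/

theorem UT_le_HT : UT ≤ HT := inf_le_right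

theorem relIndex_UT : UT.relIndex HT = 3 ^ 3 * 5 ^ 2 * 13 := by
  have h := card_of_relIndex UT_le_HT _ rfl
  rw [card_UT, card_HT] at h
  have h2 : 2 ^ 12 * UT.relIndex HT = 2 ^ 12 * (3 ^ 3 * 5 ^ 2 * 13) := by
    rw [h]
    ring
  exact Nat.eq_of_mul_eq_mul_left (by norm_num) h2

theorem odd_relIndex {P : Subgroup LL} (h1 : UT ≤ P) (h2 : P ≤ HT) : Nat.Coprime 2 (UT.relIndex P) := by
  have h : UT.relIndex P ∣ UT.relIndex HT := Dvd.intro _ (Subgroup.relIndex_mul_relIndex UT P HT h1 h2)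
  rw [relIndex_UT] at h
  exact Nat.Coprime.coprime_dvd_right h (by norm_num)

theorem isPGroup_UT : IsPGroup 2 ↥UT := IsPGroup.of_card card_UT

/-! ### the parabolic subgroups -/

/-- `C_HT(z)` -/
def Pz : Subgroup LL := HT ⊓ Subgroup.centralizer {z}

theorem mem_Pz {g : LL} : g ∈ Pz ↔ g ∈ HT ∧ g * z * g⁻¹ = z := by
  unfold Pz
  rw [Subgroup.mem_inf, Subgroup.mem_centralizer_singleton_iff, mul_inv_eq_iff_eq_mul]

theorem UT_le_Pz : UT ≤ Pz := fun _ hu => mem_Pz.2 ⟨hu.2, z_central hu⟩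

theorem Pz_conj_Q8 {p q : LL} (hp : p ∈ Pz) (hq : q ∈ Q8) : p * q * p⁻¹ ∈ Q8 := by
  obtain ⟨hp1, hp2⟩ := mem_Pz.1 hp
  obtain ⟨u, hu, v, hv, rfl | rfl⟩ := cent_z_cases hp1 hp2
  · exact UT_conj_Q8 (UT.mul_mem hu hv) hq
  · have h := UT_conj_Q8 hu (nb_conj_Q8 (UT_conj_Q8 hv hq))
    have e : u * nb * v * q * (u * nb * v)⁻¹ = u * (nb * (v * q * v⁻¹) * nb⁻¹) * u⁻¹ := by group
    rw [e]
    exact h

/-- codes of `V4` -/
def L4 : List ℕ := [0, 9437184, 4259840, 13697024]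

/-- the four-group `⟨z, z1⟩` -/
def V4 : Subgroup LL where
  carrier := {g | ∃ e ∈ L4, g = ec e}
  one_mem' := ⟨0, by decide, ec_zero.symm⟩
  mul_mem' := by
    rintro _ _ ⟨a, ha, rfl⟩ ⟨b, hb, rfl⟩
    have h : (L4.all fun a => L4.all fun b => L4.contains (mulU a b)) = true := by decide +kernel
    rw [List.all_eq_true] at h
    have h1 := h a ha
    rw [List.all_eq_true] at h1
    exact ⟨mulU a b, List.contains_iff_mem.1 (h1 b hb), (ec_mulU a b).symm⟩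
  inv_mem' := by
    rintro _ ⟨a, ha, rfl⟩
    have h : (L4.all fun a => L4.contains (invU a)) = true := by decide +kernel
    rw [List.all_eq_true] at h
    exact ⟨invU a, List.contains_iff_mem.1 (h a ha), (ec_invU a).symm⟩

theorem mem_V4 {g : LL} : g ∈ V4 ↔ ∃ e ∈ L4, g = ec e := Iff.rfl

theorem mem_V4_iff {g : LL} : g ∈ V4 ↔ g = 1 ∨ g = z ∨ g = z1 ∨ g = z * z1 := by
  rw [mem_V4, z_mul_z1, ← ec_zero]
  simp only [L4, List.mem_cons, List.not_mem_nil, or_false]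
  constructor
  · rintro ⟨e, rfl | rfl | rfl | rfl, rfl⟩
    · exact Or.inl rfl
    · exact Or.inr (Or.inl rfl)
    · exact Or.inr (Or.inr (Or.inl rfl))
    · exact Or.inr (Or.inr (Or.inr rfl))
  · rintro (rfl | rfl | rfl | rfl)
    · exact ⟨0, Or.inl rfl, rfl⟩
    · exact ⟨9437184, Or.inr (Or.inl rfl), rfl⟩
    · exact ⟨4259840, Or.inr (Or.inr (Or.inl rfl)), rfl⟩
    · exact ⟨13697024, Or.inr (Or.inr (Or.inr rfl)), rfl⟩

theorem z_mem_V4 : z ∈ V4 := mem_V4_iff.2 (Or.inr (Or.inl rfl))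
theorem z1_mem_V4 : z1 ∈ V4 := mem_V4_iff.2 (Or.inr (Or.inr (Or.inl rfl)))

theorem V4_le_UT : V4 ≤ UT := by
  intro g hg
  rcases mem_V4_iff.1 hg with rfl | rfl | rfl | rfl
  · exact UT.one_mem
  · exact z_mem
  · exact z1_mem
  · exact UT.mul_mem z_mem z1_mem

theorem V4_le_TT : V4 ≤ TT := by
  intro g hg
  rcases mem_V4_iff.1 hg with rfl | rfl | rfl | rfl
  · exact TT.one_mem
  · exact z_mem_TT
  · exact z1_mem_TT
  · exact TT.mul_mem z_mem_TT z1_mem_TT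

theorem UT_conj_V4 {u v : LL} (hu : u ∈ UT) (hv : v ∈ V4) : u * v * u⁻¹ ∈ V4 := by
  obtain ⟨e, he, rfl⟩ := mem_V4.1 hv
  exact UT_conj_list (by decide +kernel) hu e he

theorem na_conj_V4 {v : LL} (hv : v ∈ V4) : na * v * na⁻¹ ∈ V4 := by
  obtain ⟨e, he, rfl⟩ := mem_V4.1 hv
  have h : (L4.all fun e => posW [0, 3] e && L4.contains (reflW [0, 3] e)) = true := by decide +kernel
  rw [List.all_eq_true] at h
  have h1 := h e he
  rw [Bool.and_eq_true] at h1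
  exact ⟨_, List.contains_iff_mem.1 h1.2, nw_conj_ec (w := [0, 3]) (by decide) h1.1⟩

/-- `N_HT(V4)` -/
def Pv : Subgroup LL := HT ⊓ Subgroup.normalizer (V4 : Set LL)

theorem Pv_conj_V4 {p v : LL} (hp : p ∈ Pv) (hv : v ∈ V4) : p * v * p⁻¹ ∈ V4 :=
  (Subgroup.mem_normalizer_iff.1 hp.2 v).1 hv

theorem mem_normalizer_of {G : Type*} [Group G] [Finite G] {H : Subgroup G} {g : G} (h : ∀ x ∈ H, g * x * g⁻¹ ∈ H) :
    g ∈ Subgroup.normalizer (H : Set G) := by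
  rw [Subgroup.mem_normalizer_iff]
  intro x
  refine ⟨fun hx => h x hx, fun hx => ?_⟩
  have hinj : Function.Injective (fun y : ↥H => (⟨g * y * g⁻¹, h y y.2⟩ : ↥H)) := by
    intro a b hab
    have h1 := congrArg Subtype.val hab
    apply Subtype.ext
    simpa using h1
  obtain ⟨y, hy⟩ := Finite.surjective_of_injective hinj ⟨g * x * g⁻¹, hx⟩
  have h1 : g * (y : G) * g⁻¹ = g * x * g⁻¹ := congrArg Subtype.val hy
  have h2 : (y : G) = x := by simpa using h1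
  rw [← h2]
  exact y.2

theorem mem_Pv {g : LL} (hg : g ∈ HT) (h : ∀ v ∈ V4, g * v * g⁻¹ ∈ V4) : g ∈ Pv := ⟨hg, mem_normalizer_of h⟩

theorem UT_le_Pv : UT ≤ Pv := fun _ hu => mem_Pv hu.2 fun _ hv => UT_conj_V4 hu hv

theorem W_v : (W16.all fun w => w == [] || w == [0, 3] || badW w 9437184 L4 || badW w 4259840 L4) = true := by
  decide +kernel

theorem Pv_cases {g : LL} (hg : g ∈ Pv) : ∃ u ∈ UT, ∃ v ∈ UT, g = u * v ∨ g = u * na * v := by
  obtain ⟨u, hu, w, hw, v, hv, rfl⟩ := bruhat_HT hg.1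
  refine ⟨u, hu, v, hv, ?_⟩
  have h4 : ∀ x ∈ V4, nw w * x * (nw w)⁻¹ ∈ V4 := by
    intro x hx
    have h5 := UT_conj_V4 (UT.inv_mem hu) (Pv_conj_V4 hg (UT_conj_V4 (UT.inv_mem hv) hx))
    have e : u⁻¹ * (u * nw w * v * (v⁻¹ * x * (v⁻¹)⁻¹) * (u * nw w * v)⁻¹) * (u⁻¹)⁻¹ = nw w * x * (nw w)⁻¹ := by
      group
    rw [e] at h5
    exact h5
  have h2 := W_v
  rw [List.all_eq_true] at h2
  have h3 := h2 w hw
  rw [Bool.or_eq_true, Bool.or_eq_true, Bool.or_eq_true, beq_iff_eq, beq_iff_eq] at h3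
  rcases h3 with ((h3 | h3) | h3) | h3
  · left
    rw [h3]
    show u * 1 * v = u * v
    rw [mul_one]
  · right
    rw [h3]
    rfl
  · obtain ⟨e', he', h6⟩ := mem_V4.1 (h4 z z_mem_V4)
    exact absurd h6 (not_mem_of_badW (lt_of_mem_W16 hw) (by decide) h3 he')
  · obtain ⟨e', he', h6⟩ := mem_V4.1 (h4 z1 z1_mem_V4)
    exact absurd h6 (not_mem_of_badW (lt_of_mem_W16 hw) (by decide) h3 he')

theorem Pv_conj_Q1 {p q : LL} (hp : p ∈ Pv) (hq : q ∈ Q1) : p * q * p⁻¹ ∈ Q1 := by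
  obtain ⟨u, hu, v, hv, rfl | rfl⟩ := Pv_cases hp
  · exact UT_conj_Q1 (UT.mul_mem hu hv) hq
  · have h := UT_conj_Q1 hu (na_conj_Q1 (UT_conj_Q1 hv hq))
    have e : u * na * v * q * (u * na * v)⁻¹ = u * (na * (v * q * v⁻¹) * na⁻¹) * u⁻¹ := by group
    rw [e]
    exact h

/-! ### the opposite unipotent group -/

theorem w0_eq : w0 = nw (alt true 8) :=
  nw_eq_of_act w0L_lt (lt_of_mem_W16 (by decide)) (by decide +kernel)

theorem nw_mem_TT {w : List ℕ} (hw : w ∈ W16) : nw w ∈ TT := by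
  have key : ∀ n : ℕ, ∀ b : Bool, nw (alt b n) ∈ TT := by
    intro n
    induction n with
    | zero => intro b; cases b <;> exact one_mem _
    | succ n ih =>
      intro b
      cases b
      · show nw ([1, 2, 1, 2] ++ alt true n) ∈ TT
        rw [nw_append]
        exact TT.mul_mem nb_mem_TT (ih true)
      · show nw ([0, 3] ++ alt false n) ∈ TT
        rw [nw_append]
        exact TT.mul_mem na_mem_TT (ih false)
  unfold W16 at hw
  rw [List.mem_append, List.mem_map, List.mem_map] at hw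
  rcases hw with ⟨k, -, rfl⟩ | ⟨k, -, rfl⟩
  · exact key _ _
  · exact key _ _

theorem w0_mem_TT : w0 ∈ TT := by
  rw [w0_eq]
  exact nw_mem_TT (by decide)

theorem w0_mem_HT : w0 ∈ HT := TT_le w0_mem_TT

theorem w0_mul_self : w0 * w0 = 1 := by
  have h : w0 * w0 = nw (w0L ++ w0L) := (nw_append _ _).symm
  rw [h]
  exact nw_eq_of_act (w' := []) (by decide) (by decide) (by decide +kernel)

theorem w0_inv : w0⁻¹ = w0 := by rw [inv_eq_iff_mul_eq_one, w0_mul_self]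

/-- the opposite unipotent subgroup -/
def VT : Subgroup LL := cj w0 UT

theorem mem_VT {g : LL} : g ∈ VT ↔ w0 * g * w0 ∈ UT := by
  unfold VT
  rw [mem_cj, w0_inv]

theorem VT_le_HT : VT ≤ HT := by
  intro g hg
  have h := HT.mul_mem (HT.mul_mem w0_mem_HT (mem_VT.1 hg).2) w0_mem_HT
  have e : w0 * (w0 * g * w0) * w0 = (w0 * w0) * g * (w0 * w0) := by group
  rw [e, w0_mul_self, one_mul, mul_one] at h
  exact h

theorem w0_conj_U {u : LL} (hu : u ∈ U) : w0 * u * w0 ∈ V := by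
  rw [U_eq_closure] at hu
  refine Subgroup.closure_induction (p := fun u _ => w0 * u * w0 ∈ V) ?_ ?_ ?_ ?_ hu
  · rintro _ ⟨r, h1, h2, rfl⟩
    have h := w0_conj h2
    rw [w0_inv] at h
    rw [h]
    exact x_mem_V (by omega)
  · rw [mul_one, w0_mul_self]
    exact V.one_mem
  · intro a b _ _ ha hb
    have e : w0 * (a * b) * w0 = w0 * a * w0 * ((w0 * w0)⁻¹ * (w0 * b * w0)) := by group
    rw [e, w0_mul_self, inv_one, one_mul]
    exact V.mul_mem ha hb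
  · intro a _ ha
    have e : w0 * a⁻¹ * w0 = (w0⁻¹ * a * w0⁻¹)⁻¹ := by group
    rw [e, w0_inv]
    exact V.inv_mem ha

theorem VT_le_V : VT ≤ V := by
  intro g hg
  have h := w0_conj_U (mem_VT.1 hg).1
  have e : w0 * (w0 * g * w0) * w0 = (w0 * w0) * g * (w0 * w0) := by group
  rw [e, w0_mul_self, one_mul, mul_one] at h
  exact h

theorem UT_inf_VT {g : LL} (h1 : g ∈ UT) (h2 : g ∈ VT) : g = 1 := by
  have h : g ∈ U ⊓ V := ⟨h1.1, VT_le_V h2⟩
  rw [U_inf_V, Subgroup.mem_bot] at h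
  exact h

theorem card_VT : Nat.card ↥VT = 2 ^ 12 := by
  unfold VT
  rw [card_cj, card_UT]

theorem w0_conj_ybm : w0 * ybm * w0 = yb := by
  have h := nw_conj_wd (w := w0L) w0L_lt (l := [20, 22, 19]) (by decide)
  have e : ([20, 22, 19].map (act w0L)) = [27, 25, 28] := by decide +kernel
  rw [e] at h
  have h2 : w0 * ybm * w0⁻¹ = yb := h
  rw [w0_inv] at h2
  exact h2

theorem w0_conj_yam : w0 * yam * w0 = ya := by
  have h := nw_conj_wd (w := w0L) w0L_lt (l := [14, 23]) (by decide)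
  have e : ([14, 23].map (act w0L)) = [33, 24] := by decide +kernel
  rw [e] at h
  have h2 : w0 * yam * w0⁻¹ = ya := h
  rw [w0_inv] at h2
  exact h2

theorem ybm_mem_VT : ybm ∈ VT := by rw [mem_VT, w0_conj_ybm]; exact yb_mem
theorem yam_mem_VT : yam ∈ VT := by rw [mem_VT, w0_conj_yam]; exact ya_mem

theorem ybm_sq : ybm * ybm = zbm := by
  rw [← nb_conj_yb, ← nb_conj_zb, ← yb_sq]
  group

theorem ybm_mem_Pz : ybm ∈ Pz := by
  rw [mem_Pz]
  refine ⟨ybm_mem_HT, ?_⟩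
  rw [← nb_conj_yb]
  have e : nb * yb * nb⁻¹ * z * (nb * yb * nb⁻¹)⁻¹ = nb * (yb * (nb⁻¹ * z * nb) * yb⁻¹) * nb⁻¹ := by group
  have h1 : nb⁻¹ * z * nb = z := by
    have h := nb_conj_z
    rw [nb_inv] at h ⊢
    exact h
  rw [e, h1, z_central yb_mem, nb_conj_z]

theorem yam_mem_Pv : yam ∈ Pv := by
  refine mem_Pv yam_mem_HT fun v hv => ?_
  rw [← na_conj_ya]
  have e : na * ya * na⁻¹ * v * (na * ya * na⁻¹)⁻¹ = na * (ya * (na * v * na⁻¹) * ya⁻¹) * na⁻¹ := by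
    have e1 : na * ya * na⁻¹ * v * (na * ya * na⁻¹)⁻¹ = na * (ya * (na⁻¹ * v * na) * ya⁻¹) * na⁻¹ := by group
    rw [e1, na_inv]
  rw [e]
  exact na_conj_V4 (UT_conj_V4 ya_mem (na_conj_V4 hv))

theorem zbm_ne : zbm ≠ 1 := by
  intro h
  have h1 := nb_conj_zb
  rw [h] at h1
  have h2 : zb = nb⁻¹ * (nb * zb * nb⁻¹) * nb := by group
  rw [h1, zb_eq] at h2
  apply ec_ne_one (e := 80) (by norm_num) (by norm_num)
  rw [h2]
  group

theorem yam_ne : yam ≠ 1 := by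
  intro h
  have h1 := na_conj_ya
  rw [h] at h1
  have h2 : ya = na⁻¹ * (na * ya * na⁻¹) * na := by group
  rw [h1, ya_eq] at h2
  apply ec_ne_one (e := 513) (by norm_num) (by norm_num)
  rw [h2]
  group

theorem orderOf_ybm : orderOf ybm = 4 := by
  have : Fact (Nat.Prime 2) := ⟨Nat.prime_two⟩
  have h : orderOf ybm = 2 ^ (1 + 1) := by
    apply orderOf_eq_prime_pow
    · rw [pow_one, pow_two, ybm_sq]
      exact zbm_ne
    · rw [← nb_conj_yb, conj_pow_aux]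
      have e : yb ^ 2 ^ (1 + 1) = 1 := yb_pow4
      rw [e]
      group
  rw [h]
  norm_num

theorem yam_sq : yam * yam = 1 := by
  rw [← na_conj_ya]
  have e : na * ya * na⁻¹ * (na * ya * na⁻¹) = na * (ya * ya) * na⁻¹ := by group
  rw [e, ya_sq]
  group

theorem orderOf_yam : orderOf yam = 2 := by
  have : Fact (Nat.Prime 2) := ⟨Nat.prime_two⟩
  exact orderOf_eq_prime (by rw [pow_two, yam_sq]) yam_ne

theorem eq_zpowers_of {G : Type*} [Group G] [Finite G] {Y : Subgroup G} {y : G} (hy : y ∈ Y) {n : ℕ}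
    (ho : orderOf y = n) (hn : 0 < n) (hd : Nat.card ↥Y ∣ n) : Y = Subgroup.zpowers y := by
  symm
  apply Subgroup.eq_of_le_of_card_ge
  · rw [Subgroup.zpowers_le]
    exact hy
  · rw [Nat.card_zpowers, ho]
    exact Nat.le_of_dvd hn hd

/-- the elements of `VT` commuting with `z` -/
theorem VT_cent_z {g : LL} (hg : g ∈ VT) (h : g * z * g⁻¹ = z) : g ∈ Subgroup.zpowers ybm := by
  have h1 : Nat.card ↥(VT ⊓ Pz : Subgroup LL) ∣ Q8.relIndex UT * UT.relIndex Pz :=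
    card_dvd Q8_le UT_le_Pz inf_le_right (fun _ hp _ hq => Pz_conj_Q8 hp hq)
      fun y hy hy' => UT_inf_VT (Q8_le hy') hy.1
  have h2 : Nat.card ↥(VT ⊓ Pz : Subgroup LL) ∣ 2 ^ 12 := by
    rw [← card_VT]
    exact Subgroup.card_dvd_of_le inf_le_left
  have h3 : Nat.Coprime (Nat.card ↥(VT ⊓ Pz : Subgroup LL)) (UT.relIndex Pz) :=
    Nat.Coprime.coprime_dvd_left h2 (Nat.Coprime.pow_left 12 (odd_relIndex UT_le_Pz inf_le_left))
  have h4 := (h3.dvd_of_dvd_mul_right h1).trans relIndex8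
  have h5 := eq_zpowers_of (⟨ybm_mem_VT, ybm_mem_Pz⟩ : ybm ∈ VT ⊓ Pz) orderOf_ybm (by norm_num) h4
  rw [← h5]
  exact ⟨hg, mem_Pz.2 ⟨VT_le_HT hg, h⟩⟩

/-- the elements of `VT ⊓ TT` commuting with `z` -/
theorem VT_TT_cent_z {g : LL} (hg : g ∈ VT) (hT : g ∈ TT) (h : g * z * g⁻¹ = z) : g = 1 ∨ g = zbm := by
  have hn : ybm ∉ TT := by
    intro h1
    rw [← nb_conj_yb, TT_conj_iff nb_mem_HT] at h1
    exact yb_not_mem_TT h1
  rw [← ybm_sq]
  refine zpowers_four ?_ hn ?_ (VT_cent_z hg h) hT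
  · have h5 := pow_orderOf_eq_one ybm
    rw [orderOf_ybm, pow_succ, pow_succ, pow_two, mul_assoc] at h5
    exact h5
  · rw [ybm_sq]
    exact zbm_mem_TT

/-- the elements of `VT` normalising `V4` -/
theorem VT_norm_V4 {g : LL} (hg : g ∈ VT) (h : ∀ v ∈ V4, g * v * g⁻¹ ∈ V4) : g = 1 ∨ g = yam := by
  have h1 : Nat.card ↥(VT ⊓ Pv : Subgroup LL) ∣ Q1.relIndex UT * UT.relIndex Pv :=
    card_dvd Q1_le UT_le_Pv inf_le_right (fun _ hp _ hq => Pv_conj_Q1 hp hq)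
      fun y hy hy' => UT_inf_VT (Q1_le hy') hy.1
  have h2 : Nat.card ↥(VT ⊓ Pv : Subgroup LL) ∣ 2 ^ 12 := by
    rw [← card_VT]
    exact Subgroup.card_dvd_of_le inf_le_left
  have h3 : Nat.Coprime (Nat.card ↥(VT ⊓ Pv : Subgroup LL)) (UT.relIndex Pv) :=
    Nat.Coprime.coprime_dvd_left h2 (Nat.Coprime.pow_left 12 (odd_relIndex UT_le_Pv inf_le_left))
  have h4 := (h3.dvd_of_dvd_mul_right h1).trans relIndex1
  have h5 := eq_zpowers_of (⟨yam_mem_VT, yam_mem_Pv⟩ : yam ∈ VT ⊓ Pv) orderOf_yam (by norm_num) h4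
  have h6 : g ∈ Subgroup.zpowers yam := by
    rw [← h5]
    exact ⟨hg, mem_Pv (VT_le_HT hg) h⟩
  exact zpowers_two yam_sq h6

end Cfsg.Agent.TitsK
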