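import Cfsg.Agent.TitsK.KTwo
import Cfsg.Agent.TitsK.Inst
import Cfsg.Agent.TitsK.SheetT

/-!
# The 2-rank of `²F₄(2)` is at most 5 (helper369)

`UT` has 143 involutions, only 23 of them commute with more than 46 involutions.  So an elementary abelian subgroup of
`UT` has order at most `2 ^ 5` (`card_elem_five`), and the 2-rank of the automorphism group of the Tits group is at
most 5 (`rk_five`).
-/

set_option autoImplicit false
set_option Elab.async false

namespace Cfsg.Agent.TitsK

open Cfsg.Lie Cfsg.Agent.ChevalleyStructure.TwF4.Tables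
open Cfsg.Agent.FourTwo.Base hiding bar bar_lt
open Cfsg.Agent.FourTwo.BN Cfsg.Agent.FourTwo.Comm Cfsg.Agent.FourTwo.Classes
open Cfsg.Agent.FourTwo.UCode (mulU invU conjU lets colW colF force force_eq mem_lets wel_lets wel_mem)

/-- the codes of the elements of square 1 -/
def LI : List ℕ := [0, 80, 513, 8448, 8528, 12165, 141093, 142241, 266240, 266753, 540672, 541185, 549120, 681765, 806912,
  807425, 981488, 1546480, 1867653, 1997729, 2129920, 2130000, 2130433, 2138368, 2138448, 2272161, 2396160,
  2396673, 2670592, 2671105, 2679040, 2682757, 2936832, 2937345, 3045872, 3456901, 3585829, 3610864, 4126501,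
  4127649, 4259840, 4259920, 4268288, 4268368, 4526080, 4800512, 4808960, 4812677, 4942753, 5066752, 5241328,
  5586821, 5675248, 5715749, 5716897, 6256421, 6389760, 6389840, 6398208, 6398288, 6401925, 6530853, 6656000,
  6930432, 6938880, 7071525, 7072673, 7196672, 7305712, 7739632, 7846817, 8257413, 8886512, 9207685, 9337761,
  9437184, 9437264, 9437697, 9445632, 9445712, 9449349, 9578277, 9579425, 9703424, 9703937, 9977856, 9978369,
  9986304, 10118949, 10244096, 10244609, 10418672, 10796933, 10925861, 10950896, 11466533, 11467681, 11567104,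
  11567184, 11567617, 11575552, 11575632, 11709345, 11833344, 11833857, 12107776, 12108289, 12116224, 12119941,
  12374016, 12374529, 12483056, 12926853, 13015280, 13055781, 13056929, 13596453, 13697024, 13697104, 13705472,
  13705552, 13963264, 14237696, 14246144, 14249861, 14379937, 14503936, 14678512, 15079664, 15186849, 15597445,
  15826944, 15827024, 15835392, 15835472, 15839109, 15968037, 16093184, 16367616, 16376064, 16508709, 16509857,
  16633856, 16742896]

/-- the codes of the elements commuting with more than 47 elements of square 1 -/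
def SM : List ℕ := [0, 540672, 806912, 2129920, 2396160, 2670592, 2936832, 4259840, 4526080, 4800512, 6389760, 6930432, 9437184,
  9977856, 10244096, 11567104, 11833344, 12107776, 12374016, 13697024, 13963264, 14237696, 15826944, 16367616]

/-- the number of members of `L` commuting with `e` -/
def cc (e : ℕ) (L : List ℕ) : ℕ :=
  List.rec 0 (fun a _ ih => Nat.add ih (cond (Nat.beq (mulU e a) (mulU a e)) 1 0)) L

theorem cc_cons (e a : ℕ) (L : List ℕ) :
    cc e (a :: L) = cc e L + cond (Nat.beq (mulU e a) (mulU a e)) 1 0 := rfl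

theorem cc_eq (e : ℕ) (L : List ℕ) : (L.filter fun a => Nat.beq (mulU e a) (mulU a e)).length = cc e L := by
  induction L with
  | nil => rfl
  | cons a L ih =>
    rw [cc_cons, ← ih]
    cases h : Nat.beq (mulU e a) (mulU a e) <;> simp [List.filter, h]

theorem chk_LI : ((LA ++ LB).all fun e => memB e LI) = true := by decide +kernel

theorem chk_SM : (LI.all fun e => memB e SM || Nat.ble (cc e LI) 63) = true := by decide +kernel

theorem length_SM : SM.length = 24 := rfl

theorem mem_LI {u : LL} (hu : u ∈ UT) (h : u * u = 1) : ∃ e ∈ LI, u = ec e := by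
  obtain ⟨e, he, rfl, -, h2⟩ := ST_all chk_invol hu (no_outer_invol hu h)
  have h4 : ec (mulU e e) = ec 0 := by rw [ec_mulU, h, ec_zero]
  have h5 : mulU e e = 0 := ec_inj (mulU_lt he e) (by norm_num) h4
  have h6 : Nat.beq (mulU e e) 0 = true := by rw [h5]; rfl
  rw [h6, cond_true, Bool.or_eq_true, Bool.or_eq_true] at h2
  have h7 := chk_LI
  rw [List.all_eq_true] at h7
  refine ⟨e, ?_, rfl⟩
  rcases h2 with (h2 | h2) | h2
  · rw [Nat.eq_of_beq_eq_true h2]
    exact memB_spec (by decide +kernel)
  · exact memB_spec (h7 e (List.mem_append_left _ (memB_spec h2)))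
  · exact memB_spec (h7 e (List.mem_append_right _ (memB_spec h2)))

theorem LI_lt : ∀ e ∈ LI, e < 2 ^ 24 := by
  have h : (LI.all fun e => Nat.blt e 16777216) = true := by decide +kernel
  rw [List.all_eq_true] at h
  intro e he
  have h1 := h e he
  rw [Nat.blt_eq] at h1
  exact h1

/-- **the 2-rank of `UT`** -/
theorem card_elem_five_UT {B : Subgroup LL} (hB : B ≤ UT) (hsq : ∀ a ∈ B, a * a = 1) : Nat.card ↥B ≤ 2 ^ 5 := by
  by_contra hc
  rw [not_le] at hc
  have h64 : 2 ^ 6 ≤ Nat.card ↥B := by
    have : Fact (Nat.Prime 2) := ⟨Nat.prime_two⟩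
    obtain ⟨n, hn⟩ := IsPGroup.iff_card.1 (isPGroup_of_sq hsq)
    rw [hn] at hc ⊢
    have h1 : 5 < n := (Nat.pow_lt_pow_iff_right (by norm_num)).1 hc
    exact Nat.pow_le_pow_right (by norm_num) h1
  have hcomm : ∀ a ∈ B, ∀ b ∈ B, a * b = b * a := by
    intro a ha b hb
    have h1 := hsq _ (mul_mem ha hb)
    calc a * b = a * (a * b * (a * b)) * b := by rw [h1, mul_one]
      _ = (a * a) * (b * a) * (b * b) := by group
      _ = b * a := by rw [hsq a ha, hsq b hb, one_mul, mul_one]
  have hSM := chk_SM
  rw [List.all_eq_true] at hSM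
  have h1 : Nat.card ↥B ≤ SM.length := by
    refine card_le_of_codes fun b hb => ?_
    obtain ⟨e, he, rfl⟩ := mem_LI (hB hb) (hsq b hb)
    refine ⟨e, ?_, rfl⟩
    have h2 := hSM e he
    rw [Bool.or_eq_true] at h2
    rcases h2 with h2 | h2
    · exact memB_spec h2
    · exfalso
      have h3 := Nat.le_of_ble_eq_true h2
      have h4 : Nat.card ↥B ≤ (LI.filter fun a => Nat.beq (mulU e a) (mulU a e)).length := by
        refine card_le_of_codes fun c hcB => ?_
        obtain ⟨f, hf, rfl⟩ := mem_LI (hB hcB) (hsq c hcB)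
        refine ⟨f, ?_, rfl⟩
        rw [List.mem_filter]
        refine ⟨hf, ?_⟩
        have h5 : ec (mulU e f) = ec (mulU f e) := by rw [ec_mulU, ec_mulU, hcomm _ hb _ hcB]
        rw [ec_inj (mulU_lt (LI_lt e he) f) (mulU_lt (LI_lt f hf) e) h5, Nat.beq_refl]
      rw [cc_eq] at h4
      omega
  rw [length_SM] at h1
  omega

/-- **the 2-rank of `²F₄(2)`** -/
theorem card_elem_five {B : Subgroup LL} (hB : B ≤ HT) (hsq : ∀ a ∈ B, a * a = 1) : Nat.card ↥B ≤ 2 ^ 5 := by
  obtain ⟨h, -, h2⟩ := KAbs.exists_conj_le odd_UT hB (isPGroup_of_sq hsq)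
  exact KAbs.card_le_of_conj (fun B' hB' hsq' => card_elem_five_UT hB' hsq') hsq h2

end Cfsg.Agent.TitsK
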