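import Cfsg.Agent.TitsK.Facts

/-!
Tables of the conjugates of `z` and of `d` in `ST` (paths in `TT`): `LA_spec`, `LB_spec`.
-/

set_option autoImplicit false
set_option Elab.async false

namespace Cfsg.Agent.TitsK

open Cfsg.Lie Cfsg.Agent.ChevalleyStructure.TwF4.Tables
open Cfsg.Agent.FourTwo.Base hiding bar bar_lt
open Cfsg.Agent.FourTwo.BN Cfsg.Agent.FourTwo.Comm Cfsg.Agent.FourTwo.Classes
open Cfsg.Agent.FourTwo.UCode (mulU invU conjU lets colW colF force force_eq mem_lets wel_lets wel_mem)

/-! ### conjugation tables -/

/-- the conjugating elements of the tables -/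
def K9 : List ℕ := [80, 513, 8448, 76186, 252958, 263662, 1179754, 4196554, 8519738]

theorem t263662 : ec 263662 ∈ TT := by
  have h : mulU 74 263172 = 263662 := by decide +kernel
  rw [← h, ec_mulU, TT_mul_iff ec74.2 ec263172.2]
  exact iff_of_false t74 t263172

theorem t1179754 : ec 1179754 ∈ TT := by
  have h : mulU 74 1179680 = 1179754 := by decide +kernel
  rw [← h, ec_mulU, TT_mul_iff ec74.2 ec1179680.2]
  exact iff_of_false t74 t1179680

theorem t4196554 : ec 4196554 ∈ TT := by
  have h : mulU 74 4196480 = 4196554 := by decide +kernel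
  rw [← h, ec_mulU, TT_mul_iff ec74.2 ec4196480.2]
  exact iff_of_false t74 t4196480

theorem t252958 : ec 252958 ∈ TT := by
  have h : invU 263662 = 252958 := by decide +kernel
  rw [← h, ec_invU]
  exact TT.inv_mem t263662

theorem t8519738 : ec 8519738 ∈ TT := by
  have h : invU 1179754 = 8519738 := by decide +kernel
  rw [← h, ec_invU]
  exact TT.inv_mem t1179754

theorem t76186 : ec 76186 ∈ TT := by
  have h : invU 4196554 = 76186 := by decide +kernel
  rw [← h, ec_invU]
  exact TT.inv_mem t4196554

theorem K9_mem : ∀ k ∈ K9, ec k ∈ TT := by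
  intro k hk
  simp only [K9, List.mem_cons, List.not_mem_nil, or_false] at hk
  rcases hk with rfl | rfl | rfl | rfl | rfl | rfl | rfl | rfl | rfl
  · exact t80
  · exact t513
  · exact t8448
  · exact t76186
  · exact t252958
  · exact t263662
  · exact t1179754
  · exact t4196554
  · exact t8519738

/-- one step of a table: `(e, k, f)` -/
def stepT (q : ℕ × ℕ × ℕ) : Bool :=
  (Nat.beq q.2.1 0 && (posW [0, 3] q.1 && Nat.beq (reflW [0, 3] q.1) q.2.2)) ||
  (Nat.beq q.2.1 1 && (posW [1, 2, 1, 2] q.1 && Nat.beq (reflW [1, 2, 1, 2] q.1) q.2.2)) ||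
  (K9.contains q.2.1 && Nat.beq (conjU q.2.1 q.1) q.2.2)

theorem stepT_spec {q : ℕ × ℕ × ℕ} (h : stepT q = true) : ∃ t ∈ TT, t * ec q.1 * t⁻¹ = ec q.2.2 := by
  unfold stepT at h
  rw [Bool.or_eq_true, Bool.or_eq_true, Bool.and_eq_true, Bool.and_eq_true, Bool.and_eq_true, Bool.and_eq_true,
    Bool.and_eq_true] at h
  rcases h with (⟨-, h1, h2⟩ | ⟨-, h1, h2⟩) | ⟨h1, h2⟩
  · refine ⟨na, na_mem_TT, ?_⟩
    rw [← Nat.eq_of_beq_eq_true h2]
    exact nw_conj_ec (by decide) h1
  · refine ⟨nb, nb_mem_TT, ?_⟩
    rw [← Nat.eq_of_beq_eq_true h2]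
    exact nw_conj_ec (by decide) h1
  · rw [List.contains_iff_mem] at h1
    refine ⟨ec q.2.1, K9_mem _ h1, ?_⟩
    rw [← Nat.eq_of_beq_eq_true h2, ec_conjU]

/-- check of a table with root `r` -/
def okT (r : ℕ) : List (ℕ × ℕ × ℕ) → Bool
  | [] => true
  | q :: T => okT r T && (stepT q && (Nat.beq q.2.2 r || (T.map Prod.fst).contains q.2.2))

theorem okT_spec {r : ℕ} {T : List (ℕ × ℕ × ℕ)} (h : okT r T = true) :
    ∀ e ∈ T.map Prod.fst, ∃ t ∈ TT, t * ec e * t⁻¹ = ec r := by
  induction T with
  | nil => intro e he; simp at he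
  | cons q T ih =>
    unfold okT at h
    rw [Bool.and_eq_true, Bool.and_eq_true, Bool.or_eq_true] at h
    obtain ⟨h1, h2, h3⟩ := h
    intro e he
    rw [List.map_cons, List.mem_cons] at he
    rcases he with rfl | he
    · obtain ⟨t, ht, h4⟩ := stepT_spec h2
      rcases h3 with h3 | h3
      · rw [Nat.eq_of_beq_eq_true h3] at h4
        exact ⟨t, ht, h4⟩
      · rw [List.contains_iff_mem] at h3
        obtain ⟨s, hs, h5⟩ := ih h1 _ h3
        refine ⟨s * t, TT.mul_mem hs ht, ?_⟩
        rw [← h5, ← h4]
        group
    · exact ih h1 e he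

/-- the table of the conjugates of `z` in `ST` -/
def TA : List (ℕ × ℕ × ℕ) := [(10950896, 513, 15835472), (10418672, 80, 3045872), (5675248, 513, 9445712), (8886512, 513, 13705552),
  (7739632, 513, 11575632), (5241328, 513, 15827024), (16742896, 513, 4259920), (11567184, 0, 6656000),
  (15835472, 252958, 80), (3045872, 513, 80), (9445712, 0, 5066752), (13705552, 0, 14503936), (11575632, 0,
  7196672), (15827024, 0, 16093184), (4259920, 0, 9703424), (16633856, 252958, 9703424), (6656000, 80, 9703424),
  (80, 0, 266240), (5066752, 4196554, 266240), (14503936, 263662, 266240), (7196672, 252958, 266240), (16093184,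
  80, 266240), (9703424, 1, 13697024), (266240, 1, 4259840), (13697024, 513, 4259840), (4259840, 0, 9437184)]

/-- the table of the conjugates of `d` in `ST` -/
def TB : List (ℕ × ℕ × ℕ) := [(16509857, 76186, 12926853), (1997729, 252958, 12926853), (15839109, 513, 12926853), (9337761, 263662,
  13596453), (6530853, 513, 13596453), (13056929, 252958, 8257413), (3456901, 8448, 8257413), (7846817, 4196554,
  7071525), (2272161, 263662, 7071525), (5716897, 76186, 12165), (14249861, 8448, 12165), (1867653, 4196554,
  142241), (6401925, 263662, 142241), (11709345, 513, 142241), (15186849, 80, 266753), (12374529, 1, 16376064),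
  (9207685, 76186, 2671105), (10796933, 8519738, 2671105), (15968037, 263662, 2671105), (4812677, 252958,
  2671105), (7072673, 80, 2671105), (2937345, 1, 6938880), (13055781, 4196554, 541185), (3585829, 1179754,
  541185), (141093, 263662, 541185), (4942753, 80, 541185), (2130433, 1, 549120), (681765, 4196554, 10244609),
  (4127649, 80, 10244609), (2396673, 1, 4808960), (5715749, 4196554, 9978369), (10925861, 1179754, 9978369),
  (9578277, 263662, 9978369), (2682757, 252958, 9978369), (14379937, 80, 9978369), (11567617, 1, 9986304),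
  (10118949, 4196554, 807425), (12119941, 8519738, 807425), (11467681, 80, 807425), (11833857, 1, 14246144),
  (4126501, 4196554, 9437697), (5586821, 76186, 9437697), (6256421, 1179754, 9437697), (15597445, 8519738,
  9437697), (16508709, 263662, 9437697), (9449349, 252958, 9437697), (9579425, 80, 9437697), (12108289, 1,
  12116224), (9703937, 1, 13705472), (3610864, 252958, 1546480), (7305712, 513, 13697104), (14678512, 513,
  6389840), (981488, 513, 2130000), (12483056, 513, 9437264), (15079664, 513, 2138448), (11466533, 4196554,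
  513), (12926853, 76186, 513), (13596453, 1179754, 513), (8257413, 8519738, 513), (7071525, 263662, 513),
  (12165, 252958, 513), (142241, 80, 513), (266753, 1, 4268288), (16376064, 513, 4268288), (2671105, 1,
  2679040), (6938880, 80, 2679040), (541185, 1, 2138368), (549120, 513, 2138368), (10244609, 1, 15835392),
  (4808960, 513, 15835392), (9978369, 1, 11575552), (9986304, 513, 11575552), (807425, 1, 6398208), (14246144,
  513, 6398208), (9437697, 1, 9445632), (12116224, 513, 9445632), (13705472, 0, 14237696), (13015280, 513,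
  8528), (6398288, 0, 12374016), (1546480, 513, 4268368), (13697104, 0, 13963264), (6389840, 0, 11833344),
  (2130000, 0, 2396160), (9437264, 0, 4526080), (2138448, 0, 2936832), (513, 1, 8448), (4268288, 8519738, 8448),
  (2679040, 513, 8448), (2138368, 0, 2670592), (15835392, 0, 16367616), (11575552, 0, 6930432), (6398208, 0,
  12107776), (9445632, 0, 4800512), (14237696, 513, 4800512), (8528, 0, 806912), (12374016, 80, 806912),
  (4268368, 0, 10244096), (13963264, 76186, 10244096), (11833344, 1179754, 10244096), (2396160, 263662,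
  10244096), (4526080, 252958, 10244096), (2936832, 80, 10244096), (9977856, 1, 11567104), (8448, 0, 540672),
  (2670592, 76186, 540672), (16367616, 1179754, 540672), (6930432, 263662, 540672), (12107776, 252958, 540672),
  (4800512, 80, 540672), (806912, 1, 6389760), (10244096, 1, 15826944), (11567104, 8519738, 15826944), (540672,
  1, 2129920), (6389760, 8519738, 2129920), (15826944, 252958, 2129920)]

theorem okTA : okT 9437184 TA = true := by decide +kernel
theorem okTB : okT 2129920 TB = true := by decide +kernel

/-- the conjugates of `z` in `ST` -/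
def LA : List ℕ := 9437184 :: TA.map Prod.fst
/-- the conjugates of `d` in `ST` -/
def LB : List ℕ := 2129920 :: TB.map Prod.fst

theorem LA_spec : ∀ e ∈ LA, ∃ t ∈ TT, t * ec e * t⁻¹ = z := by
  intro e he
  unfold LA at he
  rw [List.mem_cons] at he
  rcases he with rfl | he
  · exact ⟨1, TT.one_mem, by unfold z; group⟩
  · exact okT_spec okTA e he

theorem LB_spec : ∀ e ∈ LB, ∃ t ∈ TT, t * ec e * t⁻¹ = d := by
  intro e he
  unfold LB at he
  rw [List.mem_cons] at he
  rcases he with rfl | he
  · exact ⟨1, TT.one_mem, by unfold d; group⟩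
  · exact okT_spec okTB e he

/-- membership in a list of codes, fast in the kernel -/
def memB (e : ℕ) (L : List ℕ) : Bool := List.rec false (fun a _ ih => cond (Nat.beq e a) true ih) L

theorem memB_spec {e : ℕ} {L : List ℕ} (h : memB e L = true) : e ∈ L := by
  induction L with
  | nil =>
    have h1 : memB e [] = false := rfl
    rw [h1] at h
    exact absurd h (by decide)
  | cons a L ih =>
    have h1 : cond (Nat.beq e a) true (memB e L) = true := h
    cases h2 : Nat.beq e a with
    | false =>
      rw [h2] at h1
      exact List.mem_cons_of_mem _ (ih h1)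
    | true =>
      rw [Nat.eq_of_beq_eq_true h2]
      exact List.mem_cons_self

end Cfsg.Agent.TitsK
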